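import Mathlib

/-!
# The transvection calculus of THEOREM B1 (helper429, bb OMEGA #13318, (0) and (1))

`A` is an abelian group of exponent `2`, `Om ⊆ A` one class under `X`, and `Wf c` (`c ∈ Om`) is an equivariant family
of groups of transvections with centre `c`.
* `Dat.sym` = (s1): `[Wf c, d] ≠ 1 → [Wf d, c] ≠ 1`;
* `Dat.s2`: `w ∈ Wf c` which commutes with `d` has the same fixed points in `A` as some `w' ∈ Wf d` if `[Wf d, c] ≠ 1`;
* `Dat.all` = (1): if `n, n * s ∈ Om` have different functionals, `s` is fixed by everybody, then an element of `Wf n`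
  which centralises one `d₀ ∈ Om` with `[Wf n, d₀] ≠ 1` centralises `Om`.
-/

set_option autoImplicit false

namespace Cfsg.Agent.Omega.TTn.Calc

open Subgroup

variable {G : Type*} [Group G]

/-- transvections `Wf c` with centre `c ∈ Om` on `A` -/
structure Dat (X A : Subgroup G) (Om : Set G) (Wf : G → Subgroup G) : Prop where
  comm : ∀ u ∈ A, ∀ v ∈ A, u * v = v * u
  sq : ∀ u ∈ A, u * u = 1
  norm : ∀ g ∈ X, ∀ u ∈ A, g * u * g⁻¹ ∈ A
  OmA : ∀ c ∈ Om, c ∈ A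
  OmX : ∀ g ∈ X, ∀ c ∈ Om, g * c * g⁻¹ ∈ Om
  trans : ∀ c ∈ Om, ∀ d ∈ Om, ∃ g ∈ X, g * c * g⁻¹ = d
  WX : ∀ c ∈ Om, ∀ w ∈ Wf c, w ∈ X
  eqv : ∀ g ∈ X, ∀ c ∈ Om, ∀ w ∈ Wf c, g * w * g⁻¹ ∈ Wf (g * c * g⁻¹)
  cen : ∀ c ∈ Om, ∀ w ∈ Wf c, w * c = c * w
  act : ∀ c ∈ Om, ∀ w ∈ Wf c, ∀ u ∈ A, w * u * w⁻¹ = u ∨ w * u * w⁻¹ = u * c

theorem conj_eq_iff {w u : G} : w * u * w⁻¹ = u ↔ w * u = u * w :=
  ⟨fun h => by
    calc w * u = w * u * w⁻¹ * w := by group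
      _ = u * w := by rw [h], fun h => by rw [h]; group⟩

theorem comm_conj_iff {g w u : G} : g * w * g⁻¹ * u = u * (g * w * g⁻¹) ↔ w * (g⁻¹ * u * g) = g⁻¹ * u * g * w := by
  constructor
  · intro h
    calc w * (g⁻¹ * u * g) = g⁻¹ * (g * w * g⁻¹ * u) * g := by group
      _ = g⁻¹ * u * g * w := by rw [h]; group
  · intro h
    calc g * w * g⁻¹ * u = g * (w * (g⁻¹ * u * g)) * g⁻¹ := by group
      _ = u * (g * w * g⁻¹) := by rw [h]; group

namespace Dat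

variable {X A : Subgroup G} {Om : Set G} {Wf : G → Subgroup G}

theorem move (h : Dat X A Om Wf) {c w u : G} (hc : c ∈ Om) (hw : w ∈ Wf c) (hu : u ∈ A) (hm : w * u ≠ u * w) :
    w * u * w⁻¹ = u * c :=
  (h.act c hc w hw u hu).resolve_left fun e => hm (conj_eq_iff.mp e)

theorem move_iff (h : Dat X A Om Wf) {c w u : G} (hc : c ∈ Om) (h1 : c ≠ 1) (hw : w ∈ Wf c) (hu : u ∈ A) :
    w * u ≠ u * w ↔ w * u * w⁻¹ = u * c := by
  refine ⟨h.move hc hw hu, fun h0 h2 => h1 ?_⟩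
  rw [← conj_eq_iff, h0] at h2
  exact mul_eq_left.mp h2

/-- additivity in the first variable -/
theorem mul_comm_iff (h : Dat X A Om Wf) {c w w' u : G} (hc : c ∈ Om) (hw : w ∈ Wf c) (hw' : w' ∈ Wf c)
    (hu : u ∈ A) : w * w' * u = u * (w * w') ↔ (w * u = u * w ↔ w' * u = u * w') := by
  have hcA := h.OmA c hc
  have e0 : w * w' * u * (w * w')⁻¹ = w * (w' * u * w'⁻¹) * w⁻¹ := by group
  rw [← conj_eq_iff, e0]
  by_cases h1 : w' * u = u * w'
  · rw [conj_eq_iff.mpr h1, conj_eq_iff]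
    tauto
  · have h2 := h.move hc hw' hu h1
    have hc1 : c ≠ 1 := fun h3 => h1 (conj_eq_iff.mp (by rw [h2, h3, mul_one]))
    have h3 : w * (u * c) * w⁻¹ = w * u * w⁻¹ * c := by
      have := conj_eq_iff.mpr (h.cen c hc w hw)
      calc w * (u * c) * w⁻¹ = w * u * w⁻¹ * (w * c * w⁻¹) := by group
        _ = w * u * w⁻¹ * c := by rw [this]
    rw [h2, h3]
    by_cases h4 : w * u = u * w
    · rw [conj_eq_iff.mpr h4]
      have : u * c ≠ u := fun h5 => hc1 (mul_eq_left.mp h5)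
      tauto
    · rw [h.move hc hw hu h4, mul_assoc, h.sq c hcA, mul_one]
      tauto

/-- additivity in the second variable -/
theorem comm_mul_iff (h : Dat X A Om Wf) {c w u v : G} (hc : c ∈ Om) (hw : w ∈ Wf c)
    (hu : u ∈ A) (hv : v ∈ A) : w * (u * v) = u * v * w ↔ (w * u = u * w ↔ w * v = v * w) := by
  have hcA := h.OmA c hc
  have e0 : w * (u * v) * w⁻¹ = (w * u * w⁻¹) * (w * v * w⁻¹) := by group
  rw [← conj_eq_iff, e0]
  by_cases h1 : w * u = u * w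
  · rw [conj_eq_iff.mpr h1, mul_right_inj, conj_eq_iff]
    tauto
  · have h2 := h.move hc hw hu h1
    have hc1 : c ≠ 1 := fun h3 => h1 (conj_eq_iff.mp (by rw [h2, h3, mul_one]))
    rw [h2]
    by_cases h3 : w * v = v * w
    · rw [conj_eq_iff.mpr h3]
      have : u * c * v ≠ u * v := fun h4 => hc1 (by
        have := mul_right_cancel h4
        exact mul_eq_left.mp this)
      tauto
    · rw [h.move hc hw hv h3]
      have : u * c * (v * c) = u * v := by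
        calc u * c * (v * c) = u * (c * v) * c := by group
          _ = u * v * (c * c) := by rw [h.comm c hcA v hv]; group
          _ = u * v := by rw [h.sq c hcA, mul_one]
      tauto

/-- the functional of `w` as a set -/
def mv (A : Subgroup G) (w : G) : Set G := {u | u ∈ A ∧ w * u ≠ u * w}

theorem mv_eq_iff {w w' : G} : mv A w = mv A w' ↔ ∀ u ∈ A, (w * u = u * w ↔ w' * u = u * w') := by
  constructor
  · intro h u hu
    have := Set.ext_iff.mp h u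
    simp only [mv, Set.mem_ofPred_eq] at this
    tauto
  · intro h
    ext u
    simp only [mv, Set.mem_ofPred_eq]
    have := h u
    tauto

/-- The basic computation: `w ∈ Wf c` commutes with `d` and `v ∈ Wf d` moves `c`. -/
theorem s2' (h : Dat X A Om Wf) {c d w v : G} (hc : c ∈ Om) (hd : d ∈ Om) (hw : w ∈ Wf c) (hwd : w * d = d * w)
    (hv : v ∈ Wf d) (hvc : v * c ≠ c * v) :
    ∃ w' ∈ Wf d, ∀ u ∈ A, (w' * u = u * w' ↔ w * u = u * w) := by
  have h1 : w * v * w⁻¹ ∈ Wf d := by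
    have := h.eqv w (h.WX c hc w hw) d hd v hv
    rwa [conj_eq_iff.mpr hwd] at this
  refine ⟨w * v * w⁻¹ * v, mul_mem h1 hv, fun u hu => ?_⟩
  rw [h.mul_comm_iff hd h1 hv hu, comm_conj_iff]
  have h2 := h.act c hc w⁻¹ (inv_mem hw) u hu
  have h3 : w⁻¹ * u = u * w⁻¹ ↔ w * u = u * w := by
    constructor
    · intro h4
      calc w * u = w * (u * w⁻¹) * w := by group
        _ = u * w := by rw [← h4]; group
    · intro h4
      calc w⁻¹ * u = w⁻¹ * (u * w) * w⁻¹ := by group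
        _ = u * w⁻¹ := by rw [← h4]; group
  by_cases h4 : w * u = u * w
  · have h5 : w⁻¹ * u * w = u := by
      have := conj_eq_iff.mpr (h3.mpr h4)
      rwa [inv_inv] at this
    rw [h5]
    tauto
  · have h5 : w⁻¹ * u * w = u * c := by
      have := h.move hc (inv_mem hw) hu (fun h6 => h4 (h3.mp h6))
      rwa [inv_inv] at this
    rw [h5, h.comm_mul_iff hd hv hu (h.OmA c hc)]
    tauto

/-- the functionals of `Wf c` -/
def Fs (A : Subgroup G) (Wf : G → Subgroup G) (c : G) : Set (Set G) := {s | ∃ w ∈ Wf c, mv A w = s}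

theorem Fs_finite [Finite G] (c : G) : (Fs A Wf c).Finite := by
  have : Fs A Wf c = (mv A) '' (Wf c : Set G) := rfl
  rw [this]
  exact (Set.toFinite _).image _

theorem mem_conj (h : Dat X A Om Wf) {g u : G} (hg : g ∈ X) : g * u * g⁻¹ ∈ A ↔ u ∈ A := by
  constructor
  · intro h1
    have := h.norm g⁻¹ (inv_mem hg) _ h1
    have e : g⁻¹ * (g * u * g⁻¹) * g⁻¹⁻¹ = u := by group
    rwa [e] at this
  · exact h.norm g hg u

theorem Fs_ncard_le [Finite G] (h : Dat X A Om Wf) {c g : G} (hc : c ∈ Om) (hg : g ∈ X) :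
    (Fs A Wf c).ncard ≤ (Fs A Wf (g * c * g⁻¹)).ncard := by
  refine Set.ncard_le_ncard_of_injOn (fun s => {u | g⁻¹ * u * g ∈ s}) ?_ ?_ (Fs_finite _)
  · rintro s ⟨w, hw, rfl⟩
    refine ⟨g * w * g⁻¹, h.eqv g hg c hc w hw, ?_⟩
    ext u
    simp only [mv, Set.mem_ofPred_eq]
    have e : g⁻¹ * u * g ∈ A ↔ u ∈ A := by
      have := h.mem_conj (u := u) (inv_mem hg)
      rwa [inv_inv] at this
    rw [e, Ne, comm_conj_iff]
  · intro s _ t _ hst
    ext u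
    have := Set.ext_iff.mp hst (g * u * g⁻¹)
    simp only [Set.mem_ofPred_eq] at this
    have e : g⁻¹ * (g * u * g⁻¹) * g = u := by group
    rwa [e] at this

theorem Fs_ncard [Finite G] (h : Dat X A Om Wf) {c d : G} (hc : c ∈ Om) (hd : d ∈ Om) :
    (Fs A Wf c).ncard = (Fs A Wf d).ncard := by
  obtain ⟨g, hg, rfl⟩ := h.trans c hc d hd
  refine le_antisymm (h.Fs_ncard_le hc hg) ?_
  have := h.Fs_ncard_le hd (inv_mem hg)
  have e : g⁻¹ * (g * c * g⁻¹) * g⁻¹⁻¹ = c := by group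
  rwa [e] at this

/-- **(s1)** -/
theorem sym [Finite G] (h : Dat X A Om Wf) : ∀ c ∈ Om, ∀ d ∈ Om, (∃ w ∈ Wf c, w * d ≠ d * w) →
    ∃ w ∈ Wf d, w * c ≠ c * w := by
  intro c hc d hd ⟨v, hv, hvd⟩
  by_contra hno
  push Not at hno
  -- all of `Wf d` fixes `c`, but `v ∈ Wf c` moves `d`
  have h1 : Fs A Wf d ⊆ Fs A Wf c := by
    rintro s ⟨w, hw, rfl⟩
    obtain ⟨w', hw', h2⟩ := h.s2' hd hc hw (hno w hw) hv hvd
    exact ⟨w', hw', mv_eq_iff.mpr h2⟩
  have h2 : Fs A Wf d = Fs A Wf c :=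
    Set.eq_of_subset_of_ncard_le h1 (h.Fs_ncard hc hd).le (Fs_finite _)
  have h3 : mv A v ∈ Fs A Wf d := by
    rw [h2]
    exact ⟨v, hv, rfl⟩
  obtain ⟨w, hw, h4⟩ := h3
  rw [mv_eq_iff] at h4
  exact hvd ((h4 d (h.OmA d hd)).mp (h.cen d hd w hw))

/-- **(s2)** -/
theorem s2 [Finite G] (h : Dat X A Om Wf) : ∀ c ∈ Om, ∀ d ∈ Om, (∃ w ∈ Wf c, w * d ≠ d * w) → ∀ w ∈ Wf c,
    w * d = d * w → ∃ w' ∈ Wf d, ∀ u ∈ A, (w' * u = u * w' ↔ w * u = u * w) := by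
  intro c hc d hd hj w hw hwd
  obtain ⟨v, hv, hvc⟩ := h.sym c hc d hd hj
  exact h.s2' hc hd hw hwd hv hvc

/-- **(1)** -/
theorem all [Finite G] (h : Dat X A Om Wf) {n s d₀ : G} (hn : n ∈ Om) (hs : s ∈ A)
    (hOs : ∀ c ∈ Om, c * s ∈ Om) (hWs : ∀ c ∈ Om, ∀ w ∈ Wf c, w * s = s * w)
    (hne : ∃ k ∈ Wf n, ∀ k' ∈ Wf (n * s), ∃ u ∈ A, ¬(k' * u = u * k' ↔ k * u = u * k))
    (hd₀ : d₀ ∈ Om) (hj : ∃ w ∈ Wf n, w * d₀ ≠ d₀ * w) :
    ∀ w ∈ Wf n, w * d₀ = d₀ * w → ∀ d ∈ Om, w * d = d * w := by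
  have hns := hOs n hn
  have claimA : ∀ d ∈ Om, (∃ w ∈ Wf n, w * d ≠ d * w) → ∀ w ∈ Wf n, w * d = d * w →
      ∃ w' ∈ Wf (n * s), ∀ u ∈ A, (w' * u = u * w' ↔ w * u = u * w) := by
    intro d hd hj w hw hwd
    obtain ⟨v, hv, hvu⟩ := h.s2 n hn d hd hj w hw hwd
    obtain ⟨v₁, hv₁, hv₁n⟩ := h.sym n hn d hd hj
    have hvn : v * n = n * v := (hvu n (h.OmA n hn)).mpr (h.cen n hn w hw)
    have key : ∀ x ∈ Wf d, (x * (n * s) = n * s * x ↔ x * n = n * x) := by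
      intro x hx
      rw [h.comm_mul_iff hd hx (h.OmA n hn) hs]
      have := hWs d hd x hx
      tauto
    obtain ⟨w', hw', hw'u⟩ := h.s2 d hd (n * s) hns ⟨v₁, hv₁, fun h0 => hv₁n ((key v₁ hv₁).mp h0)⟩ v hv
      ((key v hv).mpr hvn)
    exact ⟨w', hw', fun u hu => (hw'u u hu).trans (hvu u hu)⟩
  intro w hw hwd₀ d hd
  obtain ⟨w', hw', hw'u⟩ := claimA d₀ hd₀ hj w hw hwd₀
  by_contra hwd
  obtain ⟨k, hk, hbad⟩ := hne
  have hjd : ∃ w ∈ Wf n, w * d ≠ d * w := ⟨w, hw, hwd⟩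
  by_cases hkd : k * d = d * k
  · obtain ⟨k', hk', h1⟩ := claimA d hd hjd k hk hkd
    obtain ⟨u, hu, h2⟩ := hbad k' hk'
    exact h2 (h1 u hu)
  · have h1 : k * w * d = d * (k * w) := by
      rw [h.mul_comm_iff hn hk hw (h.OmA d hd)]
      tauto
    obtain ⟨k', hk', h2⟩ := claimA d hd hjd (k * w) (mul_mem hk hw) h1
    obtain ⟨u, hu, h3⟩ := hbad (k' * w') (mul_mem hk' hw')
    apply h3
    rw [h.mul_comm_iff hns hk' hw' hu, h2 u hu, hw'u u hu, h.mul_comm_iff hn hk hw hu]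
    tauto

end Dat

end Cfsg.Agent.Omega.TTn.Calc
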