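import Cfsg.Agent.Omega.TTn.Base
import Cfsg.Agent.Omega.S5.Main

/-!
# T-T, `n` not 2-central: the normal form ((B2) of #13542)

`exists_base`: a labelled T-T pair (`Main.LabTwo` with `m = m' = 2`, `TwoAct` both ways) with `n` not
2-central is, after replacing `P₂` by a conjugate under `N_G(S)`, a `Base`.
-/

set_option autoImplicit false
set_option linter.unusedSectionVars false

namespace Cfsg.Agent.Omega.TTn

open Subgroup Cfsg Cfsg.Agent.ZN Cfsg.Agent.ZN.ChoiceBase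
open Cfsg.Agent.Omega.S5.Mod Cfsg.Agent.Omega.S5.TT
open scoped commutatorElement
open Cfsg.Agent.Omega.S5.TT.Pos (na ns as sn n_ne s_ne a_ne n_ne_a n_ne_s a_ne_s e_sq' mem_C)
open Cfsg.Agent.MinSimple.VModule (o2_isPGroup le_o2 o2_le le_normalizer_o2 o2_le_of_sylow
  normalizer_le_normalizer_zc)

universe u

variable {G : Type u} [Group G]

/-! ### Sylow's theorem -/

/-- Sylow's theorem in `N`, for a subgroup `T` with `|N : T|` odd. -/
theorem exists_conj_le_of_odd_relIndex [Finite G] {N T X : Subgroup G} (hT : IsPGroup 2 T)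
    (hd : ¬ 2 ∣ T.relIndex N) (hX : IsPGroup 2 X) (hXN : X ≤ N) :
    ∃ c ∈ N, ∀ x ∈ X, c * x * c⁻¹ ∈ T := by
  have : Fact (Nat.Prime 2) := ⟨Nat.prime_two⟩
  have hX' : IsPGroup 2 (X.subgroupOf N) := hX.comap_subtype
  obtain ⟨S2, hS2⟩ := hX'.exists_le_sylow
  obtain ⟨c, hc⟩ := MulAction.exists_smul_eq N S2
    ((hT.comap_of_injective _ N.subtype_injective).toSylow hd)
  refine ⟨c, c.2, fun x hx => ?_⟩
  have h1 : (⟨x, hXN hx⟩ : N) ∈ (S2 : Subgroup N) := hS2 (Subgroup.mem_subgroupOf.mpr hx)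
  have h2 : c * ⟨x, hXN hx⟩ * c⁻¹ ∈ ((c • S2 : Sylow 2 N) : Subgroup N) := by
    rw [Sylow.coe_subgroup_smul]
    exact Subgroup.smul_mem_pointwise_smul _ (MulAut.conj c) _ h1
  rw [hc] at h2
  exact mem_subgroupOf.1 h2

/-! ### One module -/

namespace Dih

variable {S : Sylow 2 G} {V L : Subgroup G} {M : FiveMod V L} (t : Dih S M)
include t

theorem card_S [Finite G] : Nat.card (S : Subgroup G) =
    2 * Nat.card ((S : Subgroup G) ⊓ centralizer ({M.e nn} : Set G) : Subgroup G) := by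
  obtain ⟨g, hgS, hg⟩ := t.exists_swap
  set T := (S : Subgroup G) ⊓ centralizer ({M.e nn} : Set G) with hT
  have h1 : (T.subgroupOf S).index = 2 := by
    rw [index_eq_two_iff]
    refine ⟨⟨g, hgS⟩, fun x => ?_⟩
    have hgT : g ∉ T := by
      intro h0
      have h2 := Dih.tt_n hg
      rw [mem_C.1 h0.2, mul_inv_cancel_right] at h2
      exact n_ne_a M h2
    by_cases hx : (x : G) ∈ T
    · right
      refine ⟨mem_subgroupOf.2 hx, fun h0 => hgT ?_⟩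
      have h2 := mem_subgroupOf.1 h0
      have h3 := mul_mem (inv_mem hx) h2
      have h4 : (x : G)⁻¹ * ((x * ⟨g, hgS⟩ : (S : Subgroup G)) : G) = g := by
        rw [coe_mul]; group
      rwa [h4] at h3
    · left
      refine ⟨mem_subgroupOf.2 ?_, fun h0 => hx (mem_subgroupOf.1 h0)⟩
      rcases t.mem_or hgS hg x.2 with h2 | h2
      · exact absurd h2 hx
      · exact h2
  have h2 := (T.subgroupOf (S : Subgroup G)).card_mul_index
  rw [h1] at h2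
  have h3 : Nat.card (T.subgroupOf (S : Subgroup G)) = Nat.card T :=
    Nat.card_congr (subgroupOfEquivOfLe inf_le_left).toEquiv
  rw [← h2, h3, mul_comm]

/-- `T = C_S(n)` is a Sylow 2-subgroup of `C_G(n)`, if `n` is not 2-central. -/
theorem not_dvd [Finite G] (nc : ∀ P : Sylow 2 G, ¬ (P : Subgroup G) ≤ centralizer ({M.e nn} : Set G)) :
    ¬ 2 ∣ ((S : Subgroup G) ⊓ centralizer ({M.e nn} : Set G)).relIndex
      (centralizer ({M.e nn} : Set G)) := by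
  have hf : Fact (Nat.Prime 2) := ⟨Nat.prime_two⟩
  set N := centralizer ({M.e nn} : Set G) with hN
  set T := (S : Subgroup G) ⊓ N with hT
  have hTp : IsPGroup 2 (T.subgroupOf N) :=
    (S.isPGroup'.to_le inf_le_left).comap_of_injective _ N.subtype_injective
  obtain ⟨P, hP⟩ := hTp.exists_le_sylow
  have hPG : IsPGroup 2 ((P : Subgroup N).map N.subtype) := P.isPGroup'.map _
  obtain ⟨R, hR⟩ := hPG.exists_le_sylow
  have hlt : (P : Subgroup N).map N.subtype < (R : Subgroup G) := by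
    refine lt_of_le_of_ne hR fun h0 => nc R ?_
    rw [← h0]
    exact map_subtype_le _
  have hcR : Nat.card (R : Subgroup G) = Nat.card (S : Subgroup G) :=
    Nat.card_congr (Sylow.equiv R S).toEquiv
  have h2 : 2 * Nat.card ((P : Subgroup N).map N.subtype) ≤ Nat.card (R : Subgroup G) := by
    obtain ⟨k, hk⟩ := card_dvd_of_le hR
    rw [hk, mul_comm]
    refine Nat.mul_le_mul_left _ ?_
    rcases k with _ | _ | k
    · rw [mul_zero] at hk
      exact absurd hk Nat.card_pos.ne'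
    · rw [zero_add, mul_one] at hk
      exact absurd (eq_of_le_of_card_ge hR hk.le) hlt.ne
    · omega
  have h3 : Nat.card ((P : Subgroup N).map N.subtype) = Nat.card (P : Subgroup N) :=
    Nat.card_congr (equivMapOfInjective _ _ N.subtype_injective).symm.toEquiv
  have h4 : Nat.card (T.subgroupOf N) = Nat.card T :=
    Nat.card_congr (subgroupOfEquivOfLe inf_le_right).toEquiv
  have h5 : (P : Subgroup N) = T.subgroupOf N := by
    refine (eq_of_le_of_card_ge hP ?_).symm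
    rw [h4, ← h3]
    have h6 := t.card_S
    rw [← hN, ← hT] at h6
    omega
  have h6 := P.not_dvd_index
  rw [h5] at h6
  exact h6

/-- Conjugating the module by an element of `N_G(S)`. -/
theorem cj [Finite G] {g : G} (hg : ∀ x ∈ (S : Subgroup G), g * x * g⁻¹ ∈ (S : Subgroup G)) :
    Dih S (M.cj g) := by
  have hgN : g ∈ normalizer ((S : Subgroup G) : Set G) := by
    refine mem_normalizer_of_cj_le ?_
    rintro _ ⟨x, hx, rfl⟩
    exact hg x hx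
  have hg' : ∀ x ∈ (S : Subgroup G), g⁻¹ * x * g ∈ (S : Subgroup G) := by
    intro x hx
    have := (mem_normalizer_iff.1 (inv_mem hgN) x).1 hx
    rwa [inv_inv] at this
  refine ⟨?_, ?_, ?_, ?_⟩
  · intro x hx
    rw [mem_cj]
    exact t.S_le (hg' x hx)
  · intro x hx
    rw [mem_cj]
    refine t.zS ?_
    obtain ⟨h1, h2, h3⟩ := MinSimple.VModule.mem_zc.1 hx
    refine MinSimple.VModule.mem_zc.2 ⟨hg' x h1, fun b hb => ?_, ?_⟩
    · have h4 := h2 _ (hg b hb)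
      calc b * (g⁻¹ * x * g) = g⁻¹ * (g * b * g⁻¹ * x) * g := by group
        _ = g⁻¹ * (x * (g * b * g⁻¹)) * g := by rw [h4]
        _ = g⁻¹ * x * g * b := by group
    · rw [pow_two] at h3 ⊢
      calc g⁻¹ * x * g * (g⁻¹ * x * g) = g⁻¹ * (x * x) * g := by group
        _ = 1 := by rw [h3]; group
  · intro x hx p hp
    exact t.d8 _ (hg' x hx) p (ind_of_cj hp)
  · intro p hp
    obtain ⟨b, hb, hi⟩ := t.d8' p hp
    exact ⟨_, hg b hb, M.cj_ind hi⟩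

/-- a conjugate of `s` is not `n` or `a` -/
theorem conj_s_ne [Finite G] (nc : ∀ P : Sylow 2 G, ¬ (P : Subgroup G) ≤ centralizer ({M.e nn} : Set G))
    {x : G} (hx : ∃ P : Sylow 2 G, (P : Subgroup G) ≤ centralizer ({x} : Set G)) :
    x ≠ M.e nn ∧ x ≠ M.e aa := by
  obtain ⟨P, hP⟩ := hx
  refine ⟨?_, ?_⟩
  · rintro rfl
    exact nc P hP
  · rintro rfl
    obtain ⟨g, hgS, hg⟩ := t.exists_swap
    refine nc (g • P) ?_
    rintro _ ⟨y, hy, rfl⟩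
    have h1 := mem_C.1 (hP hy)
    have h2 : g * M.e aa * g⁻¹ = M.e nn := tt_a hg
    refine mem_C.2 ?_
    change g * y * g⁻¹ * M.e nn = M.e nn * (g * y * g⁻¹)
    rw [← h2]
    calc g * y * g⁻¹ * (g * M.e aa * g⁻¹) = g * (y * M.e aa) * g⁻¹ := by group
      _ = g * (M.e aa * y) * g⁻¹ := by rw [h1]
      _ = g * M.e aa * g⁻¹ * (g * y * g⁻¹) := by group

end Dih

/-! ### Two modules with the same `n` -/

theorem exists_align [Finite G] {S : Sylow 2 G} {V₁ L₁ V₂ L₂ : Subgroup G} {M₁ : FiveMod V₁ L₁}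
    {M₂ : FiveMod V₂ L₂} (t₁ : Dih S M₁) (t₂ : Dih S M₂) {y : G}
    (hy : y * M₂.e nn * y⁻¹ = M₁.e nn)
    (nc : ∀ P : Sylow 2 G, ¬ (P : Subgroup G) ≤ centralizer ({M₁.e nn} : Set G)) :
    ∃ g h : G, y = h * g ∧ (∀ x ∈ (S : Subgroup G), g * x * g⁻¹ ∈ (S : Subgroup G)) ∧
      h * M₁.e nn = M₁.e nn * h ∧ g * M₂.e nn * g⁻¹ = M₁.e nn ∧ g * M₂.e aa * g⁻¹ = M₁.e aa := by
  set N := centralizer ({M₁.e nn} : Set G) with hN
  set T := (S : Subgroup G) ⊓ N with hT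
  set T₂ := (S : Subgroup G) ⊓ centralizer ({M₂.e nn} : Set G) with hT₂
  have hcard : Nat.card T = Nat.card T₂ := by
    have h1 := t₁.card_S
    have h2 := t₂.card_S
    rw [← hN, ← hT] at h1
    rw [← hT₂] at h2
    omega
  have hTp : IsPGroup 2 T := S.isPGroup'.to_le inf_le_left
  have hT₂p : IsPGroup 2 T₂ := S.isPGroup'.to_le inf_le_left
  -- conjugate `T₂ ^ y` to `T` in `N`
  have h1 : cj y T₂ ≤ N := by
    rintro _ ⟨x, hx, rfl⟩
    refine mem_C.2 ?_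
    have h2 := mem_C.1 hx.2
    change y * x * y⁻¹ * M₁.e nn = M₁.e nn * (y * x * y⁻¹)
    rw [← hy]
    calc y * x * y⁻¹ * (y * M₂.e nn * y⁻¹) = y * (x * M₂.e nn) * y⁻¹ := by group
      _ = y * (M₂.e nn * x) * y⁻¹ := by rw [h2]
      _ = y * M₂.e nn * y⁻¹ * (y * x * y⁻¹) := by group
  obtain ⟨c, hcN, hc⟩ := exists_conj_le_of_odd_relIndex hTp (t₁.not_dvd nc)
    (isPGroup_cj y hT₂p) h1
  have hcn : c * M₁.e nn = M₁.e nn * c := mem_C.1 hcN
  obtain ⟨k, hk⟩ : ∃ k, k = c * y := ⟨_, rfl⟩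
  have hkT : cj k T₂ = T := by
    refine eq_of_le_of_card_ge ?_ ?_
    · rintro _ ⟨x, hx, rfl⟩
      have h2 := hc (y * x * y⁻¹) ⟨x, hx, rfl⟩
      have h3 : c * (y * x * y⁻¹) * c⁻¹ = k * x * k⁻¹ := by rw [hk]; group
      rw [h3] at h2
      exact h2
    · rw [hcard]
      exact (Nat.card_congr (T₂.equivMapOfInjective _ (MulAut.conj k).injective).toEquiv).le
  have hkn : k * M₂.e nn * k⁻¹ = M₁.e nn := by
    have h2 : k * M₂.e nn * k⁻¹ = c * (y * M₂.e nn * y⁻¹) * c⁻¹ := by rw [hk]; group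
    rw [h2, hy, hcn, mul_inv_cancel_right]
  -- `k s₂ k⁻¹ = s`
  have hks : k * M₂.e ss * k⁻¹ = M₁.e ss := by
    have h2 : k * M₂.e ss * k⁻¹ ∈ zc T := by
      obtain ⟨h3, h4, h5⟩ := MinSimple.VModule.mem_zc.1 t₂.s_mem_zT
      refine MinSimple.VModule.mem_zc.2 ⟨?_, ?_, ?_⟩
      · rw [← hkT]; exact ⟨_, h3, rfl⟩
      · intro b hb
        rw [← hkT] at hb
        obtain ⟨b', hb', rfl⟩ := hb
        have h6 := h4 b' hb'
        change k * b' * k⁻¹ * (k * M₂.e ss * k⁻¹) = k * M₂.e ss * k⁻¹ * (k * b' * k⁻¹)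
        calc k * b' * k⁻¹ * (k * M₂.e ss * k⁻¹) = k * (b' * M₂.e ss) * k⁻¹ := by group
          _ = k * (M₂.e ss * b') * k⁻¹ := by rw [h6]
          _ = k * M₂.e ss * k⁻¹ * (k * b' * k⁻¹) := by group
      · rw [pow_two] at h5 ⊢
        calc k * M₂.e ss * k⁻¹ * (k * M₂.e ss * k⁻¹) = k * (M₂.e ss * M₂.e ss) * k⁻¹ := by group
          _ = 1 := by rw [h5]; group
    have h3 : ∃ P : Sylow 2 G, (P : Subgroup G) ≤ centralizer ({k * M₂.e ss * k⁻¹} : Set G) := by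
      refine ⟨k • S, ?_⟩
      rintro _ ⟨x, hx, rfl⟩
      refine mem_C.2 ?_
      have h4 := t₂.S_comm hx
      change k * x * k⁻¹ * (k * M₂.e ss * k⁻¹) = k * M₂.e ss * k⁻¹ * (k * x * k⁻¹)
      calc k * x * k⁻¹ * (k * M₂.e ss * k⁻¹) = k * (x * M₂.e ss) * k⁻¹ := by group
        _ = k * (M₂.e ss * x) * k⁻¹ := by rw [h4]
        _ = k * M₂.e ss * k⁻¹ * (k * x * k⁻¹) := by group
    obtain ⟨h4, h5⟩ := t₁.conj_s_ne nc h3
    rcases t₁.zT_le h2 with h6 | h6 | h6 | h6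
    · exfalso
      refine s_ne M₂ ?_
      rw [mul_inv_eq_one] at h6
      exact mul_eq_left.mp h6
    · exact absurd h6 h4
    · exact absurd h6 h5
    · exact h6
  -- Sylow in `N_G(T)`
  have hSH : (S : Subgroup G) ≤ normalizer (T : Set G) := t₁.S_le_normalizer_T
  have hS₂H : cj k (S : Subgroup G) ≤ normalizer (T : Set G) := by
    rw [← hkT, ← cj_normalizer]
    exact cj_mono k t₂.S_le_normalizer_T
  obtain ⟨c', hc'H, hc'⟩ := exists_conj_le_sylow S _ _ hSH (isPGroup_cj k S.isPGroup') hS₂H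
  have hc'z : ∀ {x : G}, x ∈ zc T → c' * x * c'⁻¹ ∈ zc T := by
    intro x hx
    have h2 := normalizer_le_normalizer_zc T hc'H
    exact (mem_normalizer_iff.1 h2 x).1 hx
  have hc's : c' * M₁.e ss * c'⁻¹ = M₁.e ss := by
    have h3 : ∃ P : Sylow 2 G, (P : Subgroup G) ≤ centralizer ({c' * M₁.e ss * c'⁻¹} : Set G) := by
      refine ⟨c' • S, ?_⟩
      rintro _ ⟨x, hx, rfl⟩
      refine mem_C.2 ?_
      have h4 := t₁.S_comm hx
      change c' * x * c'⁻¹ * (c' * M₁.e ss * c'⁻¹) = c' * M₁.e ss * c'⁻¹ * (c' * x * c'⁻¹)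
      calc c' * x * c'⁻¹ * (c' * M₁.e ss * c'⁻¹) = c' * (x * M₁.e ss) * c'⁻¹ := by group
        _ = c' * (M₁.e ss * x) * c'⁻¹ := by rw [h4]
        _ = c' * M₁.e ss * c'⁻¹ * (c' * x * c'⁻¹) := by group
    obtain ⟨h4, h5⟩ := t₁.conj_s_ne nc h3
    rcases t₁.zT_le (hc'z t₁.s_mem_zT) with h6 | h6 | h6 | h6
    · exfalso
      refine s_ne M₁ ?_
      rw [mul_inv_eq_one] at h6
      exact mul_eq_left.mp h6
    · exact absurd h6 h4
    · exact absurd h6 h5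
    · exact h6
  -- the element `r⁻¹`
  obtain ⟨r, hrS, hrn, hrs⟩ : ∃ r : G, (∀ x ∈ cj k (S : Subgroup G), r * x * r⁻¹ ∈ (S : Subgroup G)) ∧
      r * M₁.e nn * r⁻¹ = M₁.e nn ∧ r * M₁.e ss * r⁻¹ = M₁.e ss := by
    rcases t₁.zT_le (hc'z t₁.n_mem_zT) with h6 | h6 | h6 | h6
    · exfalso
      refine n_ne M₁ ?_
      rw [mul_inv_eq_one] at h6
      exact mul_eq_left.mp h6
    · exact ⟨c', hc', h6, hc's⟩
    · obtain ⟨x, hxS, hx⟩ := t₁.exists_swap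
      refine ⟨x * c', fun z hz => ?_, ?_, ?_⟩
      · have h7 := mul_mem (mul_mem hxS (hc' z hz)) (inv_mem hxS)
        have h8 : x * (c' * z * c'⁻¹) * x⁻¹ = x * c' * z * (x * c')⁻¹ := by group
        rwa [h8] at h7
      · calc x * c' * M₁.e nn * (x * c')⁻¹ = x * (c' * M₁.e nn * c'⁻¹) * x⁻¹ := by group
          _ = M₁.e nn := by rw [h6, Dih.tt_a hx]
      · calc x * c' * M₁.e ss * (x * c')⁻¹ = x * (c' * M₁.e ss * c'⁻¹) * x⁻¹ := by group
          _ = M₁.e ss := by rw [hc's, Dih.tt_s hx]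
    · exfalso
      have h7 : c' * M₁.e nn * c'⁻¹ = c' * M₁.e ss * c'⁻¹ := h6.trans hc's.symm
      exact n_ne_s M₁ (mul_left_cancel (mul_right_cancel h7))
  have hrn' : r * M₁.e nn = M₁.e nn * r := by rwa [mul_inv_eq_iff_eq_mul] at hrn
  refine ⟨r * k, y * (r * k)⁻¹, by group, ?_, ?_, ?_, ?_⟩
  · intro x hx
    have h2 := hrS (k * x * k⁻¹) ⟨x, hx, rfl⟩
    have h3 : r * (k * x * k⁻¹) * r⁻¹ = r * k * x * (r * k)⁻¹ := by group
    rwa [h3] at h2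
  · have h2 : y * (r * k)⁻¹ = c⁻¹ * r⁻¹ := by rw [hk]; group
    rw [h2]
    have h3 : (r * c) * M₁.e nn = M₁.e nn * (r * c) := by
      rw [mul_assoc, hcn, ← mul_assoc, hrn', mul_assoc]
    have h4 : c⁻¹ * r⁻¹ = (r * c)⁻¹ := by group
    rw [h4, inv_mul_eq_iff_eq_mul, ← mul_assoc, h3, mul_inv_cancel_right]
  · calc r * k * M₂.e nn * (r * k)⁻¹ = r * (k * M₂.e nn * k⁻¹) * r⁻¹ := by group
      _ = M₁.e nn := by rw [hkn, hrn]
  · rw [← ns M₂, ← ns M₁]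
    calc r * k * (M₂.e nn * M₂.e ss) * (r * k)⁻¹ =
          (r * (k * M₂.e nn * k⁻¹) * r⁻¹) * (r * (k * M₂.e ss * k⁻¹) * r⁻¹) := by group
      _ = M₁.e nn * M₁.e ss := by rw [hkn, hks, hrn, hrs]

/-! ### One side of a T-T pair -/

theorem swap_d8 : ∀ i j : Fin 5, i ≠ j → (Equiv.swap i j : Equiv.Perm (Fin 5)) * dd = dd * Equiv.swap i j →
    (Equiv.swap i j : Equiv.Perm (Fin 5)) = Equiv.swap 0 1 ∨
      (Equiv.swap i j : Equiv.Perm (Fin 5)) = Equiv.swap 2 3 := by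
  decide +kernel

theorem exists_one_side [Finite G] {S : Sylow 2 G} {V L W : Subgroup G} (M : FiveMod V L)
    (hS : (S : Subgroup G) ≤ L) (hz : zc (S : Subgroup G) ≤ V) (hWS : W ≤ (S : Subgroup G))
    (hsw : ∀ w ∈ W, ∀ p, M.Ind w p → p = 1 ∨ p.IsSwap)
    (htwo : Cfsg.Agent.Omega.S5.Types.TwoAct W V) (hne : ¬ W ≤ centralizer (V : Set G)) :
    ∃ M' : FiveMod V L, Dih S M' ∧ (∀ w ∈ W, ∃ p, Tp p ∧ M'.Ind w p) ∧
      ∃ w ∈ W, M'.Ind w (Equiv.swap 0 1) := by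
  obtain ⟨σ, hd, hd'⟩ := Cfsg.Agent.Omega.S5.Types.exists_relabel M S hS
  have t : Dih S (M.relabel σ) := ⟨hS, hz, hd, hd'⟩
  -- the action of `W`
  obtain ⟨w₀, hw₀, hw₀V⟩ := SetLike.not_le_iff_exists.mp hne
  obtain ⟨p₀, hp₀⟩ := (M.relabel σ).exists_ind (hS (hWS hw₀))
  have hp₀d := hd w₀ (hWS hw₀) p₀ hp₀
  have hp₀s : p₀.IsSwap := by
    rcases hsw w₀ hw₀ _ (ind_of_relabel σ hp₀) with h1 | ⟨i, j, hij, h1⟩
    · exfalso
      have h2 : p₀ = 1 := by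
        have := congrArg (fun x => σ⁻¹ * x * σ) h1
        simpa [mul_assoc] using this
      rw [h2] at hp₀
      exact hw₀V (FiveMod.ind_one_iff.1 hp₀)
    · refine ⟨σ⁻¹ i, σ⁻¹ j, fun h => hij (σ⁻¹.injective h), ?_⟩
      have h2 : p₀ = σ⁻¹ * (σ * p₀ * σ⁻¹) * σ⁻¹⁻¹ := by group
      rw [h2, h1, Equiv.swap_apply_apply]
  have hW : ∀ w ∈ W, (M.relabel σ).Ind w 1 ∨ (M.relabel σ).Ind w p₀ := by
    intro w hw
    by_cases hwV : w ∈ centralizer (V : Set G)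
    · exact Or.inl (FiveMod.ind_one_iff.2 hwV)
    · right
      have h1 := htwo w₀ hw₀ w hw hw₀V hwV
      have h2 := hp₀.mul (FiveMod.ind_one_iff (M := M.relabel σ) |>.2 h1)
      rwa [mul_inv_cancel_left, mul_one] at h2
  obtain ⟨i, j, hij, rfl⟩ := hp₀s
  rcases swap_d8 i j hij hp₀d with h1 | h1
  · rw [h1] at hW hp₀
    refine ⟨M.relabel σ, t, fun w hw => ?_, w₀, hw₀, hp₀⟩
    rcases hW w hw with h2 | h2
    · exact ⟨1, Or.inl rfl, h2⟩
    · exact ⟨_, Or.inr rfl, h2⟩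
  · rw [h1] at hW hp₀
    have e : tt⁻¹ * Equiv.swap 2 3 * tt = (Equiv.swap 0 1 : Equiv.Perm (Fin 5)) := by decide
    refine ⟨(M.relabel σ).relabel tt, t.relabel, fun w hw => ?_, w₀, hw₀, ?_⟩
    · rcases hW w hw with h2 | h2
      · refine ⟨1, Or.inl rfl, ?_⟩
        have := relabel_ind tt h2
        rwa [show tt⁻¹ * 1 * tt = (1 : Equiv.Perm (Fin 5)) by group] at this
      · refine ⟨_, Or.inr rfl, ?_⟩
        have := relabel_ind tt h2
        rwa [e] at this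
    · have := relabel_ind tt hp₀
      rwa [e] at this

/-- `[V, V'] = ⟨n⟩` from both sides. -/
theorem comm_eq {V L W K : Subgroup G} {M : FiveMod V L} {M' : FiveMod W K}
    (hex : ∃ w ∈ W, M.Ind w (Equiv.swap 0 1)) (hact : ∀ v ∈ V, ∃ p, Tp p ∧ M'.Ind v p) :
    M'.e nn = M.e nn := by
  obtain ⟨w, hw, hi⟩ := hex
  obtain ⟨p, hp, hj⟩ := hact _ (M.e_mem mm)
  obtain ⟨u, rfl⟩ := (M'.mem_iff w).1 hw
  have h1 := hi.comm_eq mm
  have h2 := hj.comm_eq u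
  have h3 : M.e (mm ∘ (Equiv.swap 0 1 : Equiv.Perm (Fin 5)).symm + mm) = M.e nn := by
    rw [M.e_eq_iff]; decide
  rw [h3] at h1
  have h4 : M.e mm * M'.e u * (M.e mm)⁻¹ * (M'.e u)⁻¹ = M.e nn := by
    have h5 : M.e mm * M'.e u * (M.e mm)⁻¹ * (M'.e u)⁻¹ =
        (M'.e u * M.e mm * (M'.e u)⁻¹ * (M.e mm)⁻¹)⁻¹ := by group
    rw [h5, h1, M.e_inv]
  rw [h4] at h2
  rcases hp.comm u with h5 | h5
  · exfalso
    rw [(M'.ker _).2 h5] at h2
    exact n_ne M h2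
  · rw [h2, M'.e_eq_iff.2 h5]

/-- `[V, V'] ≤ ⟨n⟩` -/
theorem comm_le {V L W : Subgroup G} {M : FiveMod V L} (hact : ∀ w ∈ W, ∃ p, Tp p ∧ M.Ind w p)
    {P : Subgroup G} (hP : P ≤ centralizer ({M.e nn} : Set G)) :
    P ≤ centralizer ((⁅V, W⁆ : Subgroup G) : Set G) := by
  rw [le_centralizer_iff, commutator_le]
  intro v hv w hw
  obtain ⟨p, hp, hi⟩ := hact w hw
  obtain ⟨x, rfl⟩ := (M.mem_iff v).1 hv
  have h1 : ⁅M.e x, w⁆ = M.e (x ∘ p.symm + x) := by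
    rw [← M.e_inv (x ∘ p.symm + x), ← hi.comm_eq, commutatorElement_def]
    group
  rw [h1, mem_centralizer_iff]
  intro g hg
  rcases hp.comm x with h2 | h2
  · rw [(M.ker _).2 h2, mul_one, one_mul]
  · rw [M.e_eq_iff.2 h2]
    exact mem_C.1 (hP hg)

/-! ### The normal form -/

open Cfsg.Agent.Omega.S5 in
/-- **The normal form.** -/
theorem exists_base [Finite G] (hG : IsCharacteristicTwoType G) {S : Sylow 2 G}
    {P₁ P₂ : Subgroup G} {y : G} {ε ε₂ : (Fin (2 ^ 2 + 1) → ZMod 2) → G}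
    (h : Main.LabTwo S P₁ P₂ y 2 2 ε ε₂)
    (t1 : Types.TwoAct (cj y (zl (S : Subgroup G) P₂)) (zl (S : Subgroup G) P₁))
    (t2 : Types.TwoAct (zl (S : Subgroup G) P₁) (cj y (zl (S : Subgroup G) P₂)))
    (hC : ¬ Main.Cen (zl (S : Subgroup G) P₁) (cj y (zl (S : Subgroup G) P₂))) :
    ∃ (g k : G) (M₁ : FiveMod (zl (S : Subgroup G) P₁) P₁)
      (M₂ : FiveMod (cj g (zl (S : Subgroup G) P₂)) (cj g P₂)),
      (∀ x ∈ (S : Subgroup G), g * x * g⁻¹ ∈ (S : Subgroup G)) ∧ Base S M₁ M₂ k := by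
  obtain ⟨V, hV⟩ : ∃ V, V = zl (S : Subgroup G) P₁ := ⟨_, rfl⟩
  obtain ⟨V₂, hV₂⟩ : ∃ V₂, V₂ = zl (S : Subgroup G) P₂ := ⟨_, rfl⟩
  have hS : (S : Subgroup G) ≤ P₁ := h.pair.star₁.le
  have hS₂ : (S : Subgroup G) ≤ P₂ := h.pair.star₂.le
  have hz : zc (S : Subgroup G) ≤ V := hV ▸ MinSimple.VModule.zc_le_zl _ _
  have hz₂ : zc (S : Subgroup G) ≤ V₂ := hV₂ ▸ MinSimple.VModule.zc_le_zl _ _
  have he : Def.EvenSet 5 V P₁ ε := hV ▸ h.even
  have he₂ : Def.EvenSet 5 V₂ P₂ ε₂ := hV₂ ▸ h.even₂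
  have hle : cj y V₂ ≤ (S : Subgroup G) := hV₂ ▸ h.le
  have hge : V ≤ cj y (S : Subgroup G) := hV ▸ h.ge
  rw [← hV, ← hV₂] at t1 t2 hC
  rw [← hV, ← hV₂]
  have hne : ⁅V, cj y V₂⁆ ≠ ⊥ := by
    rw [hV, hV₂]; exact h.pair.ne
  -- the first side
  obtain ⟨M₁, s₁, a₁, e₁⟩ := exists_one_side (S := S) (OfEven.ofEven he) hS hz hle
    (fun w hw p hp => Types.swap_of_pair hG S (OfEven.ofEven he) (OfEven.ofEven he₂) hS hS₂ hz
      (hle.trans hS) (hge.trans (cj_mono y hS₂)) hw hp) t1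
    (fun h0 => hne (by rw [commutator_comm]; exact commutator_eq_bot_iff_le_centralizer.2 h0))
  -- the second side
  have hVy : cj y⁻¹ V ≤ (S : Subgroup G) := by rw [cj_le_iff, inv_inv]; exact hge
  have hV₂y : V₂ ≤ cj y⁻¹ (S : Subgroup G) := cj_le_iff.1 hle
  have t2' := t2.cj y⁻¹
  rw [cj_inv_cj] at t2'
  obtain ⟨M₂, s₂, a₂, e₂⟩ := exists_one_side (S := S) (OfEven.ofEven he₂) hS₂ hz₂ hVy
    (fun w hw p hp => Types.swap_of_pair hG S (OfEven.ofEven he₂) (OfEven.ofEven he) hS₂ hS hz₂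
      (hVy.trans hS₂) (hV₂y.trans (cj_mono y⁻¹ hS)) hw hp) t2'
    (fun h0 => hne (by
      refine commutator_eq_bot_iff_le_centralizer.2 ?_
      have h1 := cj_mono y h0
      rw [cj_cj_inv, cj_centralizer] at h1
      exact h1))
  -- `y n₂ y⁻¹ = n`
  have a₂' : ∀ v ∈ V, ∃ p, Tp p ∧ (M₂.cj y).Ind v p := by
    intro v hv
    obtain ⟨p, hp, hi⟩ := a₂ (y⁻¹ * v * y) (by rw [mem_cj, inv_inv]; convert hv using 1; group)
    refine ⟨p, hp, ?_⟩
    have h1 := M₂.cj_ind (g := y) hi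
    rwa [show y * (y⁻¹ * v * y) * y⁻¹ = v by group] at h1
  have hn : y * M₂.e nn * y⁻¹ = M₁.e nn := comm_eq (M := M₁) (M' := M₂.cj y) e₁ a₂'
  have nc : ∀ P : Sylow 2 G, ¬ (P : Subgroup G) ≤ centralizer ({M₁.e nn} : Set G) :=
    fun P hP => hC ⟨P, comm_le a₁ hP⟩
  obtain ⟨g, k, hy, hgS, hk, hgn, hga⟩ := exists_align s₁ s₂ hn nc
  refine ⟨g, k, M₁, M₂.cj g, hgS, hG, s₁, s₂.cj hgS, hgn.symm, hga.symm, hk, ?_, ?_, ?_, nc⟩
  · rw [cj_cj, ← hy]
    exact a₁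
  · intro v hv
    obtain ⟨p, hp, hi⟩ := a₂' v hv
    refine ⟨p, hp, fun x => ?_⟩
    have h1 := hi x
    rw [M₂.cj_e, M₂.cj_e] at h1
    change v * (k * (g * M₂.e x * g⁻¹) * k⁻¹) * v⁻¹ = k * (g * M₂.e (x ∘ p.symm) * g⁻¹) * k⁻¹
    calc v * (k * (g * M₂.e x * g⁻¹) * k⁻¹) * v⁻¹ = v * (y * M₂.e x * y⁻¹) * v⁻¹ := by rw [hy]; group
      _ = y * M₂.e (x ∘ p.symm) * y⁻¹ := h1
      _ = k * (g * M₂.e (x ∘ p.symm) * g⁻¹) * k⁻¹ := by rw [hy]; group
  · rw [cj_cj, ← hy]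
    exact e₁

/-- `C_G(Ω₁(Z(S))) = C_G(s)` -/
theorem Dih.cent_zc {S : Sylow 2 G} {V L : Subgroup G} {M : FiveMod V L} (t : Dih S M) :
    centralizer (zc (S : Subgroup G) : Set G) = centralizer ({M.e ss} : Set G) := by
  have hs : M.e ss ∈ zc (S : Subgroup G) :=
    MinSimple.VModule.mem_zc.2 ⟨t.V_le_S (M.e_mem _), fun b hb => t.S_comm hb, e_sq' M ss⟩
  refine le_antisymm (centralizer_le (Set.singleton_subset_iff.2 hs)) fun g hg => ?_
  rw [mem_centralizer_iff]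
  intro x hx
  rcases t.zS_le hx with rfl | rfl
  · rw [one_mul, mul_one]
  · exact (mem_C.1 hg).symm

/-- `AllIn S` : `V_P ≤ O₂(C_G(s))` -/
theorem Dih.le_Qs {S : Sylow 2 G} {V L : Subgroup G} {M : FiveMod V L} (t : Dih S M)
    (hV : V ≤ o2 (centralizer (zc (S : Subgroup G) : Set G))) : V ≤ Q (M.e ss) := by
  rwa [t.cent_zc] at hV

end Cfsg.Agent.Omega.TTn
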