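import Mathlib

/-!
# The frame of #14261 (helper439): ten pairs, `U_π, W_π, Q_π, w_π`; §1–§3

`Fr s U W Q w K`: `s i` (`i : Fin 5`) are the singular vectors of `V` (product `1`), `K = C_G(V)`,
`U i j = U_{ij}`, `W i j`, `Q i j = O₂(C_G(s i s j))`, `w i j ∈ W i j` induces the transposition.
-/

set_option autoImplicit false

namespace Cfsg.Agent.Omega.TTn.Di

open Subgroup

universe u

variable {G : Type u} [Group G]

/-- all different -/
structure D5 (i j k l m : Fin 5) : Prop where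
  ij : i ≠ j
  ik : i ≠ k
  il : i ≠ l
  im : i ≠ m
  jk : j ≠ k
  jl : j ≠ l
  jm : j ≠ m
  kl : k ≠ l
  km : k ≠ m
  lm : l ≠ m

namespace D5

variable {i j k l m : Fin 5}

theorem a (h : D5 i j k l m) : D5 j i k l m :=
  ⟨h.ij.symm, h.jk, h.jl, h.jm, h.ik, h.il, h.im, h.kl, h.km, h.lm⟩

theorem b (h : D5 i j k l m) : D5 i k j l m :=
  ⟨h.ik, h.ij, h.il, h.im, h.jk.symm, h.kl, h.km, h.jl, h.jm, h.lm⟩

theorem c (h : D5 i j k l m) : D5 i j l k m :=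
  ⟨h.ij, h.il, h.ik, h.im, h.jl, h.jk, h.jm, h.kl.symm, h.lm, h.km⟩

theorem d (h : D5 i j k l m) : D5 i j k m l :=
  ⟨h.ij, h.ik, h.im, h.il, h.jk, h.jm, h.jl, h.km, h.kl, h.lm.symm⟩

end D5

/-- commutator -/
def cm (a b : G) : G := a * b * a⁻¹ * b⁻¹

/-- conjugate -/
def cj (g x : G) : G := g * x * g⁻¹

theorem cj_mul (g x y : G) : cj g (x * y) = cj g x * cj g y := by unfold cj; group

theorem cj_inv (g x : G) : cj g x⁻¹ = (cj g x)⁻¹ := by unfold cj; group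

theorem cj_cj (g h x : G) : cj g (cj h x) = cj (g * h) x := by unfold cj; group

theorem cj_one (g : G) : cj g 1 = 1 := by unfold cj; group

theorem cj_eq_of_comm {g x : G} (h : g * x = x * g) : cj g x = x := by unfold cj; rw [h]; group

theorem comm_of_cj {g x : G} (h : cj g x = x) : g * x = x * g := by
  unfold cj at h; rw [mul_inv_eq_iff_eq_mul] at h; exact h

theorem cj_eq_cm (g x : G) : cj g x = cm g x * x := by unfold cj cm; group

theorem cm_eq (g x : G) : cm g x = cj g x * x⁻¹ := rfl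

theorem cm_one_iff {g x : G} : cm g x = 1 ↔ g * x = x * g := by
  unfold cm
  rw [mul_inv_eq_one, mul_inv_eq_iff_eq_mul]

theorem cm_eq' (g x : G) : cm g x = g * cj x g⁻¹ := by unfold cj cm; group

/-- The frame. -/
structure Fr (s : Fin 5 → G) (U W Q : Fin 5 → Fin 5 → Subgroup G) (w : Fin 5 → Fin 5 → G)
    (K : Subgroup G) : Prop where
  s_sq : ∀ i, s i * s i = 1
  s_comm : ∀ i j, s i * s j = s j * s i
  s_rel : ∀ {i j k l m}, D5 i j k l m → s i * s j * s k * s l * s m = 1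
  sK : ∀ i, s i ∈ K
  Ks : ∀ i, ∀ g ∈ K, g * s i = s i * g
  Usym : ∀ i j, U i j = U j i
  Wsym : ∀ i j, W i j = W j i
  Qsym : ∀ i j, Q i j = Q j i
  UK : ∀ {i j}, i ≠ j → U i j ≤ K
  KU : ∀ {i j}, i ≠ j → ∀ g ∈ K, ∀ u ∈ U i j, cj g u ∈ U i j
  KW : ∀ {i j}, i ≠ j → ∀ g ∈ K, ∀ u ∈ W i j, cj g u ∈ W i j
  Uab : ∀ {i j}, i ≠ j → ∀ u ∈ U i j, ∀ v ∈ U i j, u * v = v * u
  Usq : ∀ {i j}, i ≠ j → ∀ u ∈ U i j, u * u = 1
  UQ : ∀ {i j}, i ≠ j → U i j ≤ Q i j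
  UQc : ∀ {i j}, i ≠ j → ∀ q ∈ Q i j, ∀ u ∈ U i j, q * u = u * q
  WQ : ∀ {i j}, i ≠ j → W i j ≤ Q i j
  QW : ∀ {i j}, i ≠ j → ∀ q ∈ Q i j, ∀ x ∈ W i j, cm q x = 1 ∨ cm q x = s i * s j
  Wsq : ∀ {i j}, i ≠ j → ∀ x ∈ W i j, x * x = 1 ∨ x * x = s i * s j
  sU : ∀ {i j k}, i ≠ j → k ≠ i → k ≠ j → s k ∈ U i j
  sU' : ∀ {i j}, i ≠ j → s i ∉ U i j
  wW : ∀ {i j}, i ≠ j → w i j ∈ W i j
  w1 : ∀ {i j k}, i ≠ j → k ≠ i → k ≠ j → ∀ u ∈ U i k, cj (w i j) u ∈ U j k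
  w2 : ∀ {i j k}, i ≠ j → k ≠ i → k ≠ j → ∀ u ∈ U j k, cj (w i j) u ∈ U i k
  w3 : ∀ {i j k l}, i ≠ j → k ≠ i → k ≠ j → l ≠ i → l ≠ j → k ≠ l → ∀ u ∈ U k l,
    cj (w i j) u ∈ U k l
  cw : ∀ {i j k l m}, D5 i j k l m → ∀ c, (∀ y ∈ U i j, c * y = y * c) → ∀ x ∈ W k l,
    cm c x ∈ Q i j
  core : ∀ {i j k l m}, D5 i j k l m → ∀ c ∈ W j k, (∀ y ∈ U i j, c * y = y * c) →
    (∀ y ∈ U k l, c * y = y * c) → c ∈ Q i j
  inter : ∀ x, (∀ i j, i ≠ j → x ∈ U i j) → x = 1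
  faith : ∀ {i j}, i ≠ j → ∀ g ∈ K, (∀ u ∈ U i j, cm g u = 1 ∨ cm g u = s i * s j) →
    ∀ u ∈ U i j, g * u = u * g

namespace Fr

variable {s : Fin 5 → G} {U W Q : Fin 5 → Fin 5 → Subgroup G} {w : Fin 5 → Fin 5 → G}
  {K : Subgroup G} (F : Fr s U W Q w K) {i j k l m : Fin 5}

include F

theorem w_sq_comm (hij : i ≠ j) {g : G} (hg : g ∈ K) : w i j * w i j * g = g * (w i j * w i j) := by
  rcases F.Wsq hij _ (F.wW hij) with h | h
  · rw [h, one_mul, mul_one]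
  · rw [h, mul_assoc, ← F.Ks j g hg, ← mul_assoc, ← F.Ks i g hg, mul_assoc]

/-- `w` acts on `K` as an involution -/
theorem cj_w_w (hij : i ≠ j) {g : G} (hg : g ∈ K) : cj (w i j) (cj (w i j) g) = g := by
  rw [cj_cj]
  exact cj_eq_of_comm (F.w_sq_comm hij hg)

/-- preimage under `w` -/
theorem cj_w_eq (hij : i ≠ j) {g h : G} (hg : g ∈ K) (e : h = cj (w i j) g) :
    g = cj (w i j) h := by
  rw [e, F.cj_w_w hij hg]

theorem n_comm (i j : Fin 5) {g : G} (hg : g ∈ K) : g * (s i * s j) = s i * s j * g := by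
  rw [← mul_assoc, F.Ks i g hg, mul_assoc, F.Ks j g hg, ← mul_assoc]

/-- (1.1) -/
theorem tri (hij : i ≠ j) (hki : k ≠ i) (hkj : k ≠ j) {y : G} (h1 : y ∈ U i j) (h2 : y ∈ U i k) :
    y ∈ U j k := by
  have h3 := F.w1 hij hki hkj y h2
  rwa [cj_eq_of_comm (F.UQc hij _ (F.WQ hij (F.wW hij)) y h1)] at h3

theorem tri' (hij : i ≠ j) (hki : k ≠ i) (hkj : k ≠ j) {y : G} (h1 : y ∈ U i k) (h2 : y ∈ U j k) :
    y ∈ U i j := by
  rw [F.Usym] at h1 h2
  exact F.tri hki hkj.symm hij.symm h1 h2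

/-- all `U`'s from a star -/
theorem star (h : D5 i j k l m) {y : G} (h1 : y ∈ U i j) (h2 : y ∈ U i k) (h3 : y ∈ U i l)
    (h4 : y ∈ U i m) : y = 1 := by
  have hall : ∀ a : Fin 5, a ≠ i → y ∈ U i a := by
    intro a ha
    have h5 : a = i ∨ a = j ∨ a = k ∨ a = l ∨ a = m := by
      obtain ⟨e1, e2, e3, e4, e5, e6, e7, e8, e9, e10⟩ := h
      clear h1 h2 h3 h4
      revert i j k l m a
      decide
    rcases h5 with h5 | h5 | h5 | h5 | h5
    · exact absurd h5 ha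
    · rw [h5]; exact h1
    · rw [h5]; exact h2
    · rw [h5]; exact h3
    · rw [h5]; exact h4
  refine F.inter y fun a b hab => ?_
  by_cases ha : a = i
  · rw [ha]; exact hall b (fun h => hab (ha.trans h.symm))
  · by_cases hb : b = i
    · rw [hb, F.Usym]; exact hall a ha
    · exact F.tri (Ne.symm ha) hb (Ne.symm hab) (hall a ha) (hall b hb)

/-- `u w u⁻¹ w⁻¹ ∈ W` -/
theorem uw (hij : i ≠ j) {x : G} (hx : x ∈ W i j) {u : G} (hu : u ∈ K) : cm u x ∈ W i j := by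
  rw [cm_eq]
  exact mul_mem (F.KW hij u hu x hx) (inv_mem hx)

theorem inv_self (hij : i ≠ j) {u : G} (hu : u ∈ U i j) : u⁻¹ = u :=
  inv_eq_of_mul_eq_one_left (F.Usq hij u hu)

theorem s_inv (i : Fin 5) : (s i)⁻¹ = s i := inv_eq_of_mul_eq_one_left (F.s_sq i)

/-- `u · u^w ∈ W` -/
theorem uuw {a b : Fin 5} (hij : i ≠ j) (hab : a ≠ b) {u : G} (hu : u ∈ U a b) :
    u * cj (w i j) u ∈ W i j := by
  have h := F.uw hij (F.wW hij) (F.UK hab hu)
  have e : cm u (w i j) = u * cj (w i j) u := by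
    rw [cm_eq', F.inv_self hab hu]
  rwa [e] at h

/-- membership in `⟨s j⟩ Π`, inside `U i k` (triangle `i j k`) -/
def PP (s : Fin 5 → G) (U : Fin 5 → Fin 5 → Subgroup G) (i k j : Fin 5) (y : G) : Prop :=
  y ∈ U i k ∧ (y ∈ U i j ∨ y * s j ∈ U i j)

/-- the key dichotomy: `y = ε z`, `y ∈ U i k`, `z ∈ U j k`, `ε ∈ {1, s i s j}` -/
theorem pp_of (hij : i ≠ j) (hki : k ≠ i) (hkj : k ≠ j) {y z e : G} (hy : y ∈ U i k)
    (hz : z ∈ U j k) (he : e = 1 ∨ e = s i * s j) (h : y = e * z) : PP s U i k j y := by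
  refine ⟨hy, ?_⟩
  rcases he with rfl | rfl
  · left
    rw [one_mul] at h
    exact F.tri' hij hki hkj hy (h ▸ hz)
  · right
    have h1 : y * s j = s i * z := by
      rw [h, mul_assoc, mul_assoc, F.Ks j z (F.UK hkj.symm hz), ← mul_assoc (s j), F.s_sq, one_mul]
    refine F.tri' hij hki hkj (mul_mem hy (F.sU hki.symm hij.symm hkj.symm)) ?_
    rw [h1]
    exact mul_mem (F.sU hkj.symm hij hki.symm) hz

/-- (1.3) -/
theorem uq (hij : i ≠ j) (hki : k ≠ i) (hkj : k ≠ j) {u q : G} (hu : u ∈ U i k) (hq : q ∈ Q i j)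
    (hqK : q ∈ K) : PP s U i k j (u⁻¹ * cj q u) := by
  set u' := cj (w i j) u with hu'
  have h1 : u' ∈ U j k := F.w1 hij hki hkj u hu
  have h2 : u * u' ∈ W i j := F.uuw hij hki.symm hu
  have h3 := F.QW hij q hq _ h2
  have h4 : cj q u ∈ U i k := F.KU hki.symm q hqK u hu
  have h5 : cj q u' ∈ U j k := F.KU hkj.symm q hqK u' h1
  have h6 : u⁻¹ * cj q u = cm q (u * u') * (u' * (cj q u')⁻¹) := by
    have e1 : cj q u * cj q u' = cm q (u * u') * (u * u') := by rw [← cj_mul, cj_eq_cm]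
    have e2 : cm q (u * u') * u = u * cm q (u * u') := by
      rcases h3 with h | h
      · rw [h, one_mul, mul_one]
      · rw [h, F.n_comm i j (F.UK hki.symm hu)]
    have e3 : u⁻¹ * cj q u = u⁻¹ * (cj q u * cj q u') * (cj q u')⁻¹ := by group
    rw [e3, e1, ← mul_assoc (cm q (u * u')), e2]
    group
  exact F.pp_of hij hki hkj (mul_mem (inv_mem hu) h4) (mul_mem h1 (inv_mem h5)) h3 h6

theorem n_ne (hij : i ≠ j) (hki : k ≠ i) (hkj : k ≠ j) : s i * s k ∉ U i j := by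
  intro h
  have h1 := mul_mem h (F.sU hij hki hkj)
  rw [mul_assoc, F.s_sq, mul_one] at h1
  exact F.sU' hij h1

/-- (1.4) -/
theorem alt (hij : i ≠ j) (hki : k ≠ i) (hkj : k ≠ j) {y : G} (hy : y ∈ U i j) :
    y * cj (w j k) y = cj (w j k) y * y := by
  have h1 : cj (w j k) y ∈ U i k := by
    rw [F.Usym]
    exact F.w1 hkj.symm hij hki.symm y (F.Usym i j ▸ hy)
  have h2 := F.Wsq hkj.symm _ (F.uuw hkj.symm hij hy)
  set y' := cj (w j k) y
  have e1 : y * y' * (y * y') = cm y y' := by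
    unfold cm
    rw [F.inv_self hij hy, F.inv_self hki.symm h1]
    group
  have h3 : cm y y' ∈ U i j := by
    rw [cm_eq']
    exact mul_mem hy (F.KU hij y' (F.UK hki.symm h1) _ (inv_mem hy))
  rw [e1] at h2
  rcases h2 with h | h
  · exact cm_one_iff.1 h
  · rw [h, F.Usym] at h3
    exact absurd h3 (F.n_ne hij.symm hkj hki)

/-- (1.6) -/
theorem ppQ (hij : i ≠ j) (hki : k ≠ i) (hkj : k ≠ j) {y : G} (hy : y ∈ U i k) (hq : y ∈ Q i j) :
    PP s U i k j y := by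
  have h1 : cj (w i j) y ∈ U j k := F.w1 hij hki hkj y hy
  have h2 := F.QW hij y hq _ (F.wW hij)
  have e1 : cm y (w i j) = y * cj (w i j) y := by rw [cm_eq', F.inv_self hki.symm hy]
  refine F.pp_of hij hki hkj hy h1 h2 ?_
  rw [e1, mul_assoc, F.Usq hkj.symm _ h1, mul_one]

/-- `c` centralises `U i j` -/
abbrev Cen (U : Fin 5 → Fin 5 → Subgroup G) (c : G) (i j : Fin 5) : Prop :=
  ∀ y ∈ U i j, c * y = y * c

theorem cen_symm {c : G} (h : Cen U c i j) : Cen U c j i := by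
  intro y hy
  exact h y (F.Usym i j ▸ hy)

/-- `C_{U_ik}(U_ij) = C_{U_ik}(U_jk)` -/
theorem cen_tri (hij : i ≠ j) (hki : k ≠ i) (hkj : k ≠ j) {u : G} (hu : u ∈ U i k)
    (hc : Cen U u i j) : Cen U u j k := by
  intro y hy
  have hw : w i k * u = u * w i k := F.UQc hki.symm _ (F.WQ hki.symm (F.wW hki.symm)) u hu
  have h1 : cj (w i k) y ∈ U i j := F.w2 hki.symm hij.symm hkj.symm y (F.Usym j k ▸ hy)
  have h2 := hc _ h1
  have h3 := congrArg (cj (w i k)) h2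
  rw [cj_mul, cj_mul, F.cj_w_w hki.symm (F.UK hkj.symm hy), cj_eq_of_comm hw] at h3
  exact h3

/-- conjugates of centralising elements -/
theorem cen_cj {a b : Fin 5} (hij : i ≠ j) (hab : a ≠ b) {c : G} (hc : Cen U c a b)
    {a' b' : Fin 5} (hmap : ∀ y ∈ U a' b', cj (w i j) y ∈ U a b) (hab' : a' ≠ b') :
    Cen U (cj (w i j) c) a' b' := by
  intro y hy
  have h1 := hc _ (hmap y hy)
  have h2 := congrArg (cj (w i j)) h1
  rw [cj_mul, cj_mul, F.cj_w_w hij (F.UK hab' hy)] at h2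
  exact h2

/-- `y ∈ Σ_m` (labels `i j k l`) -/
def Sg (U : Fin 5 → Fin 5 → Subgroup G) (i j k l : Fin 5) (y : G) : Prop :=
  y ∈ U i j ∧ y ∈ U i k ∧ y ∈ U i l

theorem sg_a (h : D5 i j k l m) {y : G} (hy : Sg U i j k l y) : Sg U j i k l y :=
  ⟨F.Usym i j ▸ hy.1, F.tri h.ij h.ik.symm h.jk.symm hy.1 hy.2.1,
    F.tri h.ij h.il.symm h.jl.symm hy.1 hy.2.2⟩

omit F in
theorem sg_b {y : G} (hy : Sg U i j k l y) : Sg U i k j l y := ⟨hy.2.1, hy.1, hy.2.2⟩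

omit F in
theorem sg_c {y : G} (hy : Sg U i j k l y) : Sg U i j l k y := ⟨hy.1, hy.2.2, hy.2.1⟩

/-- (2.1), first form: `v ∈ U i l` centralising `U i j`, `y ∈ U i k` -/
theorem two1a (h : D5 i j k l m) {v y : G} (hv : v ∈ U i l) (hc : Cen U v i j) (hy : y ∈ U i k) :
    Sg U i j k l (cm v y) ∧ Sg U i j k l (cm v (cj (w i j) y)) := by
  set u := cj (w k l) v with hu
  have hvK := F.UK h.il hv
  have hyK := F.UK h.ik hy
  have hu1 : u ∈ U i k := by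
    rw [F.Usym]
    exact F.w2 h.kl h.ik h.il v (F.Usym i l ▸ hv)
  have huv : cj (w k l) u = v := F.cj_w_w h.kl hvK
  have hcu : Cen U u i j :=
    F.cen_cj h.kl h.ij hc (fun y hy => F.w3 h.kl h.ik h.il h.jk h.jl h.ij y hy) h.ij
  have hcu2 : Cen U u j k := F.cen_tri h.ij h.ik.symm h.jk.symm hu1 hcu
  -- `u v ∈ Q i j`
  have hq : u * v ∈ Q i j := by
    have h1 := F.cw h u hcu _ (F.wW h.kl)
    have e1 : cm u (w k l) = u * v := by
      rw [cm_eq', F.inv_self h.ik hu1, huv]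
    rwa [e1] at h1
  set y' := cj (w i j) y with hy'
  have hy1 : y' ∈ U j k := F.w1 h.ij h.ik.symm h.jk.symm y hy
  have hy1K := F.UK h.jk hy1
  have h2 : y * y' ∈ W i j := F.uuw h.ij h.ik hy
  have h3 := F.QW h.ij _ hq _ h2
  set e := cm (u * v) (y * y') with he
  have hb : cj v y ∈ U i k := F.KU h.ik v hvK y hy
  have hb' : cj v y' ∈ U j k := F.KU h.jk v hvK y' hy1
  have e1 : cj (u * v) (y * y') = cj v y * cj v y' := by
    rw [← cj_cj, cj_mul, cj_mul, cj_eq_of_comm (F.Uab h.ik u hu1 _ hb), cj_eq_of_comm (hcu2 _ hb')]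
  have e2 : cj v y * cj v y' = e * (y * y') := by rw [← e1, cj_eq_cm]
  have ecomm : ∀ g ∈ K, e * g = g * e := by
    intro g hg
    rcases h3 with h3 | h3
    · rw [h3, one_mul, mul_one]
    · rw [h3, F.n_comm i j hg]
  -- `y⁻¹ b = e y' b'⁻¹`
  have e3 : y⁻¹ * cj v y = e * (y' * (cj v y')⁻¹) := by
    have e4 : y⁻¹ * cj v y = y⁻¹ * (cj v y * cj v y') * (cj v y')⁻¹ := by group
    rw [e4, e2, ← mul_assoc e, ecomm y hyK]
    group
  have m1 : y⁻¹ * cj v y ∈ U i l := by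
    have e4 : y⁻¹ * cj v y = cj y⁻¹ v * v⁻¹ := by unfold cj; group
    rw [e4]
    exact mul_mem (F.KU h.il _ (inv_mem hyK) v hv) (inv_mem hv)
  have m2 : y' * (cj v y')⁻¹ ∈ U i l := by
    have e4 : y' * (cj v y')⁻¹ = cj y' v * v⁻¹ := by unfold cj; group
    rw [e4]
    exact mul_mem (F.KU h.il _ hy1K v hv) (inv_mem hv)
  have he1 : e = 1 := by
    rcases h3 with h3 | h3
    · exact h3
    · exfalso
      have h4 : e ∈ U i l := by
        have e4 : e = (y⁻¹ * cj v y) * (y' * (cj v y')⁻¹)⁻¹ := by rw [e3]; group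
        rw [e4]; exact mul_mem m1 (inv_mem m2)
      rw [h3] at h4
      exact F.n_ne h.il h.ij.symm h.jl h4
  rw [he1, one_mul] at e3
  have m3 : y⁻¹ * cj v y ∈ U i k := mul_mem (inv_mem hy) hb
  have m4 : y⁻¹ * cj v y ∈ U j k := by rw [e3]; exact mul_mem hy1 (inv_mem hb')
  have m5 : y⁻¹ * cj v y ∈ U i j := F.tri' h.ij h.ik.symm h.jk.symm m3 m4
  have f1 : cm v y = y⁻¹ * cj v y := by
    rw [cm_eq]
    exact F.Uab h.ik _ hb _ (inv_mem hy)
  have f2 : cm v y' = (y⁻¹ * cj v y)⁻¹ := by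
    rw [e3, mul_inv_rev, inv_inv, cm_eq]
  refine ⟨?_, ?_⟩
  · rw [f1]; exact ⟨m5, m3, m1⟩
  · rw [f2]; exact ⟨inv_mem m5, inv_mem m3, inv_mem m1⟩

/-- (2.1) : triangle `i j k`, `v ∈ U i k` centralising `U i j`; `y ∈ U p l`, `p ∈ {i,j,k}` -/
theorem two1 (h : D5 i j k l m) {v y : G} (hv : v ∈ U i k) (hc : Cen U v i j)
    (hy : y ∈ U i l ∨ y ∈ U j l ∨ y ∈ U k l) : Sg U i j k l (cm v y) := by
  have hh := h.c
  rcases hy with hy | hy | hy
  · exact sg_c (F.two1a hh hv hc hy).1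
  · have h1 : cj (w i j) y ∈ U i l := F.w2 h.ij h.il.symm h.jl.symm y hy
    have h2 := (F.two1a hh hv hc h1).2
    rw [F.cj_w_w h.ij (F.UK h.jl hy)] at h2
    exact sg_c h2
  · have hw : w i k * v = v * w i k := F.UQc h.ik _ (F.WQ h.ik (F.wW h.ik)) v hv
    have h1 : cj (w i k) y ∈ U i l := F.w2 h.ik h.il.symm h.kl.symm y hy
    have h2 := (F.two1a hh hv hc h1).1
    -- conjugate back
    have e1 : cm v y = cj (w i k) (cm v (cj (w i k) y)) := by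
      have e2 : ∀ a b c : G, cj a (cm b c) = cm (cj a b) (cj a c) := by
        intro a b c; unfold cj cm; group
      rw [e2, F.cj_w_w h.ik (F.UK h.kl hy), cj_eq_of_comm hw]
    rw [e1]
    obtain ⟨a1, a2, a3⟩ := h2
    -- a1 : U i j, a2 : U i l, a3 : U i k
    have b3 : cj (w i k) (cm v (cj (w i k) y)) ∈ U i k := by
      rw [cj_eq_of_comm (F.UQc h.ik _ (F.WQ h.ik (F.wW h.ik)) _ a3)]
      exact a3
    have b1 : cj (w i k) (cm v (cj (w i k) y)) ∈ U k j := F.w1 h.ik h.ij.symm h.jk _ a1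
    have b2 : cj (w i k) (cm v (cj (w i k) y)) ∈ U k l := F.w1 h.ik h.il.symm h.kl.symm _ a2
    exact ⟨F.tri h.ik.symm h.jk h.ij.symm (F.Usym i k ▸ b3) b1, b3,
      F.tri h.ik.symm h.kl.symm h.il.symm (F.Usym i k ▸ b3) b2⟩

end Fr

end Cfsg.Agent.Omega.TTn.Di
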