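import Cfsg.Agent.Omega.S5.TT

/-!
# A natural `O₄⁻(2)`-module normalised by a Sylow 2-subgroup

`Dih S M` (`M : FiveMod V L`): `S ≤ L` induces the dihedral group `C((0 1)(2 3))` on `V` and `Ω₁(Z(S)) ≤ V`; `T = C_S(n)`,
`n = {0 1}`, `a = {2 3}`, `s = n a`. Then `|S : T| = 2` and `Ω₁(Z(T)) = {1, n, a, s}`
(text of helper375, `S5/TT.lean`, without the partner of the pair).
-/

set_option autoImplicit false
set_option linter.unusedSectionVars false

namespace Cfsg.Agent.Omega.TTn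

open Subgroup Cfsg Cfsg.Agent.ZN Cfsg.Agent.ZN.ChoiceBase
open Cfsg.Agent.Omega.S5.Mod Cfsg.Agent.Omega.S5.TT
open Cfsg.Agent.Omega.S5.TT.Pos (na ns as sn n_ne s_ne a_ne n_ne_a n_ne_s a_ne_s e_sq' mem_C)
open Cfsg.Agent.MinSimple.VModule (o2_isPGroup le_o2 o2_le le_normalizer_o2 o2_le_of_sylow
  normalizer_le_normalizer_zc)

universe u

variable {G : Type u} [Group G]

/-- `S ≤ L` induces `C((0 1)(2 3))` on the `O₄⁻(2)`-module `V ≥ Ω₁(Z(S))`. -/
structure Dih (S : Sylow 2 G) {V L : Subgroup G} (M : FiveMod V L) : Prop where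
  S_le : (S : Subgroup G) ≤ L
  zS : zc (S : Subgroup G) ≤ V
  d8 : ∀ g ∈ (S : Subgroup G), ∀ p, M.Ind g p → p * dd = dd * p
  d8' : ∀ p, p * dd = dd * p → ∃ g ∈ (S : Subgroup G), M.Ind g p

namespace Dih

variable {S : Sylow 2 G} {V L : Subgroup G} {M : FiveMod V L} (t : Dih S M)
include t

theorem S_norm : (S : Subgroup G) ≤ normalizer (V : Set G) := t.S_le.trans M.le_normalizer

theorem S_comm {g : G} (hg : g ∈ (S : Subgroup G)) : g * M.e ss = M.e ss * g := by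
  obtain ⟨p, hp⟩ := M.exists_ind (t.S_le hg)
  exact (hp.commute_iff _).2 (Or.inl (fix_ss p (t.d8 g hg p hp)))

theorem T_ind {g : G} (hg : g ∈ (S : Subgroup G) ⊓ centralizer ({M.e nn} : Set G)) :
    ∃ p, TTp p ∧ M.Ind g p := by
  obtain ⟨p, hp⟩ := M.exists_ind (t.S_le hg.1)
  exact ⟨p, ttp_of p (t.d8 g hg.1 p hp) ((hp.commute_iff _).1 (mem_C.1 hg.2)), hp⟩

/-- an element of `S` swapping `n` and `a` -/
theorem exists_swap : ∃ g ∈ (S : Subgroup G), M.Ind g tt := t.d8' tt (by decide)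

omit t in
theorem tt_n {g : G} (hg : M.Ind g tt) : g * M.e nn * g⁻¹ = M.e aa := by
  rw [hg, M.e_eq_iff]; decide

omit t in
theorem tt_a {g : G} (hg : M.Ind g tt) : g * M.e aa * g⁻¹ = M.e nn := by
  rw [hg, M.e_eq_iff]; decide

omit t in
theorem tt_s {g : G} (hg : M.Ind g tt) : g * M.e ss * g⁻¹ = M.e ss := by
  rw [hg, M.e_eq_iff]; decide

theorem T_comm_a {g : G} (hg : g ∈ (S : Subgroup G) ⊓ centralizer ({M.e nn} : Set G)) :
    g * M.e aa = M.e aa * g := by
  obtain ⟨p, hp, hi⟩ := t.T_ind hg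
  exact (hi.commute_iff _).2 (Or.inl (ttp_aa p hp))

/-- `g ∈ S` swapping `n`, `a` normalises `T`. -/
theorem conj_T {g : G} (hgS : g ∈ (S : Subgroup G)) (hg : M.Ind g tt) {x : G}
    (hx : x ∈ (S : Subgroup G) ⊓ centralizer ({M.e nn} : Set G)) :
    g * x * g⁻¹ ∈ (S : Subgroup G) ⊓ centralizer ({M.e nn} : Set G) := by
  refine mem_inf.2 ⟨mul_mem (mul_mem hgS hx.1) (inv_mem hgS), mem_C.2 ?_⟩
  rw [← tt_a hg]
  calc g * x * g⁻¹ * (g * M.e aa * g⁻¹) = g * (x * M.e aa) * g⁻¹ := by group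
    _ = g * (M.e aa * x) * g⁻¹ := by rw [t.T_comm_a hx]
    _ = g * M.e aa * g⁻¹ * (g * x * g⁻¹) := by group

omit t in
theorem mem_T_of_ind {g : G} (hg : g ∈ (S : Subgroup G)) {p : Equiv.Perm (Fin 5)} (hp : TTp p)
    (hi : M.Ind g p) : g ∈ (S : Subgroup G) ⊓ centralizer ({M.e nn} : Set G) :=
  ⟨hg, mem_C.2 ((hi.commute_iff _).2 (Or.inl (ttp_nn p hp)))⟩

/-- `S = T ∪ T g`. -/
theorem mem_or {g : G} (hgS : g ∈ (S : Subgroup G)) (hg : M.Ind g tt) {x : G}
    (hx : x ∈ (S : Subgroup G)) : x ∈ (S : Subgroup G) ⊓ centralizer ({M.e nn} : Set G) ∨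
      x * g ∈ (S : Subgroup G) ⊓ centralizer ({M.e nn} : Set G) := by
  obtain ⟨p, hp⟩ := M.exists_ind (t.S_le hx)
  rcases ttp_or p (t.d8 x hx p hp) with h1 | h1
  · exact Or.inl (mem_T_of_ind hx h1 hp)
  · exact Or.inr (mem_T_of_ind (mul_mem hx hgS) h1 (hp.mul hg))

/-- `Ω₁(Z(S)) ≤ ⟨s⟩`. -/
theorem zS_le {x : G} (hx : x ∈ zc (S : Subgroup G)) : x = 1 ∨ x = M.e ss := by
  obtain ⟨y, rfl⟩ := (M.mem_iff x).1 (t.zS hx)
  have h1 : ∀ p, p * dd = dd * p → y ∘ p.symm = y ∨ y ∘ p.symm = y + 1 := by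
    intro p hp
    obtain ⟨g, hg, hi⟩ := t.d8' p hp
    exact (hi.commute_iff y).1 ((MinSimple.VModule.mem_zc.1 hx).2.1 g hg)
  rcases fix_all y (h1 _ (by decide)) (h1 _ (by decide)) (h1 _ (by decide)) with h2 | h2
  · exact Or.inl ((M.ker y).2 h2)
  · exact Or.inr (M.e_eq_iff.2 h2)

theorem V_le_S : V ≤ (S : Subgroup G) := by
  have h1 : IsPGroup 2 ((S : Subgroup G) ⊔ V : Subgroup G) :=
    IsPGroup.to_sup_of_normal_right' S.isPGroup' M.isPGroup t.S_norm
  have h2 := S.is_maximal' h1 le_sup_left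
  rw [← h2]
  exact le_sup_right

/-- `x ∈ zc T`, `x x^g = 1`, then `x ∈ zc S`. -/
theorem zT_aux {g : G} (hgS : g ∈ (S : Subgroup G)) (hg : M.Ind g tt) {x : G}
    (hx : x ∈ zc ((S : Subgroup G) ⊓ centralizer ({M.e nn} : Set G)))
    (h1 : x * (g * x * g⁻¹) = 1) : x ∈ zc (S : Subgroup G) := by
  obtain ⟨hxT, hxc, hx2⟩ := MinSimple.VModule.mem_zc.1 hx
  have hxx : x * x = 1 := by rw [← pow_two]; exact hx2
  have h2 : g * x * g⁻¹ = x := by
    have h3 := eq_inv_of_mul_eq_one_right h1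
    rw [h3]
    exact inv_eq_of_mul_eq_one_left hxx
  have h3 : g * x = x * g := by rwa [mul_inv_eq_iff_eq_mul] at h2
  refine MinSimple.VModule.mem_zc.2 ⟨hxT.1, fun b hb => ?_, hx2⟩
  rcases t.mem_or hgS hg hb with h4 | h4
  · exact hxc b h4
  · have h5 := hxc _ h4
    have h6 : b * x * g = x * b * g := by
      calc b * x * g = b * (x * g) := by group
        _ = b * (g * x) := by rw [h3]
        _ = b * g * x := by group
        _ = x * (b * g) := h5
        _ = x * b * g := by group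
    exact mul_right_cancel h6

/-- `Ω₁(Z(T)) ≤ R = {1, n, a, s}`. -/
theorem zT_le {x : G} (hx : x ∈ zc ((S : Subgroup G) ⊓ centralizer ({M.e nn} : Set G))) :
    x = 1 ∨ x = M.e nn ∨ x = M.e aa ∨ x = M.e ss := by
  obtain ⟨g, hgS, hg⟩ := t.exists_swap
  obtain ⟨hxT, hxc, hx2⟩ := MinSimple.VModule.mem_zc.1 hx
  have hxx : x * x = 1 := by rw [← pow_two]; exact hx2
  have hgg : g * g ∈ (S : Subgroup G) ⊓ centralizer ({M.e nn} : Set G) := by
    refine mem_T_of_ind (mul_mem hgS hgS) (p := tt * tt) (by decide) (hg.mul hg)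
  have hxg := t.conj_T hgS hg hxT
  -- `y = x x^g ∈ zc S`
  set y := x * (g * x * g⁻¹) with hy
  have hcomm : x * (g * x * g⁻¹) = g * x * g⁻¹ * x := (hxc _ hxg).symm
  have hgy : g * y = y * g := by
    have h1 : g * g * x = x * (g * g) := hxc _ hgg
    calc g * y = (g * x * g⁻¹) * (g * g * x) * g⁻¹ := by rw [hy]; group
      _ = (g * x * g⁻¹) * (x * (g * g)) * g⁻¹ := by rw [h1]
      _ = ((g * x * g⁻¹) * x) * g := by group
      _ = y * g := by rw [← hcomm]
  have hyS : y ∈ (S : Subgroup G) := mul_mem hxT.1 hxg.1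
  have hyc : ∀ b ∈ (S : Subgroup G) ⊓ centralizer ({M.e nn} : Set G), b * y = y * b := by
    intro b hb
    have h1 := hxc b hb
    have h2 : g⁻¹ * b * g ∈ (S : Subgroup G) ⊓ centralizer ({M.e nn} : Set G) := by
      -- `g⁻¹ = g⁻² g`
      have h3 := t.conj_T hgS hg hb
      have h4 := mul_mem (mul_mem (inv_mem hgg) h3) hgg
      have e : (g * g)⁻¹ * (g * b * g⁻¹) * (g * g) = g⁻¹ * b * g := by group
      rwa [e] at h4
    have h3 := hxc _ h2
    have h4 : b * (g * x * g⁻¹) = g * x * g⁻¹ * b := by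
      calc b * (g * x * g⁻¹) = g * (g⁻¹ * b * g * x) * g⁻¹ := by group
        _ = g * (x * (g⁻¹ * b * g)) * g⁻¹ := by rw [h3]
        _ = g * x * g⁻¹ * b := by group
    calc b * y = (b * x) * (g * x * g⁻¹) := by rw [hy]; group
      _ = x * (b * (g * x * g⁻¹)) := by rw [h1]; group
      _ = y * b := by rw [h4, hy]; group
  have hyz : y ∈ zc (S : Subgroup G) := by
    refine MinSimple.VModule.mem_zc.2 ⟨hyS, fun b hb => ?_, ?_⟩
    · rcases t.mem_or hgS hg hb with h4 | h4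
      · exact hyc b h4
      · have h5 := hyc _ h4
        have h6 : b * y * g = y * b * g := by
          calc b * y * g = b * (y * g) := by group
            _ = b * (g * y) := by rw [hgy]
            _ = b * g * y := by group
            _ = y * (b * g) := h5
            _ = y * b * g := by group
        exact mul_right_cancel h6
    · rw [pow_two]
      calc y * y = x * ((g * x * g⁻¹) * x) * (g * x * g⁻¹) := by rw [hy]; group
        _ = x * (x * (g * x * g⁻¹)) * (g * x * g⁻¹) := by rw [← hcomm]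
        _ = (x * x) * (g * (x * x) * g⁻¹) := by group
        _ = 1 := by rw [hxx]; group
  rcases t.zS_le hyz with h1 | h1
  · rcases t.zS_le (t.zT_aux hgS hg hx h1) with h2 | h2
    · exact Or.inl h2
    · exact Or.inr (Or.inr (Or.inr h2))
  · -- `x n`
    have hnT : M.e nn ∈ zc ((S : Subgroup G) ⊓ centralizer ({M.e nn} : Set G)) := by
      have hnS : M.e nn ∈ (S : Subgroup G) := t.V_le_S (M.e_mem nn)
      exact MinSimple.VModule.mem_zc.2 ⟨⟨hnS, mem_C.2 rfl⟩, fun _ hb => mem_C.1 hb.2, e_sq' M nn⟩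
    have h2 : x * M.e nn * (g * (x * M.e nn) * g⁻¹) = 1 := by
      have h3 : x * M.e nn = M.e nn * x := mem_C.1 hxT.2
      have h4 : M.e nn * (g * x * g⁻¹) = g * x * g⁻¹ * M.e nn := (mem_C.1 hxg.2).symm
      calc x * M.e nn * (g * (x * M.e nn) * g⁻¹) =
            x * (M.e nn * (g * x * g⁻¹)) * (g * M.e nn * g⁻¹) := by group
        _ = x * (g * x * g⁻¹) * (M.e nn * M.e aa) := by rw [h4, tt_n hg]; group
        _ = 1 := by rw [na, ← hy, h1, M.e_sq]
    rcases t.zS_le (t.zT_aux hgS hg (mul_mem hx hnT) h2) with h3 | h3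
    · right; left
      have := congrArg (· * M.e nn) h3
      simpa [mul_assoc, M.e_sq] using this
    · right; right; left
      have := congrArg (· * M.e nn) h3
      simpa [mul_assoc, M.e_sq, sn] using this

theorem S_le_normalizer_T [Finite G] : (S : Subgroup G) ≤
    normalizer (((S : Subgroup G) ⊓ centralizer ({M.e nn} : Set G) : Subgroup G) : Set G) := by
  obtain ⟨g, hgS, hg⟩ := t.exists_swap
  have h1 : g ∈ normalizer
      (((S : Subgroup G) ⊓ centralizer ({M.e nn} : Set G) : Subgroup G) : Set G) := by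
    refine mem_normalizer_of_cj_le ?_
    rintro _ ⟨x, hx, rfl⟩
    exact t.conj_T hgS hg hx
  intro x hx
  rcases t.mem_or hgS hg hx with h2 | h2
  · exact Subgroup.le_normalizer h2
  · have h3 := mul_mem (Subgroup.le_normalizer h2) (inv_mem h1)
    have e : x * g * g⁻¹ = x := by group
    rwa [e] at h3

theorem n_mem_zT : M.e nn ∈ zc ((S : Subgroup G) ⊓ centralizer ({M.e nn} : Set G)) :=
  MinSimple.VModule.mem_zc.2 ⟨⟨t.V_le_S (M.e_mem nn), mem_C.2 rfl⟩, fun _ hb => mem_C.1 hb.2,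
    e_sq' M nn⟩

theorem s_mem_zT : M.e ss ∈ zc ((S : Subgroup G) ⊓ centralizer ({M.e nn} : Set G)) :=
  MinSimple.VModule.mem_zc.2 ⟨⟨t.V_le_S (M.e_mem ss), mem_C.2 (M.e_comm _ _)⟩,
    fun _ hb => t.S_comm hb.1, e_sq' M ss⟩

end Dih

end Cfsg.Agent.Omega.TTn
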