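/-
Copyright (c) 2026 CFSG team. Released under Apache 2.0 license.
Authors: helper107 (instance of helper439's frame #14261 from helper421's `Base`)
-/
import Cfsg.Agent.Omega.TTn.Base
import Cfsg.Agent.Omega.TTn.DiFrame

/-!
# The frame `Di.Fr` for a module `M : FiveMod V L` (one-module `Base S M M h`)

* `sv M i` = singular vector `i` (complement of the point `i`), `sv M 0 * sv M 1 = n`, `sv M 2 * sv M 3 = a`,
  `sv M 4 = s`;
* `UP M i j` = `⟨(n_{ij}^⊥) ^ C_G(n_{ij})⟩`, `WP M i j = ⟨V ^ C_G(n_{ij})⟩` (as `WW V V`), `QP M i j = O₂(C_G(n_{ij}))`;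
* `UP_conj`, `WP_conj`, `QP_conj`: an element inducing `p` maps the groups of `i, j` to those of `p i, p j`
  (`*_conj_iff`: both directions);
* `UP_zero_one : UP M 0 1 = UU n a`, `UP_two_three`, `WP_zero_one`, `QP_zero_one` ...
* `trans` (`lift5`): a statement for `0 1 2 3 4` is true for all `D5 i j k l m`.
-/

set_option autoImplicit false
set_option linter.unusedSectionVars false

namespace Cfsg.Agent.Omega.TTn.Di

open Subgroup Cfsg
open Cfsg.Agent.Omega.S5.Mod Cfsg.Agent.Omega.S5.TT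
open Cfsg.Agent.Omega.S5.TT.Pos (n_ne a_ne n_ne_a e_sq' mem_C)

universe u

variable {G : Type u} [Group G]

section defs

variable {V L : Subgroup G} (M : FiveMod V L)

/-- singular vectors -/
def sv (i : Fin 5) : G := M.e (Pi.single i 1)

/-- `⟨(n_{ij}^⊥) ^ C_G(n_{ij})⟩` -/
def UP (i j : Fin 5) : Subgroup G :=
  closure {y | ∃ g, g * (sv M i * sv M j) = sv M i * sv M j * g ∧ ∃ x : Vec, x i = x j ∧ y = g * M.e x * g⁻¹}

/-- `⟨V ^ C_G(n_{ij})⟩` -/
def WP (i j : Fin 5) : Subgroup G := WW V V (sv M i * sv M j)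

/-- `O₂(C_G(n_{ij}))` -/
def QP (i j : Fin 5) : Subgroup G := Q (sv M i * sv M j)

theorem sv_comm (i j : Fin 5) : sv M i * sv M j = sv M j * sv M i := M.e_comm _ _

theorem UP_symm (i j : Fin 5) : UP M i j = UP M j i := by
  unfold UP
  rw [sv_comm M i j]
  congr 1
  ext y
  constructor
  · rintro ⟨g, hg, x, hx, rfl⟩
    exact ⟨g, hg, x, hx.symm, rfl⟩
  · rintro ⟨g, hg, x, hx, rfl⟩
    exact ⟨g, hg, x, hx.symm, rfl⟩

theorem WP_symm (i j : Fin 5) : WP M i j = WP M j i := by unfold WP; rw [sv_comm]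

theorem QP_symm (i j : Fin 5) : QP M i j = QP M j i := by unfold QP; rw [sv_comm]

variable {M}

theorem mem_UP {i j : Fin 5} {g : G} (hg : g * (sv M i * sv M j) = sv M i * sv M j * g) {x : Vec} (hx : x i = x j) :
    g * M.e x * g⁻¹ ∈ UP M i j := subset_closure ⟨g, hg, x, hx, rfl⟩

theorem e_mem_UP {i j : Fin 5} {x : Vec} (hx : x i = x j) : M.e x ∈ UP M i j := by
  have := mem_UP (M := M) (i := i) (j := j) (g := 1) (by rw [one_mul, mul_one]) hx
  simpa using this

theorem UP_le {i j : Fin 5} {H : Subgroup G}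
    (h : ∀ g, g * (sv M i * sv M j) = sv M i * sv M j * g → ∀ x : Vec, x i = x j → g * M.e x * g⁻¹ ∈ H) :
    UP M i j ≤ H := by
  rw [UP, closure_le]
  rintro _ ⟨g, hg, x, hx, rfl⟩
  exact h g hg x hx

theorem sv_conj {l : G} {p : Equiv.Perm (Fin 5)} (hl : M.Ind l p) (i : Fin 5) :
    l * sv M i * l⁻¹ = sv M (p i) := by
  unfold sv
  rw [hl, FiveMod.single_comp]

theorem svsv_conj {l : G} {p : Equiv.Perm (Fin 5)} (hl : M.Ind l p) (i j : Fin 5) :
    l * (sv M i * sv M j) * l⁻¹ = sv M (p i) * sv M (p j) := by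
  rw [← sv_conj hl, ← sv_conj hl]; group

/-- an element inducing `p` maps `U i j` to `U (p i) (p j)` -/
theorem UP_conj {l u : G} {p : Equiv.Perm (Fin 5)} (hl : M.Ind l p) {i j : Fin 5} (hu : u ∈ UP M i j) :
    l * u * l⁻¹ ∈ UP M (p i) (p j) := by
  have key : UP M i j ≤ ZN.ChoiceBase.cj l⁻¹ (UP M (p i) (p j)) := by
    refine UP_le fun g hg x hx => ?_
    rw [ZN.ChoiceBase.mem_cj, inv_inv]
    have h1 : l * (g * M.e x * g⁻¹) * l⁻¹ = (l * g * l⁻¹) * (l * M.e x * l⁻¹) * (l * g * l⁻¹)⁻¹ := by group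
    rw [h1, hl]
    refine mem_UP ?_ ?_
    · rw [← svsv_conj hl]
      calc l * g * l⁻¹ * (l * (sv M i * sv M j) * l⁻¹) = l * (g * (sv M i * sv M j)) * l⁻¹ := by group
        _ = l * (sv M i * sv M j * g) * l⁻¹ := by rw [hg]
        _ = l * (sv M i * sv M j) * l⁻¹ * (l * g * l⁻¹) := by group
    · simpa using hx
  have h := key hu
  rwa [ZN.ChoiceBase.mem_cj, inv_inv] at h

theorem UP_conj_iff {l u : G} {p : Equiv.Perm (Fin 5)} (hl : M.Ind l p) {i j : Fin 5} :
    l * u * l⁻¹ ∈ UP M (p i) (p j) ↔ u ∈ UP M i j := by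
  refine ⟨fun h => ?_, UP_conj hl⟩
  have h1 := UP_conj hl.inv h
  rw [inv_inv] at h1
  have h2 : l⁻¹ * (l * u * l⁻¹) * l = u := by group
  have h3 : ∀ i, p⁻¹ (p i) = i := fun i => by simp
  rwa [h2, h3, h3] at h1

theorem WP_conj {l w : G} {p : Equiv.Perm (Fin 5)} (hl : M.Ind l p) {i j : Fin 5} (hw : w ∈ WP M i j) :
    l * w * l⁻¹ ∈ WP M (p i) (p j) := by
  have h := WW_conj hl.mem_normalizer hl.mem_normalizer hw
  rwa [svsv_conj hl] at h

theorem WP_conj_iff {l w : G} {p : Equiv.Perm (Fin 5)} (hl : M.Ind l p) {i j : Fin 5} :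
    l * w * l⁻¹ ∈ WP M (p i) (p j) ↔ w ∈ WP M i j := by
  refine ⟨fun h => ?_, WP_conj hl⟩
  have h1 := WP_conj hl.inv h
  rw [inv_inv] at h1
  have h2 : l⁻¹ * (l * w * l⁻¹) * l = w := by group
  have h3 : ∀ i, p⁻¹ (p i) = i := fun i => by simp
  rwa [h2, h3, h3] at h1

theorem QP_conj {l w : G} {p : Equiv.Perm (Fin 5)} (hl : M.Ind l p) {i j : Fin 5} (hw : w ∈ QP M i j) :
    l * w * l⁻¹ ∈ QP M (p i) (p j) := by
  have h : ZN.ChoiceBase.cj l (QP M i j) = QP M (p i) (p j) := by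
    unfold QP Q
    rw [o2_conj, svsv_conj hl]
  rw [← h]
  exact ⟨w, hw, rfl⟩

theorem QP_conj_iff {l w : G} {p : Equiv.Perm (Fin 5)} (hl : M.Ind l p) {i j : Fin 5} :
    l * w * l⁻¹ ∈ QP M (p i) (p j) ↔ w ∈ QP M i j := by
  refine ⟨fun h => ?_, QP_conj hl⟩
  have h1 := QP_conj hl.inv h
  rw [inv_inv] at h1
  have h2 : l⁻¹ * (l * w * l⁻¹) * l = w := by group
  have h3 : ∀ i, p⁻¹ (p i) = i := fun i => by simp
  rwa [h2, h3, h3] at h1

/-- elements commuting with `n_{ij}` normalise `U i j` -/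
theorem UP_norm {i j : Fin 5} {g u : G} (hg : g * (sv M i * sv M j) = sv M i * sv M j * g) (hu : u ∈ UP M i j) :
    g * u * g⁻¹ ∈ UP M i j := by
  have key : UP M i j ≤ ZN.ChoiceBase.cj g⁻¹ (UP M i j) := by
    refine UP_le fun k hk x hx => ?_
    rw [ZN.ChoiceBase.mem_cj, inv_inv]
    have h1 : g * (k * M.e x * k⁻¹) * g⁻¹ = (g * k) * M.e x * (g * k)⁻¹ := by group
    rw [h1]
    refine mem_UP ?_ hx
    rw [mul_assoc, hk, ← mul_assoc, hg, mul_assoc]
  have h := key hu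
  rwa [ZN.ChoiceBase.mem_cj, inv_inv] at h

/-! ### Standard labels -/

variable (M)

theorem sv01 : sv M 0 * sv M 1 = M.e nn := by
  unfold sv; rw [← M.e_add, M.e_eq_iff]; left; decide

theorem sv23 : sv M 2 * sv M 3 = M.e aa := by
  unfold sv; rw [← M.e_add, M.e_eq_iff]; left; decide

theorem sv4 : sv M 4 = M.e ss := by
  unfold sv; rw [M.e_eq_iff]; left; decide

theorem WP01 : WP M 0 1 = WW V V (M.e nn) := by unfold WP; rw [sv01]

theorem WP23 : WP M 2 3 = WW V V (M.e aa) := by unfold WP; rw [sv23]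

theorem QP01 : QP M 0 1 = Q (M.e nn) := by unfold QP; rw [sv01]

theorem QP23 : QP M 2 3 = Q (M.e aa) := by unfold QP; rw [sv23]

variable {M}

/-! ### Transport of labels -/

/-- the permutation with prescribed values -/
theorem exists_perm5 {i j k l m : Fin 5} (h : D5 i j k l m) :
    ∃ p : Equiv.Perm (Fin 5), p 0 = i ∧ p 1 = j ∧ p 2 = k ∧ p 3 = l ∧ p 4 = m := by
  let f : Fin 5 → Fin 5 := ![i, j, k, l, m]
  have hf : Function.Injective f := by
    obtain ⟨e1, e2, e3, e4, e5, e6, e7, e8, e9, e10⟩ := h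
    intro a b hab
    fin_cases a <;> fin_cases b <;> simp [f] at hab <;> first | rfl | (exfalso; revert hab; first | exact e1 | exact e2 | exact e3 | exact e4 | exact e5 | exact e6 | exact e7 | exact e8 | exact e9 | exact e10 | exact e1.symm | exact e2.symm | exact e3.symm | exact e4.symm | exact e5.symm | exact e6.symm | exact e7.symm | exact e8.symm | exact e9.symm | exact e10.symm)
  refine ⟨Equiv.ofBijective f ((Finite.injective_iff_bijective).1 hf), rfl, rfl, rfl, rfl, rfl⟩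

theorem exists_perm2 {i j : Fin 5} (h : i ≠ j) : ∃ p : Equiv.Perm (Fin 5), p 0 = i ∧ p 1 = j := by
  revert i j
  decide +kernel

end defs

end Cfsg.Agent.Omega.TTn.Di
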