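/-
Copyright (c) 2026 CFSG team. Released under Apache 2.0 license.
Authors: helper107 (instance of helper439's frame #14261 from helper421's `Base`)
-/
import Cfsg.Agent.Omega.TTn.DiDefs
import Cfsg.Agent.Lib.NormalAbelian

/-!
# The frame `Di.Fr` from `Base S M M h`

`Di.fr_of (b : Base S M M h) : CwStd M → CoreStd M → FaithStd M → ∃ w, Fr (sv M) (UP M) (WP M) (QP M) w (C_G(V))`,
where the three missing facts are stated for the standard labels `0 1 | 2 3 | 4`:
* `CwStd M` : `c` centralises `U 0 1`, `x ∈ W 2 3` ⟹ `[c, x] ∈ Q 0 1`;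
* `CoreStd M` : `c ∈ W 1 2` centralises `U 0 1` and `U 2 3` ⟹ `c ∈ Q 0 1`;
* `FaithStd M` : `g ∈ C_G(V)`, `[g, U 0 1] ≤ ⟨n⟩` ⟹ `g` centralises `U 0 1`.
-/

set_option autoImplicit false
set_option linter.unusedSectionVars false

namespace Cfsg.Agent.Omega.TTn.Di

open Subgroup Cfsg Cfsg.Agent.ZN
open Cfsg.Agent.Omega.S5.Mod Cfsg.Agent.Omega.S5.TT
open Cfsg.Agent.Omega.S5.TT.Pos (n_ne a_ne n_ne_a e_sq' mem_C)
open Cfsg.Agent.MinSimple.VModule (o2_isPGroup le_o2 o2_le le_normalizer_o2 o2_le_of_sylow)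

universe u

variable {G : Type u} [Group G]

section

variable {V L : Subgroup G} (M : FiveMod V L)

/-- (1.5) for the standard labels -/
def CwStd : Prop :=
  ∀ c, (∀ y ∈ UP M 0 1, c * y = y * c) → ∀ x ∈ WP M 2 3, cm c x ∈ QP M 0 1

/-- (2.4) for the standard labels -/
def CoreStd : Prop :=
  ∀ c ∈ WP M 1 2, (∀ y ∈ UP M 0 1, c * y = y * c) → (∀ y ∈ UP M 2 3, c * y = y * c) → c ∈ QP M 0 1

/-- (3.4) for the standard labels -/
def FaithStd : Prop :=
  ∀ g ∈ centralizer (V : Set G), (∀ u ∈ UP M 0 1, cm g u = 1 ∨ cm g u = sv M 0 * sv M 1) →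
    ∀ u ∈ UP M 0 1, g * u = u * g

end

variable {S : Sylow 2 G} {V L : Subgroup G} {M : FiveMod V L} {h : G}

theorem cm_conj (l a b : G) : l * cm a b * l⁻¹ = cm (l * a * l⁻¹) (l * b * l⁻¹) := by
  unfold cm; group

/-- transport of a commutation -/
theorem comm_conj_iff (l a b : G) :
    (l * a * l⁻¹) * (l * b * l⁻¹) = (l * b * l⁻¹) * (l * a * l⁻¹) ↔ a * b = b * a := by
  have e1 : (l * a * l⁻¹) * (l * b * l⁻¹) = l * (a * b) * l⁻¹ := by group
  have e2 : (l * b * l⁻¹) * (l * a * l⁻¹) = l * (b * a) * l⁻¹ := by group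
  rw [e1, e2]
  constructor
  · intro h
    exact mul_left_cancel (mul_right_cancel h)
  · intro h
    rw [h]

theorem CwStd.gen (hc : CwStd M) {i j k l m : Fin 5} (h5 : D5 i j k l m) :
    ∀ c, (∀ y ∈ UP M i j, c * y = y * c) → ∀ x ∈ WP M k l, cm c x ∈ QP M i j := by
  obtain ⟨p, rfl, rfl, rfl, rfl, rfl⟩ := exists_perm5 h5
  obtain ⟨g, -, hg⟩ := M.exists_lift p
  have hg : M.Ind g p := hg
  intro c hcy x hx
  have ec : c = g * (g⁻¹ * c * g) * g⁻¹ := by group
  have ex : x = g * (g⁻¹ * x * g) * g⁻¹ := by group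
  rw [ec, ex, ← cm_conj, QP_conj_iff hg]
  refine hc _ (fun y hy => ?_) _ ?_
  · rw [← comm_conj_iff g, ← ec]
    exact hcy _ (UP_conj hg hy)
  · rw [← WP_conj_iff hg, ← ex]
    exact hx

theorem CoreStd.gen (hc : CoreStd M) {i j k l m : Fin 5} (h5 : D5 i j k l m) :
    ∀ c ∈ WP M j k, (∀ y ∈ UP M i j, c * y = y * c) → (∀ y ∈ UP M k l, c * y = y * c) → c ∈ QP M i j := by
  obtain ⟨p, rfl, rfl, rfl, rfl, rfl⟩ := exists_perm5 h5
  obtain ⟨g, -, hg⟩ := M.exists_lift p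
  have hg : M.Ind g p := hg
  intro c hcW h1 h2
  have ec : c = g * (g⁻¹ * c * g) * g⁻¹ := by group
  rw [ec, QP_conj_iff hg]
  refine hc _ ?_ (fun y hy => ?_) (fun y hy => ?_)
  · rw [← WP_conj_iff hg, ← ec]
    exact hcW
  · rw [← comm_conj_iff g, ← ec]
    exact h1 _ (UP_conj hg hy)
  · rw [← comm_conj_iff g, ← ec]
    exact h2 _ (UP_conj hg hy)

theorem mem_centralizer_conj {g x : G} (hg : g ∈ normalizer (V : Set G)) (hx : x ∈ centralizer (V : Set G)) :
    g⁻¹ * x * g ∈ centralizer (V : Set G) := by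
  rw [mem_centralizer_iff] at hx ⊢
  intro v hv
  have h1 := hx _ ((mem_normalizer_iff.1 hg v).1 hv)
  calc v * (g⁻¹ * x * g) = g⁻¹ * ((g * v * g⁻¹) * x) * g := by group
    _ = g⁻¹ * (x * (g * v * g⁻¹)) * g := by rw [h1]
    _ = g⁻¹ * x * g * v := by group

theorem FaithStd.gen (hc : FaithStd M) {i j : Fin 5} (hij : i ≠ j) :
    ∀ g ∈ centralizer (V : Set G), (∀ u ∈ UP M i j, cm g u = 1 ∨ cm g u = sv M i * sv M j) →
      ∀ u ∈ UP M i j, g * u = u * g := by
  obtain ⟨p, rfl, rfl⟩ := exists_perm2 hij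
  obtain ⟨l, -, hl⟩ := M.exists_lift p
  have hl : M.Ind l p := hl
  intro g hgV h1 u hu
  have eg : g = l * (l⁻¹ * g * l) * l⁻¹ := by group
  have eu : u = l * (l⁻¹ * u * l) * l⁻¹ := by group
  rw [eg, eu, comm_conj_iff]
  refine hc _ (mem_centralizer_conj hl.mem_normalizer hgV) (fun v hv => ?_) _ ?_
  · have h2 := h1 _ (UP_conj hl hv)
    rw [eg, ← cm_conj, ← svsv_conj hl] at h2
    rcases h2 with h2 | h2
    · left
      have h3 := congrArg (fun t => l⁻¹ * t * l) h2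
      simpa [mul_assoc] using h3
    · right
      exact mul_left_cancel (mul_right_cancel h2)
  · rw [← UP_conj_iff hl, ← eu]
    exact hu

section base

variable (b : Base S M M h)
include b

variable [Finite G]

theorem UP_zero_one : UP M 0 1 = UU (M.e nn) (M.e aa) := by
  refine le_antisymm (UP_le fun g hg x hx => ?_) (UU_le ?_ fun g hg => ?_)
  · rw [sv01] at hg
    exact UU_norm hg (b.perp_mem₁ hx)
  · exact e_mem_UP (by decide)
  · rw [← sv01] at hg
    exact mem_UP hg (by decide)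

/-- reduction to the labels `0`, `1` -/
theorem UP_zero {p : Equiv.Perm (Fin 5)} {l u : G} (hl : M.Ind l p) (hu : u ∈ UP M (p 0) (p 1)) :
    l⁻¹ * u * l ∈ UU (M.e nn) (M.e aa) := by
  rw [← UP_zero_one b, ← UP_conj_iff hl]
  have : l * (l⁻¹ * u * l) * l⁻¹ = u := by group
  rwa [this]

theorem U_comm_Q {i j : Fin 5} (hij : i ≠ j) {q u : G} (hq : q ∈ QP M i j) (hu : u ∈ UP M i j) :
    q * u = u * q := by
  obtain ⟨p, rfl, rfl⟩ := exists_perm2 hij
  obtain ⟨l, -, hl⟩ := M.exists_lift p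
  have hl : M.Ind l p := hl
  have eq' : q = l * (l⁻¹ * q * l) * l⁻¹ := by group
  have eu : u = l * (l⁻¹ * u * l) * l⁻¹ := by group
  rw [eq', eu, comm_conj_iff]
  refine (b.UU_comm_Q ?_ ?_).symm
  · rw [← UP_zero_one b, ← UP_conj_iff hl, ← eu]; exact hu
  · rw [← QP01, ← QP_conj_iff hl, ← eq']; exact hq

theorem U_le_Q {i j : Fin 5} (hij : i ≠ j) : UP M i j ≤ QP M i j := by
  obtain ⟨p, rfl, rfl⟩ := exists_perm2 hij
  obtain ⟨l, -, hl⟩ := M.exists_lift p
  have hl : M.Ind l p := hl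
  intro u hu
  have eu : u = l * (l⁻¹ * u * l) * l⁻¹ := by group
  rw [eu, QP_conj_iff hl, QP01]
  refine b.UU_le_Q ?_
  rw [← UP_zero_one b, ← UP_conj_iff hl, ← eu]; exact hu

theorem W_le_Q {i j : Fin 5} (hij : i ≠ j) : WP M i j ≤ QP M i j := by
  obtain ⟨p, rfl, rfl⟩ := exists_perm2 hij
  obtain ⟨l, -, hl⟩ := M.exists_lift p
  have hl : M.Ind l p := hl
  intro u hu
  have eu : u = l * (l⁻¹ * u * l) * l⁻¹ := by group
  rw [eu, QP_conj_iff hl, QP01]
  refine b.WW_le_Q ?_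
  rw [← WP01, ← WP_conj_iff hl, ← eu]; exact hu

theorem V_le_QP {i j : Fin 5} (hij : i ≠ j) : V ≤ QP M i j :=
  (le_WW₁ V V _).trans (W_le_Q b hij)

theorem U_le_C {i j : Fin 5} (hij : i ≠ j) : UP M i j ≤ centralizer (V : Set G) := by
  intro u hu
  rw [mem_centralizer_iff]
  intro v hv
  exact U_comm_Q b hij (V_le_QP b hij hv) hu

theorem U_sq {i j : Fin 5} (hij : i ≠ j) {u : G} (hu : u ∈ UP M i j) : u * u = 1 := by
  obtain ⟨p, rfl, rfl⟩ := exists_perm2 hij
  obtain ⟨l, -, hl⟩ := M.exists_lift p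
  have hl : M.Ind l p := hl
  have h1 := b.UU_sq (u := l⁻¹ * u * l) (by
    rw [← UP_zero_one b, ← UP_conj_iff hl]
    have : l * (l⁻¹ * u * l) * l⁻¹ = u := by group
    rwa [this])
  have h2 : l⁻¹ * u * l * (l⁻¹ * u * l) = l⁻¹ * (u * u) * l := by group
  rw [h2] at h1
  have h3 := congrArg (fun t => l * t * l⁻¹) h1
  simpa [mul_assoc] using h3

theorem QW_comm {i j : Fin 5} (hij : i ≠ j) {q x : G} (hq : q ∈ QP M i j) (hx : x ∈ WP M i j) :
    cm q x = 1 ∨ cm q x = sv M i * sv M j := by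
  obtain ⟨p, rfl, rfl⟩ := exists_perm2 hij
  obtain ⟨l, -, hl⟩ := M.exists_lift p
  have hl : M.Ind l p := hl
  have eq' : q = l * (l⁻¹ * q * l) * l⁻¹ := by group
  have ex : x = l * (l⁻¹ * x * l) * l⁻¹ := by group
  have h1 : l⁻¹ * x * l ∈ WW V V (M.e nn) := by
    rw [← WP01, ← WP_conj_iff hl, ← ex]; exact hx
  have h2 : l⁻¹ * q * l ∈ Q (M.e nn) := by
    rw [← QP01, ← QP_conj_iff hl, ← eq']; exact hq
  have h3 := b.WW_comm h1 h2
  rw [eq', ex, ← cm_conj, ← svsv_conj hl, sv01]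
  have h4 : cm (l⁻¹ * q * l) (l⁻¹ * x * l) =
      (l⁻¹ * x * l * (l⁻¹ * q * l) * (l⁻¹ * x * l)⁻¹ * (l⁻¹ * q * l)⁻¹)⁻¹ := by
    unfold cm; group
  rcases h3 with h3 | h3
  · left; rw [h4, h3]; group
  · right; rw [h4, h3, M.e_inv]

/-- squares in `W n` -/
theorem WW_sq {x : G} (hx : x ∈ WW V V (M.e nn)) : x * x = 1 ∨ x * x = M.e nn := by
  have hn : ∀ {y : G}, y ∈ Q (M.e nn) → y * M.e nn = M.e nn * y := fun hy => mem_C.1 (o2_le _ hy)
  induction hx using closure_induction with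
  | mem y hy =>
    obtain ⟨g, hg, v, hv, rfl⟩ := hy
    left
    have hv' : v ∈ V := hv.elim id id
    have h1 : g * v * g⁻¹ * (g * v * g⁻¹) = g * (v * v) * g⁻¹ := by group
    rw [h1, M.sq hv']; group
  | one => left; group
  | mul x y hx hy h1 h2 =>
    have hxQ : x ∈ Q (M.e nn) := b.WW_le_Q hx
    have hyQ : y ∈ Q (M.e nn) := b.WW_le_Q hy
    have h3 := b.WW_comm hy hxQ
    have e : x * y * (x * y) = x * (y * x * y⁻¹ * x⁻¹) * x⁻¹ * (x * x) * (y * y) := by group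
    have h4 : x * (y * x * y⁻¹ * x⁻¹) * x⁻¹ = y * x * y⁻¹ * x⁻¹ := by
      rcases h3 with h3 | h3
      · rw [h3]; group
      · rw [h3, hn hxQ, mul_inv_cancel_right]
    rw [e, h4]
    rcases h1 with h1 | h1 <;> rcases h2 with h2 | h2 <;> rcases h3 with h3 | h3 <;> rw [h1, h2, h3] <;>
      simp [M.e_sq]
  | inv x hx h1 =>
    have e : x⁻¹ * x⁻¹ = (x * x)⁻¹ := by group
    rw [e]
    rcases h1 with h1 | h1
    · left; rw [h1]; group
    · right; rw [h1, M.e_inv]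

theorem W_sq {i j : Fin 5} (hij : i ≠ j) {x : G} (hx : x ∈ WP M i j) : x * x = 1 ∨ x * x = sv M i * sv M j := by
  obtain ⟨p, rfl, rfl⟩ := exists_perm2 hij
  obtain ⟨l, -, hl⟩ := M.exists_lift p
  have hl : M.Ind l p := hl
  have ex : x = l * (l⁻¹ * x * l) * l⁻¹ := by group
  have h1 : l⁻¹ * x * l ∈ WW V V (M.e nn) := by
    rw [← WP01, ← WP_conj_iff hl, ← ex]; exact hx
  have h2 := WW_sq b h1
  have e : x * x = l * (l⁻¹ * x * l * (l⁻¹ * x * l)) * l⁻¹ := by group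
  rw [e, ← svsv_conj hl, sv01]
  rcases h2 with h2 | h2
  · left; rw [h2]; group
  · right; rw [h2]

theorem sv_notMem {i j : Fin 5} (hij : i ≠ j) : sv M i ∉ UP M i j := by
  obtain ⟨p, rfl, rfl⟩ := exists_perm2 hij
  obtain ⟨l, -, hl⟩ := M.exists_lift p
  have hl : M.Ind l p := hl
  rw [← sv_conj hl, UP_conj_iff hl, UP_zero_one b]
  intro h1
  have h2 := b.perp_of_mem₁ h1
  revert h2
  decide

theorem exists_w {i j : Fin 5} (hij : i ≠ j) : ∃ w ∈ WP M i j, M.Ind w (Equiv.swap i j) := by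
  obtain ⟨p, rfl, rfl⟩ := exists_perm2 hij
  obtain ⟨l, -, hl⟩ := M.exists_lift p
  have hl : M.Ind l p := hl
  obtain ⟨w, hw, hi⟩ := b.exists_move₁
  refine ⟨l * w * l⁻¹, WP_conj hl (by rwa [WP01]), ?_⟩
  have h1 := (hl.mul hi).mul hl.inv
  have h2 : p * Equiv.swap 0 1 * p⁻¹ = Equiv.swap (p 0) (p 1) := (Equiv.swap_apply_apply p 0 1).symm
  rwa [h2] at h1

/-- `⋂ U_{ij} = 1` -/
theorem inter_eq {x : G} (hx : ∀ i j, i ≠ j → x ∈ UP M i j) : x = 1 := by
  set D : Subgroup G := ⨅ (i : Fin 5) (j : Fin 5) (_ : i ≠ j), UP M i j with hD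
  have mem_D : ∀ {y : G}, y ∈ D ↔ ∀ i j, i ≠ j → y ∈ UP M i j := by
    intro y
    simp [hD, mem_iInf]
  have hDS : D ≤ (S : Subgroup G) := by
    intro y hy
    have h1 := mem_D.1 hy 0 1 (by decide)
    rw [UP_zero_one b] at h1
    exact (b.Q_le_T (b.UU_le_Q h1)).1
  have hDn : ∀ g ∈ (S : Subgroup G), ∀ y ∈ D, g * y * g⁻¹ ∈ D := by
    intro g hg y hy
    obtain ⟨p, hp⟩ := M.exists_ind (b.dih₁.S_le hg)
    have hp : M.Ind g p := hp
    rw [mem_D]
    intro i j hij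
    have h1 := UP_conj hp (mem_D.1 hy (p⁻¹ i) (p⁻¹ j) (fun h0 => hij (p⁻¹.injective h0)))
    simpa using h1
  by_contra hx1
  have hDx : x ∈ D := mem_D.2 hx
  have hf : Fact (Nat.Prime 2) := ⟨Nat.prime_two⟩
  have hSn : ((S : Subgroup G)) ≤ normalizer (D : Set G) := by
    intro g hg
    refine mem_normalizer_iff.2 fun y => ⟨hDn g hg y, fun hy => ?_⟩
    have h1 := hDn g⁻¹ (inv_mem hg) _ hy
    have h2 : g⁻¹ * (g * y * g⁻¹) * g⁻¹⁻¹ = y := by group
    rwa [h2] at h1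
  have hnt : Nontrivial (D.subgroupOf (S : Subgroup G)) := by
    refine ⟨⟨⟨x, hDS hDx⟩, mem_subgroupOf.2 hDx⟩, 1, fun h0 => hx1 ?_⟩
    have h1 := congrArg (fun t : D.subgroupOf (S : Subgroup G) => ((t : (S : Subgroup G)) : G)) h0
    exact h1
  have hnorm : (D.subgroupOf (S : Subgroup G)).Normal := normal_subgroupOf_of_le_normalizer hSn
  obtain ⟨z, hz, hz1⟩ : ∃ z ∈ D.subgroupOf (S : Subgroup G) ⊓ center (S : Subgroup G), z ≠ 1 := by
    have hnil : Group.IsNilpotent (S : Subgroup G) := S.isPGroup'.isNilpotent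
    have h1 := Lib.NormalAbelian.normal_inf_center_ne_bot (D.subgroupOf (S : Subgroup G))
      ((nontrivial_iff_ne_bot _).1 hnt)
    obtain ⟨⟨z, hz⟩, hz1⟩ := ne_bot_iff_exists_ne_one.1 h1
    exact ⟨z, hz, fun h0 => hz1 (Subtype.ext h0)⟩
  have hzD : (z : G) ∈ D := mem_subgroupOf.1 (mem_inf.1 hz).1
  have hzU := mem_D.1 hzD 0 1 (by decide)
  have h2 : (z : G) * z = 1 := U_sq b (by decide) hzU
  have h3 : (z : G) ∈ zc (S : Subgroup G) := by
    refine MinSimple.VModule.mem_zc.2 ⟨z.2, fun g hg => ?_, by rw [pow_two]; exact h2⟩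
    exact congrArg Subtype.val (mem_center_iff.1 (mem_inf.1 hz).2 ⟨g, hg⟩)
  rcases b.dih₁.zS_le h3 with h4 | h4
  · exact hz1 (Subtype.ext h4)
  · have h5 := mem_D.1 hzD 4 0 (by decide)
    rw [h4, ← sv4] at h5
    exact sv_notMem b (by decide) h5

/-- The frame of #14261 from `Base` (one module) and the three facts (1.5), (2.4), (3.4), with the
action of `w i j` on `V`. -/
theorem fr_of_ind (hcw : CwStd M) (hcore : CoreStd M) (hfaith : FaithStd M) :
    ∃ w : Fin 5 → Fin 5 → G, (∀ i j, i ≠ j → M.Ind (w i j) (Equiv.swap i j)) ∧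
      Fr (sv M) (UP M) (WP M) (QP M) w (centralizer (V : Set G)) := by
  have hex : ∀ i j : Fin 5, ∃ w, i ≠ j → w ∈ WP M i j ∧ M.Ind w (Equiv.swap i j) := by
    intro i j
    by_cases hij : i = j
    · exact ⟨1, fun h0 => absurd hij h0⟩
    · obtain ⟨w, hw, hi⟩ := exists_w b hij
      exact ⟨w, fun _ => ⟨hw, hi⟩⟩
  choose w hw using hex
  refine ⟨w, fun i j hij => (hw i j hij).2, ?_⟩
  refine
    { s_sq := fun i => M.e_sq _
      s_comm := fun i j => M.e_comm _ _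
      s_rel := ?_
      sK := ?_
      Ks := ?_
      Usym := UP_symm M
      Wsym := WP_symm M
      Qsym := QP_symm M
      UK := fun hij => U_le_C b hij
      KU := ?_
      KW := ?_
      Uab := ?_
      Usq := fun hij u hu => U_sq b hij hu
      UQ := fun hij => U_le_Q b hij
      UQc := fun hij q hq u hu => U_comm_Q b hij hq hu
      WQ := fun hij => W_le_Q b hij
      QW := fun hij q hq x hx => QW_comm b hij hq hx
      Wsq := fun hij x hx => W_sq b hij hx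
      sU := ?_
      sU' := fun hij => sv_notMem b hij
      wW := fun hij => (hw _ _ hij).1
      w1 := ?_
      w2 := ?_
      w3 := ?_
      cw := fun h5 => hcw.gen h5
      core := fun h5 => hcore.gen h5
      inter := fun x hx => inter_eq b hx
      faith := fun hij => hfaith.gen hij }
  · intro i j k l m h5
    obtain ⟨p, rfl, rfl, rfl, rfl, rfl⟩ := exists_perm5 h5
    unfold sv
    rw [← M.e_add, ← M.e_add, ← M.e_add, ← M.e_add]
    have h1 : ((Pi.single (p 0) 1 + Pi.single (p 1) 1 + Pi.single (p 2) 1 + Pi.single (p 3) 1 +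
        Pi.single (p 4) 1 : Vec)) = 1 := by
      funext x
      obtain ⟨y, rfl⟩ := p.surjective x
      simp only [Pi.add_apply, Pi.single_apply, p.injective.eq_iff, Pi.one_apply]
      fin_cases y <;> simp
    rw [h1, M.e_one]
  · intro i
    rw [mem_centralizer_iff]
    exact fun v hv => M.comm hv (M.e_mem _)
  · intro i g hg
    exact (mem_centralizer_iff.1 hg _ (M.e_mem _)).symm
  · intro i j hij g hg u hu
    refine UP_norm ?_ hu
    have h1 := (mem_centralizer_iff.1 hg _ (M.e_mem (Pi.single i 1))).symm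
    have h2 := (mem_centralizer_iff.1 hg _ (M.e_mem (Pi.single j 1))).symm
    unfold sv
    rw [← mul_assoc, h1, mul_assoc, h2, ← mul_assoc]
  · intro i j hij g hg u hu
    refine WW_norm ?_ hu
    have h1 := (mem_centralizer_iff.1 hg _ (M.e_mem (Pi.single i 1))).symm
    have h2 := (mem_centralizer_iff.1 hg _ (M.e_mem (Pi.single j 1))).symm
    unfold sv
    rw [← mul_assoc, h1, mul_assoc, h2, ← mul_assoc]
  · intro i j hij u hu v hv
    exact U_comm_Q b hij (U_le_Q b hij hu) hv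
  · intro i j k hij hki hkj
    refine e_mem_UP ?_
    rw [Pi.single_eq_of_ne hki.symm, Pi.single_eq_of_ne hkj.symm]
  · intro i j k hij hki hkj u hu
    have h1 := UP_conj (hw _ _ hij).2 hu
    rw [Equiv.swap_apply_left, Equiv.swap_apply_of_ne_of_ne hki hkj] at h1
    exact h1
  · intro i j k hij hki hkj u hu
    have h1 := UP_conj (hw _ _ hij).2 hu
    rw [Equiv.swap_apply_right, Equiv.swap_apply_of_ne_of_ne hki hkj] at h1
    exact h1
  · intro i j k l hij hki hkj hli hlj hkl u hu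
    have h1 := UP_conj (hw _ _ hij).2 hu
    rw [Equiv.swap_apply_of_ne_of_ne hki hkj, Equiv.swap_apply_of_ne_of_ne hli hlj] at h1
    exact h1

/-- The frame of #14261 from `Base` (one module) and the three facts (1.5), (2.4), (3.4). -/
theorem fr_of (hcw : CwStd M) (hcore : CoreStd M) (hfaith : FaithStd M) :
    ∃ w, Fr (sv M) (UP M) (WP M) (QP M) w (centralizer (V : Set G)) := by
  obtain ⟨w, -, hw⟩ := fr_of_ind b hcw hcore hfaith
  exact ⟨w, hw⟩

end base

end Cfsg.Agent.Omega.TTn.Di
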