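import Cfsg.Agent.Omega.TTn.DiCore
import Cfsg.Agent.Omega.TTn.DiInst

/-!
# (2.4) of #14261 for the standard labels: `CoreStd M` from `Base S M M h`
-/

set_option autoImplicit false
set_option linter.unusedSectionVars false

namespace Cfsg.Agent.Omega.TTn.Di

open Subgroup Cfsg Cfsg.Agent.ZN
open Cfsg.Agent.Omega.S5.Mod Cfsg.Agent.Omega.S5.TT

universe u

variable {G : Type u} [Group G] [Finite G] {S : Sylow 2 G} {V L : Subgroup G} {M : FiveMod V L} {h : G}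

theorem UP_two_three_le (b : Base S M M h) : UU (M.e aa) (M.e nn) ≤ UP M 2 3 := by
  intro y hy
  obtain ⟨k, -, hk⟩ := b.dih₁.exists_swap
  have h1 : k⁻¹ * M.e aa * k⁻¹⁻¹ = M.e nn := by rw [← Dih.tt_n hk]; group
  have h2 : k⁻¹ * M.e nn * k⁻¹⁻¹ = M.e aa := by rw [← Dih.tt_a hk]; group
  have h3 := UU_conj k⁻¹ hy
  rw [h1, h2, ← UP_zero_one b] at h3
  have h4 := UP_conj hk h3
  have h5 : k * (k⁻¹ * y * k⁻¹⁻¹) * k⁻¹ = y := by group
  rw [h5] at h4
  exact h4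

/-- (2.4) -/
theorem coreStd (b : Base S M M h) : CoreStd M := by
  intro c hc h1 h2
  obtain ⟨p, p0, p1⟩ := exists_perm2 (i := (1 : Fin 5)) (j := 2) (by decide)
  obtain ⟨l, hlL, hl⟩ := M.exists_lift p
  have ec : c = l * (l⁻¹ * c * l) * l⁻¹ := by group
  have hf : l⁻¹ * c * l ∈ WW V V (M.e nn) := by
    rw [← WP01, ← WP_conj_iff hl, ← ec, p0, p1]
    exact hc
  rw [QP01, ec]
  refine b.core_std hlL hf (fun y hy => ?_) fun y hy => ?_
  · rw [← ec]
    exact h1 y (by rw [UP_zero_one b]; exact hy)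
  · rw [← ec]
    exact h2 y (UP_two_three_le b hy)

end Cfsg.Agent.Omega.TTn.Di
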