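import Cfsg.Agent.Omega.TTn.DiFrame

/-!
# The hypotheses of §§4, 5 of #14261 (helper439), as a statement about `U = U₁₂`, `A = U₃₄`,
`n = 12`, `a = s₅`, `b = s₄`, `w = w₂₃`
-/

set_option autoImplicit false

namespace Cfsg.Agent.Omega.TTn.Di

open Subgroup

universe u

variable {G : Type u} [Group G]

/-- the hypotheses of §§4, 5 -/
structure TH (U A : Subgroup G) (n a b w : G) : Prop where
  comm : ∀ x ∈ U, ∀ y ∈ U, x * y = y * x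
  sq : ∀ x ∈ U, x * x = 1
  n_mem : n ∈ U
  a_mem : a ∈ U
  b_mem : b ∈ U
  norm : ∀ g, g * n = n * g → ∀ u ∈ U, cj g u ∈ U
  gen : U ≤ closure {x | x = n ∨ ∃ g, g * n = n * g ∧ x = cj g a}
  n1 : n ≠ 1
  a1 : a ≠ 1
  b1 : b ≠ 1
  an : a ≠ n
  bn : b ≠ n
  ab : a ≠ b
  nab : n ≠ a * b
  An : ∀ x ∈ A, x * n = n * x
  Ab : ∀ x ∈ A, x * b = b * x
  AU : ∀ x ∈ A, ∀ u ∈ U, cm x u = 1 ∨ cm x u = n ∨ cm x u = a ∨ cm x u = n * a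
  ne : ∃ x ∈ A, ∃ u ∈ U, cm x u ≠ 1 ∧ cm x u ≠ n
  Aa : ∀ g, g * n = n * g → (cj g a = a ∨ cj g a = n * a) → ∀ x ∈ A, cj g x ∈ A
  sw1 : ∃ g, g * n = n * g ∧ cj g a = b ∧ cj g b = a
  sw2 : ∃ g, g * n = n * g ∧ cj g a = n * (a * b) ∧ cj g b = b
  wn : ∀ z ∈ U, cj w z * n = n * cj w z
  wa : ∀ z ∈ U, cj w z * a = a * cj w z
  wb : ∀ z ∈ U, cj w z * b = b * cj w z
  wU : ∀ z ∈ U, ∀ u ∈ U, cm (cj w z) u = 1 ∨ cm (cj w z) u = a ∨ cm (cj w z) u = b ∨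
    cm (cj w z) u = a * b
  ww : ∀ z ∈ U, z * cj w z = cj w z * z
  w0 : ∀ u ∈ U, u * cj w n = cj w n * u


end Cfsg.Agent.Omega.TTn.Di
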