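import Cfsg.Agent.Omega.TTn.DiCalc
import Cfsg.Agent.Omega.TTn.DiTH

/-!
# The end of #14261 (helper439): `[U i j, U k l] = 1`

`FrN` = the frame `Fr` with the facts on `N_{ij} = C_G(s i s j)` which are used in §§4, 5.
-/

set_option autoImplicit false

namespace Cfsg.Agent.Omega.TTn.Di

open Subgroup

universe u

variable {G : Type u} [Group G]

/-- `Fr`, with the facts on `N_{ij} = C_G(s i s j)`: it normalises `U i j`; `U i j` is generated by
`s i s j` and the `N_{ij}`-conjugates of `s m`; `s m` is not conjugate to `s k s l`. -/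
structure FrN (s : Fin 5 → G) (U W Q : Fin 5 → Fin 5 → Subgroup G) (w : Fin 5 → Fin 5 → G)
    (K : Subgroup G) : Prop extends Fr s U W Q w K where
  NU : ∀ {i j}, i ≠ j → ∀ g, g * (s i * s j) = s i * s j * g → ∀ u ∈ U i j, cj g u ∈ U i j
  gen : ∀ {i j k l m}, D5 i j k l m → U i j ≤ closure {x | x = s i * s j ∨
    ∃ g, g * (s i * s j) = s i * s j * g ∧ x = cj g (s m)}
  nc : ∀ {i j k l m}, D5 i j k l m → ∀ g, cj g (s m) ≠ s k * s l
  wcj : ∀ {i j}, i ≠ j → cj (w i j) (s i) = s j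
  wcj' : ∀ {i j k}, i ≠ j → k ≠ i → k ≠ j → cj (w i j) (s k) = s k

namespace FrN

variable {s : Fin 5 → G} {U W Q : Fin 5 → Fin 5 → Subgroup G} {w : Fin 5 → Fin 5 → G}
  {K : Subgroup G} (F : FrN s U W Q w K) {i j k l m : Fin 5}

include F

/-- from `[U i j, U i k] = 1` to `[U k l, U k i] = 1` -/
theorem move (h : D5 i j k l m) (hc : ∀ y ∈ U i j, ∀ z ∈ U i k, y * z = z * y) :
    ∀ y ∈ U k l, ∀ z ∈ U k i, y * z = z * y := by
  -- `[U k j, U k i] = 1`
  have h1 : ∀ y ∈ U k j, ∀ z ∈ U k i, y * z = z * y := by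
    intro y hy z hz
    have e1 : w i k * z = z * w i k :=
      F.UQc h.ik _ (F.WQ h.ik (F.wW h.ik)) z (F.Usym k i ▸ hz)
    have h2 := hc _ (F.w2 h.ik h.ij.symm h.jk y hy) z (F.Usym k i ▸ hz)
    have h3 := congrArg (cj (w i k)) h2
    rwa [cj_mul, cj_mul, F.cj_w_w h.ik (F.UK h.jk.symm hy), cj_eq_of_comm e1] at h3
  intro y hy z hz
  have hyK := F.UK h.kl hy
  have hzK := F.UK h.ik.symm hz
  have hy1 : cj (w j l) y ∈ U k j := by
    rw [F.Usym]
    exact F.w2 h.jl h.jk.symm h.kl y (F.Usym k l ▸ hy)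
  have hz1 : cj (w j l) z ∈ U k i := F.w3 h.jl h.jk.symm h.kl h.ij h.il h.ik.symm z hz
  have h3 := congrArg (cj (w j l)) (h1 _ hy1 _ hz1)
  rwa [cj_mul, cj_mul, F.cj_w_w h.jl hyK, F.cj_w_w h.jl hzK] at h3

/-- `[U i j, U i k] = 1` gives `[U i j, U k l] = 1`. -/
theorem of_share (h : D5 i j k l m) (hc : ∀ y ∈ U i j, ∀ z ∈ U i k, y * z = z * y) :
    ∀ y ∈ U i j, ∀ z ∈ U k l, y * z = z * y := by
  intro y hy z hz
  have hyK := F.UK h.ij hy
  have hD : D5 k i l j m :=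
    ⟨h.ik.symm, h.kl, h.jk.symm, h.km, h.il, h.ij, h.im, h.jl.symm, h.lm, h.jm⟩
  have h1 : Fr.PP s U k l i z := F.thmC' hD hz fun v hv => F.move h hc z hz v hv
  rcases h1.2 with h2 | h2
  · exact hc y hy z (F.Usym k i ▸ h2)
  · have h3 := hc y hy _ (F.Usym k i ▸ h2)
    have h4 := F.Ks i y hyK
    have h5 : y * z * s i = z * y * s i := by
      rw [mul_assoc, h3, mul_assoc z y, h4, ← mul_assoc]
    exact mul_right_cancel h5

theorem s_prod (h : D5 i j k l m) : s k * s l * s m = s i * s j := by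
  have hD : D5 k i l j m :=
    ⟨h.ik.symm, h.kl, h.jk.symm, h.km, h.il, h.ij, h.im, h.jl.symm, h.lm, h.jm⟩
  exact F.rel5 hD

theorem s_prod' (h : D5 i j k l m) : s i * s j * s m = s k * s l := by
  exact F.rel5 h.b

theorem n_mem (h : D5 i j k l m) : s i * s j ∈ U i j := by
  rw [← F.s_prod h]
  exact mul_mem (mul_mem (F.sU h.ij h.ik.symm h.jk.symm) (F.sU h.ij h.il.symm h.jl.symm))
    (F.sU h.ij h.im.symm h.jm.symm)

theorem s_inj {a b : Fin 5} (h : a ≠ b) : s a ≠ s b := by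
  intro h1
  obtain ⟨c, hc, hc'⟩ : ∃ c : Fin 5, c ≠ a ∧ c ≠ b := by
    clear h1 F
    revert a b; decide
  exact F.sU' hc'.symm (h1 ▸ F.sU hc'.symm h hc.symm)

theorem wcj₂ (hij : i ≠ j) : cj (w i j) (s j) = s i := by
  rw [← F.wcj hij, F.cj_w_w hij (F.sK i)]

/-- the hypotheses of §§4, 5 hold if `[U i j, U k l] ≠ 1` -/
theorem th (h : D5 i j k l m) (hne : ¬ ∀ y ∈ U i j, ∀ z ∈ U k l, y * z = z * y) :
    TH (U i j) (U k l) (s i * s j) (s m) (s l) (w j k) := by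
  have hn := F.n_mem h
  have hm : s m ∈ U i j := F.sU h.ij h.im.symm h.jm.symm
  have hl : s l ∈ U i j := F.sU h.ij h.il.symm h.jl.symm
  have hK : ∀ {z}, z ∈ U i j → cj (w j k) z ∈ U i k := by
    intro z hz
    rw [F.Usym]
    exact F.w1 h.jk h.ij h.ik z (F.Usym i j ▸ hz)
  have hK' : ∀ {z}, z ∈ U i j → cj (w j k) z ∈ K := fun hz => F.UK h.ik (hK hz)
  refine ⟨F.Uab h.ij, F.Usq h.ij, hn, hm, hl, F.NU h.ij, F.gen h, ?_, F.s_ne m, F.s_ne l, ?_, ?_,
    F.s_inj h.lm.symm, ?_, ?_, ?_, ?_, ?_, ?_, ?_, ?_, ?_, ?_, ?_, ?_, ?_, ?_⟩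
  · intro h1
    have h2 := F.s_inj h.ij
    exact h2 (by rw [← mul_one (s j), ← F.s_sq i, F.s_comm i i, ← mul_assoc, F.s_comm j i, h1, one_mul])
  · exact F.sl_ne h.b.d
  · exact F.sl_ne h.b
  · intro h1
    refine F.s_ne k ?_
    have h2 := F.s_prod h
    rw [h1, mul_assoc, F.s_comm l m] at h2
    exact mul_eq_right.1 h2
  · intro x hx
    exact F.n_comm i j (F.UK h.kl hx)
  · intro x hx
    exact F.Ks l x (F.UK h.kl hx)
  · intro x hx u hu
    rcases F.comm_disj h.b hu hx with e | e | e | e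
    · exact Or.inl e
    · exact Or.inr (Or.inl e)
    · exact Or.inr (Or.inr (Or.inl e))
    · refine Or.inr (Or.inr (Or.inr ?_))
      rw [e, F.s_prod' h]
  · by_contra hcon
    push Not at hcon
    refine hne fun y hy z hz => ?_
    refine (F.faith h.ij z (F.UK h.kl hz) (fun u hu => ?_) y hy).symm
    by_cases h1 : cm z u = 1
    · exact Or.inl h1
    · exact Or.inr (hcon z hz u hu h1)
  · intro g hg hga x hx
    have hmn : cj g (s m) = s m := by
      rcases hga with e | e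
      · exact e
      · exact absurd (e.trans (F.s_prod' h)) (F.nc h g)
    refine F.NU h.kl g ?_ x hx
    rw [← F.s_prod' h, ← mul_assoc, hg, mul_assoc (s i * s j), comm_of_cj hmn, ← mul_assoc]
  · refine ⟨w m l, ?_, F.wcj h.lm.symm, F.wcj₂ h.lm.symm⟩
    exact comm_of_cj (by rw [cj_mul, F.wcj' h.lm.symm h.im h.il, F.wcj' h.lm.symm h.jm h.jl])
  · refine ⟨w m k, ?_, ?_, F.wcj' h.km.symm h.lm h.kl.symm⟩
    · exact comm_of_cj (by rw [cj_mul, F.wcj' h.km.symm h.im h.ik, F.wcj' h.km.symm h.jm h.jk])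
    · rw [F.wcj h.km.symm, ← F.s_prod h, F.s_comm m l, mul_assoc (s k * s l), ← mul_assoc (s m),
        F.s_comm m l, mul_assoc (s l), F.s_sq, mul_one, mul_assoc, F.s_sq, mul_one]
  · intro z hz
    exact F.n_comm i j (hK' hz)
  · intro z hz
    exact F.Ks m _ (hK' hz)
  · intro z hz
    exact F.Ks l _ (hK' hz)
  · intro z hz u hu
    have hD : D5 i l j k m :=
      ⟨h.il, h.ij, h.ik, h.im, h.jl.symm, h.kl.symm, h.lm, h.jk, h.jm, h.km⟩
    rcases F.comm_adj hD hu (hK hz) with e | e | e | e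
    · exact Or.inl e
    · exact Or.inr (Or.inl e)
    · exact Or.inr (Or.inr (Or.inl e))
    · exact Or.inr (Or.inr (Or.inr e))
  · intro z hz
    exact F.alt h.ij h.ik.symm h.jk.symm hz
  · intro u hu
    rw [cj_mul, F.wcj' h.jk h.ij h.ik, F.wcj h.jk]
    exact F.n_comm i k (F.UK h.ij hu)

/-- `[U i j, U k l] = 1`, given §§4, 5 as `hT`. -/
theorem comm_of (hT : ∀ {U A : Subgroup G} {n a b w : G}, TH U A n a b w →
    ∀ z ∈ U, ∀ u ∈ U, cj w z * u = u * cj w z) (h : D5 i j k l m) :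
    ∀ y ∈ U i j, ∀ z ∈ U k l, y * z = z * y := by
  by_contra hne
  refine hne (F.of_share h fun y hy z hz => ?_)
  have h1 := hT (F.th h hne)
  have h2 : cj (w j k) z ∈ U i j := by
    rw [F.Usym]
    exact F.w2 h.jk h.ij h.ik z (F.Usym i k ▸ hz)
  have h3 := h1 _ h2 y hy
  rw [F.cj_w_w h.jk (F.UK h.ik hz)] at h3
  exact h3.symm

end FrN

end Cfsg.Agent.Omega.TTn.Di
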