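import Cfsg.Agent.Omega.TTn.Base

/-!
# D(i): two facts on `C_G(U_n)` (#14261, (1.5) and (3.4))

* `Base.cw` : `[C_G(U_n), W_a] ≤ Q_n`;
* `Base.faith` : an element of `C_G(n)` acting on `U_n` with `[g, U_n] ≤ ⟨n⟩` centralises `U_n`.
-/

set_option autoImplicit false

namespace Cfsg.Agent.Omega.TTn

open Subgroup Cfsg Cfsg.Agent.ZN Cfsg.Agent.ZN.ChoiceBase
open Cfsg.Agent.Omega.S5.Mod Cfsg.Agent.Omega.S5.TT
open Cfsg.Agent.Omega.S5.TT.Pos (mem_C)

universe u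

variable {G : Type u} [Group G]

/-- Sylow's theorem in `C` with the Sylow 2-subgroup `T`. -/
theorem exists_conj_le_cw [Finite G] {C T X : Subgroup G} (hT : IsPGroup 2 T)
    (hd : ¬ 2 ∣ T.relIndex C) (hX : IsPGroup 2 X) (hXC : X ≤ C) :
    ∃ c ∈ C, ∀ x ∈ X, c * x * c⁻¹ ∈ T := by
  have : Fact (Nat.Prime 2) := ⟨Nat.prime_two⟩
  have hX' : IsPGroup 2 (X.subgroupOf C) := hX.comap_subtype
  obtain ⟨S2, hS2⟩ := hX'.exists_le_sylow
  have hd' : ¬ 2 ∣ (T.subgroupOf C).index := hd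
  obtain ⟨c, hc⟩ := MulAction.exists_smul_eq C S2
    ((hT.comap_of_injective _ C.subtype_injective).toSylow hd')
  refine ⟨c, c.2, fun x hx => ?_⟩
  have h1 : (⟨x, hXC hx⟩ : C) ∈ (S2 : Subgroup C) := hS2 (Subgroup.mem_subgroupOf.mpr hx)
  have h2 : c * ⟨x, hXC hx⟩ * c⁻¹ ∈ ((c • S2 : Sylow 2 C) : Subgroup C) := by
    rw [Sylow.coe_subgroup_smul]
    exact Subgroup.smul_mem_pointwise_smul _ (MulAut.conj c) _ h1
  rw [hc] at h2
  exact mem_subgroupOf.1 h2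

section core

variable {n : G} {U : Subgroup G}

/-- `g` centralises `n` and acts on `U` with `[g, U] ≤ ⟨n⟩`. -/
def Dn (n : G) (U : Subgroup G) (g : G) : Prop :=
  g * n = n * g ∧ ∀ u ∈ U, g * u * g⁻¹ * u⁻¹ = 1 ∨ g * u * g⁻¹ * u⁻¹ = n

theorem Dn.eq {g : G} (h : Dn n U g) {u : G} (hu : u ∈ U) : g * u * g⁻¹ = u ∨ g * u * g⁻¹ = n * u := by
  rcases h.2 u hu with h1 | h1
  · left; rwa [mul_inv_eq_one] at h1
  · right; rwa [mul_inv_eq_iff_eq_mul] at h1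

theorem Dn.of {g : G} (h0 : g * n = n * g) (h : ∀ u ∈ U, g * u * g⁻¹ = u ∨ g * u * g⁻¹ = n * u) :
    Dn n U g := by
  refine ⟨h0, fun u hu => ?_⟩
  rcases h u hu with h1 | h1
  · left; rw [h1, mul_inv_cancel]
  · right; rw [h1, mul_inv_cancel_right]

theorem Dn.one : Dn n U 1 := ⟨by group, fun u _ => by left; group⟩

theorem Dn.mul (hn : n * n = 1) {g k : G} (hg : Dn n U g) (hk : Dn n U k) : Dn n U (g * k) := by
  have e0 : g * n * g⁻¹ = n := by rw [hg.1]; group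
  refine .of ?_ fun u hu => ?_
  · rw [mul_assoc, hk.1, ← mul_assoc, hg.1, mul_assoc]
  · have e : g * k * u * (g * k)⁻¹ = g * (k * u * k⁻¹) * g⁻¹ := by group
    rw [e]
    rcases hk.eq hu with h1 | h1 <;> rcases hg.eq hu with h2 | h2
    · left; rw [h1, h2]
    · right; rw [h1, h2]
    · right
      rw [h1]
      calc g * (n * u) * g⁻¹ = (g * n * g⁻¹) * (g * u * g⁻¹) := by group
        _ = n * u := by rw [e0, h2]
    · left
      rw [h1]
      calc g * (n * u) * g⁻¹ = (g * n * g⁻¹) * (g * u * g⁻¹) := by group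
        _ = (n * n) * u := by rw [e0, h2]; group
        _ = u := by rw [hn, one_mul]

theorem Dn.inv (hn : n * n = 1) {g : G} (hg : Dn n U g) : Dn n U g⁻¹ := by
  have e0 : g⁻¹ * n * g = n := by
    calc g⁻¹ * n * g = g⁻¹ * (n * g) := by group
      _ = g⁻¹ * (g * n) := by rw [hg.1]
      _ = n := by group
  refine .of ?_ fun u hu => ?_
  · calc g⁻¹ * n = (g⁻¹ * n * g) * g⁻¹ := by group
      _ = n * g⁻¹ := by rw [e0]
  · rcases hg.eq hu with h1 | h1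
    · left
      calc g⁻¹ * u * g⁻¹⁻¹ = g⁻¹ * (g * u * g⁻¹) * g := by rw [h1]; group
        _ = u := by group
    · right
      have h2 : u = n * (g * u * g⁻¹) := by rw [h1, ← mul_assoc, hn, one_mul]
      calc g⁻¹ * u * g⁻¹⁻¹ = g⁻¹ * u * g := by group
        _ = g⁻¹ * (n * (g * u * g⁻¹)) * g := by rw [← h2]
        _ = (g⁻¹ * n * g) * u := by group
        _ = n * u := by rw [e0]

/-- `Dn` as a subgroup -/
def DD (n : G) (U : Subgroup G) (hn : n * n = 1) : Subgroup G where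
  carrier := {g | Dn n U g}
  one_mem' := .one
  mul_mem' hg hk := hg.mul hn hk
  inv_mem' hg := hg.inv hn

/-- squares centralise `U` -/
theorem Dn.sq (hn : n * n = 1) {g : G} (hg : Dn n U g) {u : G} (hu : u ∈ U) :
    g * g * u = u * (g * g) := by
  have e0 : g * n * g⁻¹ = n := by rw [hg.1]; group
  have h1 : g * g * u * (g * g)⁻¹ = u := by
    have e : g * g * u * (g * g)⁻¹ = g * (g * u * g⁻¹) * g⁻¹ := by group
    rw [e]
    rcases hg.eq hu with h2 | h2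
    · rw [h2, h2]
    · rw [h2]
      calc g * (n * u) * g⁻¹ = (g * n * g⁻¹) * (g * u * g⁻¹) := by group
        _ = (n * n) * u := by rw [e0, h2]; group
        _ = u := by rw [hn, one_mul]
  rwa [mul_inv_eq_iff_eq_mul] at h1

/-- commutators centralise `U` -/
theorem Dn.comm (hn : n * n = 1) (hnU : n ∈ U) {g k : G} (hg : Dn n U g) (hk : Dn n U k) {u : G}
    (hu : u ∈ U) : (g * k * g⁻¹ * k⁻¹) * u = u * (g * k * g⁻¹ * k⁻¹) := by
  have eg : g * n * g⁻¹ = n := by rw [hg.1]; group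
  have ek : k * n * k⁻¹ = n := by rw [hk.1]; group
  have h1 : ∀ u ∈ U, g * k * u * (g * k)⁻¹ = k * g * u * (k * g)⁻¹ := by
    intro u hu
    have e1 : g * k * u * (g * k)⁻¹ = g * (k * u * k⁻¹) * g⁻¹ := by group
    have e2 : k * g * u * (k * g)⁻¹ = k * (g * u * g⁻¹) * k⁻¹ := by group
    rw [e1, e2]
    rcases hk.eq hu with h2 | h2 <;> rcases hg.eq hu with h3 | h3
    · rw [h2, h3, h2]
    · rw [h2, h3]
      calc n * u = (k * n * k⁻¹) * (k * u * k⁻¹) := by rw [ek, h2]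
        _ = k * (n * u) * k⁻¹ := by group
    · rw [h2, h3, h2]
      calc g * (n * u) * g⁻¹ = (g * n * g⁻¹) * (g * u * g⁻¹) := by group
        _ = n * u := by rw [eg, h3]
    · rw [h2, h3]
      calc g * (n * u) * g⁻¹ = (g * n * g⁻¹) * (g * u * g⁻¹) := by group
        _ = (k * n * k⁻¹) * (k * u * k⁻¹) := by rw [eg, h3, ek, h2]
        _ = k * (n * u) * k⁻¹ := by group
  have h2 : Dn n U (k * g)⁻¹ := (hk.mul hn hg).inv hn
  have h3 : (k * g)⁻¹ * u * (k * g)⁻¹⁻¹ ∈ U := by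
    rcases h2.eq hu with h3 | h3
    · rw [h3]; exact hu
    · rw [h3]; exact mul_mem hnU hu
  have h4 := h1 _ h3
  have h5 : (g * k * g⁻¹ * k⁻¹) * u * (g * k * g⁻¹ * k⁻¹)⁻¹ = u := by
    calc (g * k * g⁻¹ * k⁻¹) * u * (g * k * g⁻¹ * k⁻¹)⁻¹ =
          g * k * ((k * g)⁻¹ * u * (k * g)⁻¹⁻¹) * (g * k)⁻¹ := by group
      _ = k * g * ((k * g)⁻¹ * u * (k * g)⁻¹⁻¹) * (k * g)⁻¹ := h4
      _ = u := by group
  rwa [mul_inv_eq_iff_eq_mul] at h5

/-- **(3.4), the core**: `T` a Sylow 2-subgroup of `N = C_G(n)` centralising `a`, `U = ⟨n, a ^ N⟩`. -/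
theorem dn_centralizes [Finite G] {a : G} (hn : n * n = 1) {T : Subgroup G} (hT : IsPGroup 2 T)
    (hTN : T ≤ centralizer ({n} : Set G)) (hd : ¬ 2 ∣ T.relIndex (centralizer ({n} : Set G)))
    (ha : ∀ t ∈ T, t * a = a * t) {g : G} (hg : Dn n (UU n a) g) {u : G} (hu : u ∈ UU n a) :
    g * u = u * g := by
  set N := centralizer ({n} : Set G) with hN
  have hmN : ∀ {x : G}, x ∈ N ↔ x * n = n * x := fun {x} => by
    rw [hN, mem_centralizer_singleton_iff]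
  have hnU : n ∈ UU n a := self_mem_UU n a
  set D := DD n (UU n a) hn with hD
  have hDm : ∀ {x : G}, x ∈ D ↔ Dn n (UU n a) x := Iff.rfl
  have hDN : D ≤ N := fun x hx => hmN.2 (hDm.1 hx).1
  -- `D` is normalised by `N`
  have hDn : ∀ x ∈ N, ∀ d ∈ D, x * d * x⁻¹ ∈ D := by
    intro x hx d hdD
    have hxn : x * n * x⁻¹ = n := by rw [hmN.1 hx]; group
    refine hDm.2 (.of ?_ fun w hw => ?_)
    · exact hmN.1 (mul_mem (mul_mem hx (hDN hdD)) (inv_mem hx))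
    · have h1 : x⁻¹ * w * x ∈ UU n a := by
        have := UU_norm (y := a) (hmN.1 (inv_mem hx)) hw
        rwa [inv_inv] at this
      have e : x * d * x⁻¹ * w * (x * d * x⁻¹)⁻¹ = x * (d * (x⁻¹ * w * x) * d⁻¹) * x⁻¹ := by group
      rw [e]
      rcases (hDm.1 hdD).eq h1 with h2 | h2
      · left; rw [h2]; group
      · right; rw [h2]
        calc x * (n * (x⁻¹ * w * x)) * x⁻¹ = (x * n * x⁻¹) * w := by group
          _ = n * w := by rw [hxn]
  -- `E = D ⊓ T`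
  set E := D ⊓ T with hE
  have hEp : IsPGroup 2 E := hT.to_le inf_le_right
  have hmax : ∀ U : Subgroup G, IsPGroup 2 U → E ≤ U → U ≤ D → U ≤ E := by
    intro U hU hEU hUD
    obtain ⟨c, hc, hcT⟩ := exists_conj_le_cw hT hd hU (hUD.trans hDN)
    have h1 : cj c U ≤ E := by
      rintro _ ⟨x, hx, rfl⟩
      exact mem_inf.2 ⟨hDn c hc x (hUD hx), hcT x hx⟩
    have h2 : Nat.card U ≤ Nat.card E := by
      rw [← card_cj c U]
      exact card_le_of_le h1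
    rw [Subgroup.eq_of_le_of_card_ge hEU h2]
  -- Sylow in `D`
  have hsyl : ∀ X : Subgroup G, IsPGroup 2 X → X ≤ D → ∃ c ∈ D, cj c X ≤ E := by
    have : Fact (Nat.Prime 2) := ⟨Nat.prime_two⟩
    intro X hX hXD
    have hX' : IsPGroup 2 (X.subgroupOf D) := hX.comap_subtype
    have hE' : IsPGroup 2 (E.subgroupOf D) := hEp.comap_subtype
    obtain ⟨S1, hS1⟩ := hX'.exists_le_sylow
    obtain ⟨S2, hS2⟩ := hE'.exists_le_sylow
    have hS2T : ((S2 : Subgroup D).map D.subtype) ≤ E := by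
      refine hmax _ (S2.isPGroup'.map _) ?_ ?_
      · intro x hx
        exact ⟨⟨x, (mem_inf.1 hx).1⟩, hS2 (mem_subgroupOf.2 hx), rfl⟩
      · rintro _ ⟨x, -, rfl⟩
        exact x.2
    obtain ⟨c, hc⟩ := MulAction.exists_smul_eq D S1 S2
    refine ⟨c, c.2, ?_⟩
    rintro _ ⟨x, hx, rfl⟩
    have h1 : (⟨x, hXD hx⟩ : D) ∈ (S1 : Subgroup D) := hS1 (mem_subgroupOf.2 hx)
    have h2 : c * ⟨x, hXD hx⟩ * c⁻¹ ∈ ((c • S1 : Sylow 2 D) : Subgroup D) := by
      rw [Sylow.coe_subgroup_smul]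
      exact Subgroup.smul_mem_pointwise_smul _ (MulAut.conj c) _ h1
    rw [hc] at h2
    exact hS2T ⟨_, h2, rfl⟩
  -- `D = E C`
  set C := centralizer (UU n a : Set G) with hC
  have hCm : ∀ {x : G}, x ∈ C ↔ ∀ w ∈ UU n a, x * w = w * x := by
    intro x
    rw [hC, mem_centralizer_iff]
    exact ⟨fun h w hw => (h w hw).symm, fun h w hw => (h w hw).symm⟩
  have hdec : ∀ d ∈ D, ∃ e ∈ E, ∃ c ∈ C, d = e * c := by
    intro d hdD
    obtain ⟨k, m, hm, ho⟩ := Nat.exists_eq_two_pow_mul_odd (orderOf_pos d).ne'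
    obtain ⟨j, hj⟩ := hm
    have hx : IsPGroup 2 (zpowers (d ^ m)) := by
      rintro ⟨_, i, rfl⟩
      refine ⟨k, Subtype.ext ?_⟩
      change ((d ^ m) ^ i) ^ 2 ^ k = 1
      rw [← zpow_natCast, ← zpow_mul, mul_comm, zpow_mul, zpow_natCast, ← pow_mul, mul_comm m, ← ho,
        pow_orderOf_eq_one, one_zpow]
    obtain ⟨y, hy, hyE⟩ := hsyl _ hx (by rw [zpowers_le]; exact pow_mem hdD m)
    have h1 : y * d ^ m * y⁻¹ ∈ E := hyE ⟨_, mem_zpowers _, rfl⟩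
    have h2 : (y * d ^ m * y⁻¹)⁻¹ * d ^ m ∈ C := by
      rw [hCm]
      intro w hw
      have h3 := Dn.comm hn hnU (hDm.1 hy) (hDm.1 (inv_mem (pow_mem hdD m))) hw
      have e : (y * d ^ m * y⁻¹)⁻¹ * d ^ m = y * (d ^ m)⁻¹ * y⁻¹ * (d ^ m)⁻¹⁻¹ := by group
      rw [e]
      exact h3
    have h3 : d ^ (2 * j) ∈ C := by
      rw [pow_mul, pow_two]
      refine pow_mem ?_ j
      rw [hCm]
      exact fun w hw => Dn.sq hn (hDm.1 hdD) hw
    refine ⟨_, h1, _, mul_mem h2 (inv_mem h3), ?_⟩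
    have e : d ^ m = d * d ^ (2 * j) := by rw [hj, pow_succ']
    calc d = d ^ m * (d ^ (2 * j))⁻¹ := by rw [e]; group
      _ = _ := by group
  -- `E` centralises `x a x⁻¹`
  have hEa : ∀ x : G, x * n = n * x → ∀ e ∈ E, e * (x * a * x⁻¹) = x * a * x⁻¹ * e := by
    intro x hx
    have hxN : x ∈ N := hmN.2 hx
    obtain ⟨d, hdD, hdE⟩ := hsyl (cj x E) (isPGroup_cj x hEp) (by
      rintro _ ⟨w, hw, rfl⟩
      exact hDn x hxN w (mem_inf.1 hw).1)
    obtain ⟨e0, he0, c, hc, hdc⟩ := hdec d hdD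
    have h1 : cj (c * x) E ≤ E := by
      have h2 : cj (c * x) E = cj e0⁻¹ (cj d (cj x E)) := by
        rw [cj_cj, cj_cj, hdc]
        congr 1
        group
      rw [h2]
      refine (cj_mono _ hdE).trans ?_
      rw [cj_eq_of_mem_normalizer (Subgroup.le_normalizer (inv_mem he0))]
    have h2 : cj (c * x) E = E := Subgroup.eq_of_le_of_card_ge h1 (by rw [card_cj])
    intro e he
    rw [← h2] at he
    obtain ⟨e', he', rfl⟩ := he
    have h3 : e' * a = a * e' := ha _ (mem_inf.1 he').2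
    have h4 : c * (x * a * x⁻¹) = x * a * x⁻¹ * c := hCm.1 hc _ (mem_UU hx)
    have h5 : x * a * x⁻¹ = c * x * a * (c * x)⁻¹ := by
      calc x * a * x⁻¹ = (x * a * x⁻¹ * c) * c⁻¹ := by group
        _ = c * (x * a * x⁻¹) * c⁻¹ := by rw [h4]
        _ = _ := by group
    change (c * x * e' * (c * x)⁻¹) * (x * a * x⁻¹) = x * a * x⁻¹ * (c * x * e' * (c * x)⁻¹)
    rw [h5]
    calc (c * x * e' * (c * x)⁻¹) * (c * x * a * (c * x)⁻¹) = c * x * (e' * a) * (c * x)⁻¹ := by group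
      _ = c * x * (a * e') * (c * x)⁻¹ := by rw [h3]
      _ = _ := by group
  have hEC : E ≤ C := by
    intro e he
    have h1 : UU n a ≤ centralizer ({e} : Set G) := by
      refine UU_le ?_ fun x hx => ?_
      · rw [mem_centralizer_singleton_iff]
        exact (hmN.1 (hDN (mem_inf.1 he).1)).symm
      · rw [mem_centralizer_singleton_iff]
        exact (hEa x hx e he).symm
    rw [hCm]
    intro w hw
    exact (mem_centralizer_singleton_iff.1 (h1 hw)).symm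
  obtain ⟨e, he, c, hc, h1⟩ := hdec g hg
  have h2 : g ∈ C := by rw [h1]; exact mul_mem (hEC he) hc
  exact hCm.1 h2 u hu

end core

namespace Base

variable [Finite G] {S : Sylow 2 G} {V₁ V₂ L₁ L₂ : Subgroup G} {M₁ : FiveMod V₁ L₁}
  {M₂ : FiveMod V₂ L₂} {h : G} (b : Base S M₁ M₂ h)
include b

/-- **(1.5)** `[C_G(U_n), W_a] ≤ Q_n` -/
theorem cw {c x : G} (hc : ∀ u ∈ UU (M₁.e nn) (M₁.e aa), c * u = u * c)
    (hx : x ∈ WW V₁ V₂ (M₁.e aa)) : c * x * c⁻¹ * x⁻¹ ∈ Q (M₁.e nn) := by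
  have hcC : c ∈ centralizer (UU (M₁.e nn) (M₁.e aa) : Set G) :=
    mem_centralizer_iff.2 fun u hu => (hc u hu).symm
  refine b.WWa_inf_centralizer_le (mem_inf.2 ⟨?_, ?_⟩)
  · exact mul_mem (WW_norm (hc _ (mem_UU_self _ _)) hx) (inv_mem hx)
  · have h1 : x ∈ normalizer (centralizer (UU (M₁.e nn) (M₁.e aa) : Set G) : Set G) :=
      b.normalizer_centralizer_UU (b.Qa_le_T (b.WWa_le_Qa hx)).2
    have h2 := (mem_normalizer_iff.1 h1 _).1 (inv_mem hcC)
    have e : c * x * c⁻¹ * x⁻¹ = c * (x * c⁻¹ * x⁻¹) := by group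
    rw [e]
    exact mul_mem hcC h2

/-- **(3.4)** `g ∈ C_G(n)`, `[g, U_n] ≤ ⟨n⟩` ⟹ `[g, U_n] = 1`. -/
theorem faith {g : G} (hgn : g * M₁.e nn = M₁.e nn * g)
    (hg : ∀ u ∈ UU (M₁.e nn) (M₁.e aa), g * u * g⁻¹ * u⁻¹ = 1 ∨ g * u * g⁻¹ * u⁻¹ = M₁.e nn)
    {u : G} (hu : u ∈ UU (M₁.e nn) (M₁.e aa)) : g * u = u * g :=
  dn_centralizes (n := M₁.e nn) (M₁.e_sq nn) (S.isPGroup'.to_le inf_le_left) inf_le_right b.not_dvd
    (fun _ ht => b.dih₁.T_comm_a ht) ⟨hgn, hg⟩ hu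

end Base

end Cfsg.Agent.Omega.TTn
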