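/-
Copyright (c) 2026 CFSG team. Released under Apache 2.0 license.
Authors: helper107 (helper375's `Base.cw`, `Base.faith` in the form of `DiInst`)
-/
import Cfsg.Agent.Omega.TTn.DiInst
import Cfsg.Agent.Omega.TTn.DiCw

/-!
# `CwStd`, `FaithStd` from `Base S M M h`
-/

set_option autoImplicit false

namespace Cfsg.Agent.Omega.TTn.Di

open Subgroup Cfsg Cfsg.Agent.ZN
open Cfsg.Agent.Omega.S5.Mod Cfsg.Agent.Omega.S5.TT

universe u

variable {G : Type u} [Group G] [Finite G] {S : Sylow 2 G} {V L : Subgroup G} {M : FiveMod V L} {h : G}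

theorem cwStd (b : Base S M M h) : CwStd M := by
  intro c hc x hx
  rw [QP01]
  rw [WP23] at hx
  exact b.cw (fun u hu => hc u (by rwa [UP_zero_one b])) hx

theorem faithStd (b : Base S M M h) : FaithStd M := by
  intro g hg h1 u hu
  rw [UP_zero_one b] at hu
  refine b.faith ?_ (fun v hv => ?_) hu
  · exact (mem_centralizer_iff.1 hg _ (M.e_mem _)).symm
  · have h2 := h1 v (by rwa [UP_zero_one b])
    rw [sv01] at h2
    exact h2

/-- The frame of #14261, given (2.4) only. -/
theorem fr_of_core (b : Base S M M h) (hcore : CoreStd M) :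
    ∃ w, Fr (sv M) (UP M) (WP M) (QP M) w (centralizer (V : Set G)) :=
  fr_of b (cwStd b) hcore (faithStd b)

end Cfsg.Agent.Omega.TTn.Di
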