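import Cfsg.Agent.Omega.TTn.DiKill
import Cfsg.Agent.Omega.TTn.DiTH

/-!
# Sections 4 and 5 of #14261 (helper439), group form (helper942)

`U = U₁₂` elementary abelian, normalised by `N = C_G(n)`, `A = U₃₄`, `n = 12`, `s = s₅`, `t = s₄`,
`w = w₂₃`.  `A` acts on `U/⟨n⟩` by transvections with centre `s`, nontrivially; `[U, U^w] ≤ ⟨s, t⟩`,
`[z, z^w] = 1` for `z ∈ U`.  THEN `[U, U^w] = 1` (`Trd.main`).

The linear algebra is `DiKill.Dat.kill`, on the `F₂`-space `X = U/⟨n⟩`.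
-/

set_option autoImplicit false

namespace Cfsg.Agent.Omega.TTn.DiTrans

open Subgroup
open Cfsg.Agent.Omega.TTn.DiKill (Fn Act Dat z2 z2')

universe u

variable {G : Type u} [Group G]

/-- The hypotheses. -/
structure Trd (N U A : Subgroup G) (n s t w : G) : Prop where
  comm : ∀ u ∈ U, ∀ v ∈ U, u * v = v * u
  sq : ∀ u ∈ U, u * u = 1
  norm : ∀ g ∈ N, ∀ u ∈ U, g * u * g⁻¹ ∈ U
  cen : ∀ g ∈ N, g * n = n * g
  nU : n ∈ U
  sU : s ∈ U
  tU : t ∈ U
  s1 : s ≠ 1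
  sn : s ≠ n
  t1 : t ≠ 1
  tn : t ≠ n
  ts : t ≠ s
  tsn : t ≠ s * n
  n1 : n ≠ 1
  gen : U ≤ closure ({n} ∪ {x | ∃ g ∈ N, x = g * s * g⁻¹})
  A_le : A ≤ N
  A_val : ∀ g ∈ A, ∀ u ∈ U, g * u * g⁻¹ = u ∨ g * u * g⁻¹ = u * n ∨ g * u * g⁻¹ = u * s ∨
    g * u * g⁻¹ = u * s * n
  A_s : ∀ g ∈ A, g * s * g⁻¹ = s ∨ g * s * g⁻¹ = s * n
  A_t : ∀ g ∈ A, g * t = t * g
  A_ne : ∃ g ∈ A, ∃ u ∈ U, g * u * g⁻¹ ≠ u ∧ g * u * g⁻¹ ≠ u * n
  stab : ∀ g ∈ N, (g * s * g⁻¹ = s ∨ g * s * g⁻¹ = s * n) → ∀ h ∈ A, g * h * g⁻¹ ∈ A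
  swap₁ : ∃ g ∈ N, (g * s * g⁻¹ = t ∨ g * s * g⁻¹ = t * n) ∧ (g * t * g⁻¹ = s ∨ g * t * g⁻¹ = s * n)
  swap₂ : ∃ g ∈ N, (g * s * g⁻¹ = s * t ∨ g * s * g⁻¹ = s * t * n) ∧
    (g * t * g⁻¹ = t ∨ g * t * g⁻¹ = t * n)
  wN : ∀ z ∈ U, w * z * w⁻¹ ∈ N
  w_s : ∀ z ∈ U, (w * z * w⁻¹) * s = s * (w * z * w⁻¹)
  w_t : ∀ z ∈ U, (w * z * w⁻¹) * t = t * (w * z * w⁻¹)
  w_val : ∀ z ∈ U, ∀ y ∈ U, (w * z * w⁻¹) * y * (w * z * w⁻¹)⁻¹ = y ∨
    (w * z * w⁻¹) * y * (w * z * w⁻¹)⁻¹ = y * s ∨ (w * z * w⁻¹) * y * (w * z * w⁻¹)⁻¹ = y * t ∨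
    (w * z * w⁻¹) * y * (w * z * w⁻¹)⁻¹ = y * s * t
  w_alt : ∀ z ∈ U, (w * z * w⁻¹) * z = z * (w * z * w⁻¹)
  w_n : ∀ y ∈ U, (w * n * w⁻¹) * y = y * (w * n * w⁻¹)

/-! ### The module `U/⟨n⟩` -/

section Q

variable (U : Subgroup G) (n : G)

/-- an elementary abelian subgroup with an element -/
structure El : Prop where
  comm : ∀ u ∈ U, ∀ v ∈ U, u * v = v * u
  sq : ∀ u ∈ U, u * u = 1
  nU : n ∈ U

/-- the subgroup `⟨n⟩` of `U` -/
def Z : Subgroup U := (zpowers n).subgroupOf U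

variable {U n}

theorem El.inv (h : El U n) {u : G} (hu : u ∈ U) : u⁻¹ = u := inv_eq_of_mul_eq_one_left (h.sq u hu)

theorem El.mem_Z (h : El U n) {u : U} : u ∈ Z U n ↔ (u : G) = 1 ∨ (u : G) = n := by
  unfold Z
  rw [mem_subgroupOf, mem_zpowers_iff]
  constructor
  · rintro ⟨k, hk⟩
    rcases Int.even_or_odd' k with ⟨m, rfl | rfl⟩
    · left
      rw [← hk, zpow_mul, zpow_ofNat, pow_two, h.sq n h.nU, one_zpow]
    · right
      rw [← hk, zpow_add, zpow_mul, zpow_ofNat, pow_two, h.sq n h.nU, one_zpow, one_mul, zpow_one]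
  · rintro (h1 | h1)
    · exact ⟨0, by rw [zpow_zero, h1]⟩
    · exact ⟨1, by rw [zpow_one, h1]⟩

theorem El.normal (h : El U n) : (Z U n).Normal :=
  ⟨fun x hx g => by
    have : g * x * g⁻¹ = x := by
      apply Subtype.ext
      change (g : G) * x * (g : G)⁻¹ = x
      rw [h.comm g g.2 x x.2, mul_assoc, mul_inv_cancel, mul_one]
    rwa [this]⟩

/-- the module `U/⟨n⟩` -/
def X (_ : El U n) : Type u := Additive (U ⧸ Z U n)

namespace El

/-- the group structure of the quotient -/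
@[reducible] def gp (h : El U n) : Group (U ⧸ Z U n) :=
  @QuotientGroup.Quotient.group U _ (Z U n) h.normal

variable (h : El U n)

instance addCommGroup : AddCommGroup (X h) :=
  letI := h.gp
  @Additive.addCommGroup _
    { h.gp with
      mul_comm := by
        rintro ⟨a⟩ ⟨b⟩
        exact congrArg (QuotientGroup.mk) (Subtype.ext (h.comm a a.2 b b.2)) }

/-- the class of an element -/
def cl (u : U) : X h := Additive.ofMul (QuotientGroup.mk u : U ⧸ Z U n)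

theorem cl_mul (u v : U) : h.cl (u * v) = h.cl u + h.cl v := rfl

theorem cl_one : h.cl 1 = 0 := rfl

theorem cl_surj (x : X h) : ∃ u, h.cl u = x := by
  obtain ⟨u, hu⟩ := QuotientGroup.mk_surjective (s := Z U n) (Additive.toMul x)
  exact ⟨u, hu⟩

theorem cl_eq {u v : U} : h.cl u = h.cl v ↔ (v : G) = u ∨ (v : G) = u * n := by
  have h1 : h.cl u = h.cl v ↔ u⁻¹ * v ∈ Z U n := QuotientGroup.eq
  rw [h1, h.mem_Z]
  change (u : G)⁻¹ * v = 1 ∨ (u : G)⁻¹ * v = n ↔ _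
  rw [inv_mul_eq_iff_eq_mul, inv_mul_eq_iff_eq_mul, mul_one]

theorem cl_zero {u : U} : h.cl u = 0 ↔ (u : G) = 1 ∨ (u : G) = n := by
  rw [← h.cl_one, eq_comm, h.cl_eq]
  simp

instance module : Module (ZMod 2) (X h) :=
  AddCommGroup.zmodModule (n := 2) fun x => by
    obtain ⟨u, rfl⟩ := h.cl_surj x
    rw [two_nsmul, ← h.cl_mul, h.cl_zero]
    left
    exact h.sq u u.2

instance [Finite G] : Finite (X h) := by
  have : Finite (U ⧸ Z U n) := Quotient.finite _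
  exact this

/-- conjugation -/
def cjH {g : G} (hg : ∀ u ∈ U, g * u * g⁻¹ ∈ U) : U →* U where
  toFun u := ⟨g * u * g⁻¹, hg u u.2⟩
  map_one' := Subtype.ext (by simp)
  map_mul' a b := Subtype.ext (by simp [mul_assoc])

/-- the action on the quotient -/
def act {g : G} (hg : ∀ u ∈ U, g * u * g⁻¹ ∈ U) (hn : g * n = n * g) : X h →+ X h :=
  letI := h.gp
  haveI := h.normal
  MonoidHom.toAdditive (QuotientGroup.map (Z U n) (Z U n) (cjH hg) (by
    intro u hu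
    rw [mem_comap]
    rw [h.mem_Z] at hu ⊢
    change g * (u : G) * g⁻¹ = 1 ∨ g * (u : G) * g⁻¹ = n
    rcases hu with hu | hu
    · left; rw [hu]; group
    · right; rw [hu, hn]; group))

theorem act_cl {g : G} (hg : ∀ u ∈ U, g * u * g⁻¹ ∈ U) (hn : g * n = n * g) (u : U) :
    h.act hg hn (h.cl u) = h.cl ⟨g * u * g⁻¹, hg u u.2⟩ := rfl

end El

end Q

/-! ### Functionals -/

section lin

variable {V : Type*} [AddCommGroup V] [Module (ZMod 2) V]

/-- two independent vectors have dual functionals: `α a = 1`, `α b = 0` -/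
theorem exists_dual {a b : V} (ha : a ≠ 0) (hab : a ≠ b) : ∃ α : Fn V, α a = 1 ∧ α b = 0 := by
  have h1 : a ∉ Submodule.span (ZMod 2) {b} := by
    rw [Submodule.mem_span_singleton]
    rintro ⟨c, hc⟩
    rcases z2 c with rfl | rfl
    · rw [zero_smul] at hc; exact ha hc.symm
    · rw [one_smul] at hc; exact hab hc.symm
  obtain ⟨f, hf, hle⟩ := Submodule.exists_le_ker_of_notMem h1
  exact ⟨f, z2' hf, LinearMap.mem_ker.1 (hle (Submodule.mem_span_singleton_self b))⟩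

/-- an additive map moving every vector by a multiple of `a` -/
theorem exists_fn {a : V} (ha : a ≠ 0) (f : V →ₗ[ZMod 2] V) (h : ∀ y, f y = y ∨ f y = y + a) :
    ∃ τ : Fn V, ∀ y, f y = y + τ y • a := by
  obtain ⟨α, h1, -⟩ := exists_dual (b := 0) ha ha
  refine ⟨α ∘ₗ (f - LinearMap.id), fun y => ?_⟩
  have e : (α ∘ₗ (f - LinearMap.id)) y = α (f y - y) := rfl
  rw [e]
  rcases h y with hy | hy
  · rw [hy, sub_self, map_zero, zero_smul, add_zero]
  · rw [hy, add_sub_cancel_left, h1, one_smul]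

end lin

namespace Trd

variable {N U A : Subgroup G} {n s t w : G} (T : Trd N U A n s t w)

include T

theorem el : El U n := ⟨T.comm, T.sq, T.nU⟩

/-- `U/⟨n⟩` -/
abbrev XX : Type u := X T.el

/-- the action of `N` -/
def ac : Act N (X T.el) where
  ρ g := (T.el.act (fun u hu => T.norm g g.2 u hu) (T.cen g g.2)).toZModLinearMap 2
  one x := by
    obtain ⟨u, rfl⟩ := T.el.cl_surj x
    refine (congrArg T.el.cl (Subtype.ext ?_) : T.el.cl ⟨(1 : N) * u * ((1 : N) : G)⁻¹, _⟩ = _)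
    simp
  mul g h x := by
    obtain ⟨u, rfl⟩ := T.el.cl_surj x
    refine (congrArg T.el.cl (Subtype.ext ?_) :
      T.el.cl ⟨(g * h : N) * u * ((g * h : N) : G)⁻¹, _⟩ = T.el.cl ⟨g * (h * u * (h : G)⁻¹) * (g : G)⁻¹, _⟩)
    simp [mul_assoc]

theorem ρ_cl (g : N) (u : U) :
    T.ac.ρ g (T.el.cl u) = T.el.cl ⟨g * u * (g : G)⁻¹, T.norm g g.2 u u.2⟩ := rfl

/-- the vector `a` -/
def a : X T.el := T.el.cl ⟨s, T.sU⟩

/-- the vector `b` -/
def b : X T.el := T.el.cl ⟨t, T.tU⟩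

theorem a_ne : T.a ≠ 0 := by
  unfold a
  rw [Ne, T.el.cl_zero]
  rintro (h | h)
  · exact T.s1 h
  · exact T.sn h

theorem b_ne : T.b ≠ 0 := by
  unfold b
  rw [Ne, T.el.cl_zero]
  rintro (h | h)
  · exact T.t1 h
  · exact T.tn h

theorem ab_ne : T.a ≠ T.b := by
  unfold a b
  rw [Ne, T.el.cl_eq]
  rintro (h | h)
  · exact T.ts h
  · exact T.tsn h

theorem ρ_eq {g : N} {u v : U} :
    T.ac.ρ g (T.el.cl u) = T.el.cl v ↔
      ((g : G) * (u : G) * (g : G)⁻¹ = v ∨ (g : G) * (u : G) * (g : G)⁻¹ = v * n) := by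
  rw [T.ρ_cl, eq_comm, T.el.cl_eq]

/-- the functionals of `A` -/
def Lam (τ : Fn (X T.el)) : Prop := ∃ g : N, (g : G) ∈ A ∧ ∀ y, T.ac.ρ g y = y + τ y • T.a

theorem A_ρ {g : N} (hg : (g : G) ∈ A) (y : X T.el) : T.ac.ρ g y = y ∨ T.ac.ρ g y = y + T.a := by
  obtain ⟨u, rfl⟩ := T.el.cl_surj y
  unfold a
  rw [← T.el.cl_mul, T.ρ_eq, T.ρ_eq]
  rcases T.A_val g hg u u.2 with h | h | h | h
  · exact Or.inl (Or.inl h)
  · exact Or.inl (Or.inr h)
  · exact Or.inr (Or.inl h)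
  · exact Or.inr (Or.inr h)

theorem ρ_a_of {g : N} (h : (g : G) * s * (g : G)⁻¹ = s ∨ (g : G) * s * (g : G)⁻¹ = s * n) :
    T.ac.ρ g T.a = T.a := T.ρ_eq.2 h

theorem ρ_a_of_comm {g : N} (h : (g : G) * s = s * g) : T.ac.ρ g T.a = T.a := by
  unfold a
  rw [T.ρ_eq]
  left
  change (g : G) * s * (g : G)⁻¹ = s
  rw [h]; group

theorem ρ_b_of_comm {g : N} (h : (g : G) * t = t * g) : T.ac.ρ g T.b = T.b := by
  unfold b
  rw [T.ρ_eq]
  left
  change (g : G) * t * (g : G)⁻¹ = t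
  rw [h]; group

omit T in
theorem smul_zero_of {V : Type*} [AddCommGroup V] [Module (ZMod 2) V] {c : ZMod 2} {a : V}
    (ha : a ≠ 0) (h : c • a = 0) : c = 0 := by
  rcases z2 c with h1 | h1
  · exact h1
  · rw [h1, one_smul] at h; exact absurd h ha

theorem dat [Finite G] : Dat T.ac T.a T.b T.Lam where
  span f hf := by
    -- the preimage of the kernel
    let F : U →* Multiplicative (ZMod 2) :=
      { toFun := fun u => Multiplicative.ofAdd (f (T.el.cl u))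
        map_one' := by rw [T.el.cl_one, map_zero]; rfl
        map_mul' := fun u v => by rw [T.el.cl_mul, map_add]; rfl }
    have hF : ∀ u : U, u ∈ F.ker ↔ f (T.el.cl u) = 0 := fun u => Iff.rfl
    have h1 : closure ({n} ∪ {x | ∃ g ∈ N, x = g * s * g⁻¹}) ≤ F.ker.map U.subtype := by
      rw [closure_le]
      rintro x (hx | ⟨g, hg, rfl⟩)
      · rw [Set.mem_singleton_iff] at hx
        subst hx
        refine ⟨⟨x, T.nU⟩, ?_, rfl⟩
        rw [SetLike.mem_coe, hF]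
        have : T.el.cl ⟨x, T.nU⟩ = 0 := by rw [T.el.cl_zero]; exact Or.inr rfl
        rw [this, map_zero]
      · refine ⟨⟨g * s * g⁻¹, T.norm g hg s T.sU⟩, ?_, rfl⟩
        rw [SetLike.mem_coe, hF]
        exact hf _ ⟨⟨g, hg⟩, rfl⟩
    ext x
    obtain ⟨u, rfl⟩ := T.el.cl_surj x
    obtain ⟨v, hv, hvu⟩ := h1 (T.gen u.2)
    have : v = u := Subtype.ext hvu
    rw [this] at hv
    exact hv
  swap₁ := by
    obtain ⟨g, hg, h1, h2⟩ := T.swap₁
    exact ⟨⟨g, hg⟩, T.ρ_eq.2 h1, T.ρ_eq.2 h2⟩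
  swap₂ := by
    obtain ⟨g, hg, h1, h2⟩ := T.swap₂
    refine ⟨⟨g, hg⟩, ?_, T.ρ_eq.2 h2⟩
    unfold a b
    rw [← T.el.cl_mul]
    exact T.ρ_eq.2 h1
  in_ τ hτ := by
    obtain ⟨g, hg, h⟩ := hτ
    refine ⟨?_, g, h⟩
    have h1 := h T.a
    rw [T.ρ_a_of (T.A_s g hg)] at h1
    exact smul_zero_of T.a_ne (left_eq_add.1 h1)
  kb τ hτ := by
    obtain ⟨g, hg, h⟩ := hτ
    have h1 := h T.b
    rw [T.ρ_b_of_comm (T.A_t g hg)] at h1
    exact smul_zero_of T.a_ne (left_eq_add.1 h1)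
  ne := by
    obtain ⟨g, hg, u, hu, h1, h2⟩ := T.A_ne
    obtain ⟨τ, hτ⟩ := exists_fn T.a_ne (T.ac.ρ ⟨g, T.A_le hg⟩) (T.A_ρ hg)
    refine ⟨τ, ⟨⟨g, T.A_le hg⟩, hg, hτ⟩, ?_⟩
    rintro rfl
    have h3 := hτ (T.el.cl ⟨u, hu⟩)
    rw [LinearMap.zero_apply, zero_smul, add_zero, T.ρ_eq] at h3
    rcases h3 with h3 | h3
    · exact h1 h3
    · exact h2 h3
  stab τ hτ g hga := by
    obtain ⟨k, hk, h⟩ := hτ
    have h1 : T.ac.ρ g⁻¹ T.a = T.a := by
      conv_lhs => rw [← hga]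
      rw [T.ac.inv_l]
    have h2 : (g⁻¹ * k * g⁻¹⁻¹ : G) ∈ A := by
      refine T.stab _ (inv_mem g.2) ?_ k hk
      exact T.ρ_eq.1 h1
    refine ⟨g⁻¹ * k * g, ?_, fun y => ?_⟩
    · rw [inv_inv] at h2
      exact h2
    · rw [T.ac.mul, T.ac.mul, h, map_add, map_smul, T.ac.inv_l, h1]
      rfl
  add τ τ' hτ hτ' := by
    obtain ⟨g, hg, h⟩ := hτ
    obtain ⟨g', hg', h'⟩ := hτ'
    refine ⟨g * g', mul_mem hg hg', fun y => ?_⟩
    rw [T.ac.mul, h', map_add, map_smul, T.ρ_a_of (T.A_s g hg), h, LinearMap.add_apply,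
      add_smul]
    abel

/-! ### The maps `z^w` -/

/-- `z^w` as an element of `N` -/
def gz (z : U) : N := ⟨w * z * w⁻¹, T.wN z z.2⟩

theorem gz_mul (z z' : U) : T.gz (z * z') = T.gz z * T.gz z' :=
  Subtype.ext (by simp [gz, mul_assoc])

theorem gz_a (z : U) : T.ac.ρ (T.gz z) T.a = T.a := T.ρ_a_of_comm (T.w_s z z.2)

theorem gz_b (z : U) : T.ac.ρ (T.gz z) T.b = T.b := T.ρ_b_of_comm (T.w_t z z.2)

theorem gz_val (z : U) (y : X T.el) : T.ac.ρ (T.gz z) y = y ∨ T.ac.ρ (T.gz z) y = y + T.a ∨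
    T.ac.ρ (T.gz z) y = y + T.b ∨ T.ac.ρ (T.gz z) y = y + T.a + T.b := by
  obtain ⟨u, rfl⟩ := T.el.cl_surj y
  unfold a b
  rw [← T.el.cl_mul, ← T.el.cl_mul, ← T.el.cl_mul, T.ρ_eq, T.ρ_eq, T.ρ_eq, T.ρ_eq]
  rcases T.w_val z z.2 u u.2 with h | h | h | h
  · exact Or.inl (Or.inl h)
  · exact Or.inr (Or.inl (Or.inl h))
  · exact Or.inr (Or.inr (Or.inl (Or.inl h)))
  · exact Or.inr (Or.inr (Or.inr (Or.inl h)))

theorem gz_congr {z z' : U} (h : T.el.cl z = T.el.cl z') (y : X T.el) :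
    T.ac.ρ (T.gz z) y = T.ac.ρ (T.gz z') y := by
  rw [T.el.cl_eq] at h
  rcases h with h | h
  · rw [Subtype.ext h]
  · obtain ⟨u, rfl⟩ := T.el.cl_surj y
    have h1 : z' = z * ⟨n, T.nU⟩ := Subtype.ext h
    rw [h1, T.gz_mul, T.ac.mul]
    have h2 : T.ac.ρ (T.gz ⟨n, T.nU⟩) (T.el.cl u) = T.el.cl u := by
      rw [T.ρ_eq]
      left
      change w * n * w⁻¹ * u * (w * n * w⁻¹)⁻¹ = u
      rw [T.w_n u u.2, mul_inv_cancel_right]
    rw [h2]

theorem gz_alt (z : U) : T.ac.ρ (T.gz z) (T.el.cl z) = T.el.cl z := by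
  rw [T.ρ_eq]
  left
  change w * z * w⁻¹ * z * (w * z * w⁻¹)⁻¹ = z
  rw [T.w_alt z z.2, mul_inv_cancel_right]

/-- **`[U, U^w] = 1`** -/
theorem main [Finite G] {y z : G} (hy : y ∈ U) (hz : z ∈ U) :
    (w * z * w⁻¹) * y = y * (w * z * w⁻¹) := by
  obtain ⟨α, hαa, hαb⟩ := exists_dual T.a_ne T.ab_ne
  obtain ⟨β, hβb, hβa⟩ := exists_dual T.b_ne T.ab_ne.symm
  let D : U → X T.el →ₗ[ZMod 2] X T.el := fun z => T.ac.ρ (T.gz z) - LinearMap.id
  have hD : ∀ z y, D z y = T.ac.ρ (T.gz z) y - y := fun _ _ => rfl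
  let P : U → Fn (X T.el) := fun z => β ∘ₗ D z
  let Q : U → Fn (X T.el) := fun z => α ∘ₗ D z
  have hP : ∀ z y, P z y = β (D z y) := fun _ _ => rfl
  have hQ : ∀ z y, Q z y = α (D z y) := fun _ _ => rfl
  have hval : ∀ z y, D z y = P z y • T.b + Q z y • T.a := by
    intro z y
    rw [hP, hQ, hD]
    rcases T.gz_val z y with h | h | h | h
    · rw [h, sub_self, map_zero, map_zero, zero_smul, zero_smul, add_zero]
    · rw [h, add_sub_cancel_left, hαa, hβa, zero_smul, one_smul, zero_add]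
    · rw [h, add_sub_cancel_left, hαb, hβb, zero_smul, one_smul, add_zero]
    · rw [h, add_assoc, add_sub_cancel_left, map_add, map_add, hαa, hβa, hαb, hβb, zero_add,
        add_zero, one_smul, one_smul, add_comm]
  have hρ : ∀ z y, T.ac.ρ (T.gz z) y = y + P z y • T.b + Q z y • T.a := by
    intro z y
    rw [add_assoc, ← hval, hD, add_sub_cancel]
  have hDadd : ∀ z z' y, D (z * z') y = D z y + D z' y := by
    intro z z' y
    rw [hD, T.gz_mul, T.ac.mul, hρ z' y, map_add, map_add, map_smul, map_smul, T.gz_a, T.gz_b,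
      hval z' y, hD]
    abel
  have hDc : ∀ {z z' : U}, T.el.cl z = T.el.cl z' → ∀ y, D z y = D z' y := by
    intro z z' h y
    rw [hD, hD, T.gz_congr h]
  choose rep hrep using T.el.cl_surj
  have hDrep : ∀ z z' y, D (rep (z + z')) y = D (rep z) y + D (rep z') y := by
    intro z z' y
    rw [← hDadd]
    refine hDc ?_ y
    rw [T.el.cl_mul, hrep, hrep, hrep]
  have halt : ∀ z, D (rep z) z = 0 := by
    intro z
    have h1 := T.gz_alt (rep z)
    rw [hrep] at h1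
    rw [hD, h1, sub_self]
  have hk := T.dat.kill (p := fun z => P (rep z)) (q := fun z => Q (rep z))
    (fun z z' y => by rw [hP, hP, hP, hDrep, map_add])
    (fun z z' y => by rw [hQ, hQ, hQ, hDrep, map_add])
    (fun z => by rw [hP, halt, map_zero]) (fun z => by rw [hQ, halt, map_zero])
    (fun z => ⟨T.gz (rep z), fun y => hρ (rep z) y⟩)
  have h1 : T.ac.ρ (T.gz ⟨z, hz⟩) (T.el.cl ⟨y, hy⟩) = T.el.cl ⟨y, hy⟩ := by
    rw [T.gz_congr (z' := rep (T.el.cl ⟨z, hz⟩)) (hrep _).symm, hρ]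
    obtain ⟨h2, h3⟩ := hk (T.el.cl ⟨z, hz⟩) (T.el.cl ⟨y, hy⟩)
    rw [h2, h3, zero_smul, zero_smul, add_zero, add_zero]
  rw [T.ρ_eq] at h1
  change w * z * w⁻¹ * y * (w * z * w⁻¹)⁻¹ = y ∨ w * z * w⁻¹ * y * (w * z * w⁻¹)⁻¹ = y * n at h1
  have h4 := T.w_val z hz y hy
  have hss := T.sq s T.sU
  rcases h4 with h4 | h4 | h4 | h4
  · exact mul_inv_eq_iff_eq_mul.1 h4
  · exfalso
    rw [h4] at h1
    rcases h1 with h1 | h1
    · exact T.s1 (mul_eq_left.1 h1)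
    · exact T.sn (mul_left_cancel h1)
  · exfalso
    rw [h4] at h1
    rcases h1 with h1 | h1
    · exact T.t1 (mul_eq_left.1 h1)
    · exact T.tn (mul_left_cancel h1)
  · exfalso
    rw [h4, mul_assoc] at h1
    rcases h1 with h1 | h1
    · have h5 := mul_eq_left.1 h1
      apply T.ts
      calc t = s * (s * t) := by rw [← mul_assoc, hss, one_mul]
        _ = s := by rw [h5, mul_one]
    · have h5 := mul_left_cancel h1
      apply T.tsn
      calc t = s * (s * t) := by rw [← mul_assoc, hss, one_mul]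
        _ = s * n := by rw [h5]

end Trd

/-! ### The form with `Di.TH` -/

open Cfsg.Agent.Omega.TTn.Di (TH cj cm cj_eq_cm)

theorem trd_of {U A : Subgroup G} {n a b w : G} (H : TH U A n a b w) :
    Trd (centralizer {n}) U A n a b w := by
  have hcen : ∀ g : G, g ∈ centralizer ({n} : Set G) ↔ g * n = n * g := by
    intro g
    rw [mem_centralizer_singleton_iff]
  have hcj : ∀ g x : G, g * x * g⁻¹ = cj g x := fun _ _ => rfl
  have hval : ∀ g x : G, g * x * g⁻¹ = cm g x * x := fun g x => by rw [hcj, cj_eq_cm]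
  have haa := H.sq a H.a_mem
  have hbb := H.sq b H.b_mem
  have hnn := H.sq n H.n_mem
  have hna := H.comm n H.n_mem a H.a_mem
  have hab := H.comm a H.a_mem b H.b_mem
  have hnb := H.comm n H.n_mem b H.b_mem
  refine
    { comm := H.comm
      sq := H.sq
      norm := fun g hg u hu => H.norm g ((hcen g).1 hg) u hu
      cen := fun g hg => (hcen g).1 hg
      nU := H.n_mem
      sU := H.a_mem
      tU := H.b_mem
      s1 := H.a1
      sn := H.an
      t1 := H.b1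
      tn := H.bn
      ts := H.ab.symm
      tsn := ?_
      n1 := H.n1
      gen := ?_
      A_le := fun x hx => (hcen x).2 (H.An x hx)
      A_val := ?_
      A_s := ?_
      A_t := H.Ab
      A_ne := ?_
      stab := ?_
      swap₁ := ?_
      swap₂ := ?_
      wN := fun z hz => (hcen _).2 (H.wn z hz)
      w_s := H.wa
      w_t := H.wb
      w_val := ?_
      w_alt := fun z hz => (H.ww z hz).symm
      w_n := fun y hy => (H.w0 y hy).symm }
  · intro h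
    apply H.nab
    rw [h, ← mul_assoc, haa, one_mul]
  · refine H.gen.trans ((closure_le _).2 ?_)
    rintro x (rfl | ⟨g, hg, rfl⟩)
    · exact subset_closure (Or.inl rfl)
    · exact subset_closure (Or.inr ⟨g, (hcen g).2 hg, rfl⟩)
  · intro g hg u hu
    rw [hval]
    rcases H.AU g hg u hu with h | h | h | h <;> rw [h]
    · left; rw [one_mul]
    · right; left; exact H.comm n H.n_mem u hu
    · right; right; left; exact H.comm a H.a_mem u hu
    · right; right; right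
      rw [mul_assoc, H.comm a H.a_mem u hu]
      exact H.comm n H.n_mem _ (mul_mem hu H.a_mem)
  · intro g hg
    rw [hval]
    rcases H.AU g hg a H.a_mem with h | h | h | h
    · rw [h]; left; rw [one_mul]
    · rw [h]; right; exact hna
    · exfalso
      have h1 : cj g a = 1 := by rw [cj_eq_cm, h, haa]
      unfold cj at h1
      rw [mul_inv_eq_one] at h1
      exact H.a1 (mul_eq_left.1 h1)
    · exfalso
      have h1 : cj g a = n := by rw [cj_eq_cm, h, mul_assoc, haa, mul_one]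
      unfold cj at h1
      rw [mul_inv_eq_iff_eq_mul, ← H.An g hg] at h1
      exact H.an (mul_left_cancel h1)
  · obtain ⟨x, hx, u, hu, h1, h2⟩ := H.ne
    refine ⟨x, hx, u, hu, ?_, ?_⟩
    · rw [hval]
      intro h
      exact h1 (mul_eq_right.1 h)
    · rw [hval, ← H.comm n H.n_mem u hu]
      intro h
      exact h2 (mul_right_cancel h)
  · intro g hg h x hx
    refine H.Aa g ((hcen g).1 hg) ?_ x hx
    rcases h with h | h
    · exact Or.inl h
    · right; rw [hna]; exact h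
  · obtain ⟨g, hg, h1, h2⟩ := H.sw1
    exact ⟨g, (hcen g).2 hg, Or.inl h1, Or.inl h2⟩
  · obtain ⟨g, hg, h1, h2⟩ := H.sw2
    refine ⟨g, (hcen g).2 hg, Or.inr ?_, Or.inl h2⟩
    rw [hcj, h1]
    exact H.comm n H.n_mem _ (mul_mem H.a_mem H.b_mem)
  · intro z hz y hy
    have h := H.wU z hz y hy
    change cj (cj w z) y = y ∨ cj (cj w z) y = y * a ∨ cj (cj w z) y = y * b ∨
      cj (cj w z) y = y * a * b
    rw [cj_eq_cm]
    rcases h with h | h | h | h <;> rw [h]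
    · left; rw [one_mul]
    · right; left; exact H.comm a H.a_mem y hy
    · right; right; left; exact H.comm b H.b_mem y hy
    · right; right; right
      rw [mul_assoc y]
      exact H.comm _ (mul_mem H.a_mem H.b_mem) y hy

end Cfsg.Agent.Omega.TTn.DiTrans

namespace Cfsg.Agent.Omega.TTn.Di

universe u

/-- **§§4, 5**: `[U, U^w] = 1`. -/
theorem TH.kill {G : Type u} [Group G] [Finite G] {U A : Subgroup G} {n a b w : G}
    (H : TH U A n a b w) : ∀ z ∈ U, ∀ u ∈ U, cj w z * u = u * cj w z :=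
  fun _ hz _ hu => (DiTrans.trd_of H).main hu hz

end Cfsg.Agent.Omega.TTn.Di
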