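/-
Copyright (c) 2026 CFSG team. Released under Apache 2.0 license.
Authors: helper107 (LEMMA TWO, #14387; (B) of #13116)
-/
import Cfsg.Agent.Omega.TTn.Base
import Cfsg.Agent.Omega.TTn.TwoTypes

/-!
# T-T, `n` not 2-central: from two modules to one

`Base.to_one₂ : Base S M₁ M₂ h → ∃ k, Base S M₂ M₂ k` and `Base.to_one₁ : Base S M₁ M₂ h → ∃ k, Base S M₁ M₁ k`
(LEMMA TWO, `TwoTypes.Duo.not_comm`, `Duo.exists_one`).
-/

set_option autoImplicit false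

namespace Cfsg.Agent.Omega.TTn

open Subgroup Cfsg Cfsg.Agent.ZN Cfsg.Agent.ZN.ChoiceBase
open Cfsg.Agent.Omega.S5.Mod Cfsg.Agent.Omega.S5.TT
open Cfsg.Agent.Omega.S5.TT.Pos (mem_C)
open Cfsg.Agent.MinSimple.VModule (o2_isPGroup o2_le)

universe u

variable {G : Type u} [Group G]

namespace Base

variable {S : Sylow 2 G} {V₁ V₂ L₁ L₂ : Subgroup G} {M₁ : FiveMod V₁ L₁} {M₂ : FiveMod V₂ L₂} {h : G}

/-- `O₂(C_G(V₂)) ≤ C_S(n)`. -/
theorem R_le (b : Base S M₁ M₂ h) {r : G} (hr : r ∈ o2 (centralizer (V₂ : Set G))) :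
    r ∈ (S : Subgroup G) ⊓ centralizer ({M₁.e nn} : Set G) := by
  refine mem_inf.2 ⟨?_, ?_⟩
  · have hn : (S : Subgroup G) ≤ normalizer (o2 (centralizer (V₂ : Set G)) : Set G) := by
      intro g hg
      rw [mem_normalizer_iff]
      intro y
      constructor
      · exact fun hy => TwoTypes.conj_R (b.dih₂.S_norm hg) hy
      · intro hy
        have h1 := TwoTypes.conj_R (inv_mem (b.dih₂.S_norm hg)) hy
        have h2 : g⁻¹ * (g * y * g⁻¹) * g⁻¹⁻¹ = y := by group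
        rwa [h2] at h1
    have h1 : IsPGroup 2 ((S : Subgroup G) ⊔ o2 (centralizer (V₂ : Set G)) : Subgroup G) :=
      IsPGroup.to_sup_of_normal_right' S.isPGroup' (o2_isPGroup _) hn
    have h2 := S.is_maximal' h1 le_sup_left
    rw [← h2]
    exact (le_sup_right : o2 (centralizer (V₂ : Set G)) ≤ _) hr
  · rw [mem_C, b.en]
    exact (mem_centralizer_iff.1 (o2_le _ hr) _ (M₂.e_mem _)).symm

theorem duo [Finite G] (b : Base S M₁ M₂ h) : ∃ x, TwoTypes.Duo M₁ M₂ x h := by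
  obtain ⟨x, hxS, hx⟩ := b.dih₁.exists_swap
  refine ⟨x, b.en.symm, b.ea.symm, ?_, ?_, b.V₁_le_Q, b.V₂_le_Q, ?_, Dih.tt_n hx, b.dih₁.S_norm hxS,
    b.dih₂.S_norm hxS, b.hn, ?_, ?_⟩
  · intro q hq
    obtain ⟨p, hp | hp, hi⟩ := b.Q_ind₁ hq
    · left; rwa [hp] at hi
    · right; rwa [hp] at hi
  · intro q hq
    obtain ⟨p, hp | hp, hi⟩ := b.Q_ind₂ hq
    · left; rwa [hp] at hi
    · right; rwa [hp] at hi
  · intro r hr
    exact b.dih₁.T_ind (b.R_le hr)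
  · obtain ⟨w, ⟨v, hv, rfl⟩, hi⟩ := b.ex
    exact ⟨v, hv, hi⟩
  · obtain ⟨w, ⟨v, hv, rfl⟩, hi⟩ := b.symm.ex
    refine ⟨v, hv, ?_⟩
    change M₂.Ind (h⁻¹ * v * h⁻¹⁻¹) _ at hi
    rwa [inv_inv] at hi

/-- LEMMA TWO: the configuration `Base` for the second module alone. -/
theorem to_one₂ [Finite G] (b : Base S M₁ M₂ h) : ∃ k, Base S M₂ M₂ k := by
  obtain ⟨x, t⟩ := b.duo
  obtain ⟨k, hk, h1, h2, h3, -⟩ := t.exists_one
  refine ⟨k, b.two, b.dih₂, b.dih₂, rfl, rfl, hk, ?_, ?_, h2, ?_⟩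
  · intro v hv
    rcases h1 v hv with h4 | h4
    · exact ⟨_, Or.inl rfl, h4⟩
    · exact ⟨_, Or.inr rfl, h4⟩
  · intro v hv
    rcases h3 v hv with h4 | h4
    · exact ⟨_, Or.inl rfl, h4⟩
    · exact ⟨_, Or.inr rfl, h4⟩
  · rw [← b.en]; exact b.nc

/-- LEMMA TWO: the configuration `Base` for the first module alone. -/
theorem to_one₁ [Finite G] (b : Base S M₁ M₂ h) : ∃ k, Base S M₁ M₁ k := b.symm.to_one₂

end Base

end Cfsg.Agent.Omega.TTn
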