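import Cfsg.Agent.Omega.TTn.Norm
import Cfsg.Agent.Omega.TTn.ToOne

/-!
# T-T, `n` not 2-central: the assembly of `S5.Main.TTNon`

Inputs (for ONE module, `Base S M M h`):

* `DiProp` : `U_n ≤ O₂(C_G(a))` (helper439, #14261);
* `BetaProp` : `V ≤ O₂(C_G(s))` and `U_n ≤ O₂(C_G(a))` is impossible (helper429, #13318, #13720).
-/

set_option autoImplicit false

namespace Cfsg.Agent.Omega.TTn

open Subgroup Cfsg Cfsg.Agent.ZN Cfsg.Agent.ZN.ChoiceBase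
open Cfsg.Agent.Omega.S5.Mod Cfsg.Agent.Omega.S5.TT

universe u

/-- **D(i) is impossible**: `U_n ≤ O₂(C_G(a))`. -/
def DiProp : Prop :=
  ∀ (G : Type u) [Group G] [Finite G] (S : Sylow 2 G) (V L : Subgroup G) (M : FiveMod V L) (h : G),
    Base S M M h → UU (M.e nn) (M.e aa) ≤ Q (M.e aa)

/-- **Case beta is impossible**, given `U_n ≤ O₂(C_G(a))`. -/
def BetaProp : Prop :=
  ∀ (G : Type u) [Group G] [Finite G] (S : Sylow 2 G) (V L : Subgroup G) (M : FiveMod V L) (h : G),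
    Base S M M h → V ≤ Q (M.e ss) → UU (M.e nn) (M.e aa) ≤ Q (M.e aa) → False

theorem ttNon (h1 : DiProp.{u}) (h2 : BetaProp.{u}) : Cfsg.Agent.Omega.S5.Main.TTNon.{u} := by
  intro G _ _ hG S _ hI P₁ P₂ y ε ε₂ hl t1 t2 hC
  obtain ⟨g, k, M₁, M₂, -, b⟩ := exists_base hG.char2 hl t1 t2 hC
  obtain ⟨k', b'⟩ := b.to_one₁
  exact h2 G S _ _ M₁ k' b' (b.dih₁.le_Qs (hI P₁ hl.pair.star₁)) (h1 G S _ _ M₁ k' b')

end Cfsg.Agent.Omega.TTn
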