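/-
Copyright (c) 2026 CFSG team. Released under Apache 2.0 license.
Authors: helper107 (#14261 of helper439: the assembly)
-/
import Cfsg.Agent.Omega.TTn.DiStd
import Cfsg.Agent.Omega.TTn.DiCoreStd
import Cfsg.Agent.Omega.TTn.DiEnd
import Cfsg.Agent.Omega.TTn.DiTrans
import Cfsg.Agent.Omega.TTn.Main

/-!
# #14261: `[U_n, U_a] = 1` and `U_n ≤ O₂(C_G(a))` (`DiProp`)
-/

set_option autoImplicit false

namespace Cfsg.Agent.Omega.TTn.Di

open Subgroup Cfsg Cfsg.Agent.ZN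
open Cfsg.Agent.Omega.S5.Mod Cfsg.Agent.Omega.S5.TT
open Cfsg.Agent.Omega.S5.TT.Pos (sn ns mem_C)

universe u

variable {G : Type u} [Group G] {S : Sylow 2 G} {V L : Subgroup G} {M : FiveMod V L} {h : G}

/-- `U i j` is generated by `s i s j` and the `C_G(s i s j)`-conjugates of `s m`. -/
theorem UP_gen [Finite G] (b : Base S M M h) {i j k l m : Fin 5} (h5 : D5 i j k l m) :
    UP M i j ≤ closure {x | x = sv M i * sv M j ∨
      ∃ g, g * (sv M i * sv M j) = sv M i * sv M j * g ∧ x = cj g (sv M m)} := by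
  obtain ⟨p, rfl, rfl, rfl, rfl, rfl⟩ := exists_perm5 h5
  obtain ⟨l, -, hl⟩ := M.exists_lift p
  have hl : M.Ind l p := hl
  set H := closure {x | x = sv M (p 0) * sv M (p 1) ∨
    ∃ g, g * (sv M (p 0) * sv M (p 1)) = sv M (p 0) * sv M (p 1) * g ∧ x = cj g (sv M (p 4))} with hH
  have key : UU (M.e nn) (M.e aa) ≤ ZN.ChoiceBase.cj l⁻¹ H := by
    have hnH : sv M (p 0) * sv M (p 1) ∈ H := subset_closure (Or.inl rfl)
    refine UU_le ?_ fun g hg => ?_
    · rw [ZN.ChoiceBase.mem_cj, inv_inv, ← sv01, svsv_conj hl]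
      exact hnH
    · rw [ZN.ChoiceBase.mem_cj, inv_inv]
      have hg' : g * (sv M 0 * sv M 1) = sv M 0 * sv M 1 * g := by rw [sv01]; exact hg
      have h1 : l * (g * M.e aa * g⁻¹) * l⁻¹ =
          sv M (p 0) * sv M (p 1) * cj (l * g * l⁻¹) (sv M (p 4)) := by
        rw [← ns M, ← sv4, ← svsv_conj hl, ← sv_conj hl, ← sv01]
        unfold cj
        calc l * (g * (sv M 0 * sv M 1 * sv M 4) * g⁻¹) * l⁻¹ =
            l * ((g * (sv M 0 * sv M 1)) * sv M 4 * g⁻¹) * l⁻¹ := by group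
          _ = l * ((sv M 0 * sv M 1 * g) * sv M 4 * g⁻¹) * l⁻¹ := by rw [hg']
          _ = _ := by group
      rw [h1]
      refine H.mul_mem hnH (subset_closure (Or.inr ⟨_, ?_, rfl⟩))
      rw [← svsv_conj hl]
      calc l * g * l⁻¹ * (l * (sv M 0 * sv M 1) * l⁻¹) = l * (g * (sv M 0 * sv M 1)) * l⁻¹ := by group
        _ = l * (sv M 0 * sv M 1 * g) * l⁻¹ := by rw [hg']
        _ = _ := by group
  intro u hu
  have h1 := key (UP_zero b hl hu)
  rw [ZN.ChoiceBase.mem_cj, inv_inv] at h1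
  have h2 : l * (l⁻¹ * u * l) * l⁻¹ = u := by group
  rwa [h2] at h1

theorem cj_ne (b : Base S M M h) {i j k l m : Fin 5} (h5 : D5 i j k l m) (g : G) :
    cj g (sv M m) ≠ sv M k * sv M l := by
  obtain ⟨p, rfl, rfl, rfl, rfl, rfl⟩ := exists_perm5 h5
  obtain ⟨l, -, hl⟩ := M.exists_lift p
  have hl : M.Ind l p := hl
  rw [← svsv_conj hl, ← sv_conj hl, sv4, sv23]
  intro h0
  refine b.conj_a_ne_s (l⁻¹ * g⁻¹ * l) ?_
  unfold cj at h0
  calc l⁻¹ * g⁻¹ * l * M.e aa * (l⁻¹ * g⁻¹ * l)⁻¹ = l⁻¹ * g⁻¹ * (l * M.e aa * l⁻¹) * g * l := by group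
    _ = l⁻¹ * g⁻¹ * (g * (l * M.e ss * l⁻¹) * g⁻¹) * g * l := by rw [h0]
    _ = M.e ss := by group

/-- The frame `FrN` from `Base`. -/
theorem frN_of [Finite G] (b : Base S M M h) :
    ∃ w, FrN (sv M) (UP M) (WP M) (QP M) w (centralizer (V : Set G)) := by
  obtain ⟨w, hw, F⟩ := fr_of_ind b (cwStd b) (coreStd b) (faithStd b)
  refine ⟨w, { F with
    NU := fun _ g hg u hu => UP_norm hg hu
    gen := fun h5 => UP_gen b h5
    nc := fun h5 g => cj_ne b h5 g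
    wcj := ?_
    wcj' := ?_ }⟩
  · intro i j hij
    have h1 := sv_conj (hw i j hij) i
    rwa [Equiv.swap_apply_left] at h1
  · intro i j k hij hki hkj
    have h1 := sv_conj (hw i j hij) k
    rwa [Equiv.swap_apply_of_ne_of_ne hki hkj] at h1

/-- `[U_n, U_a] = 1` -/
theorem UU_comm_UUa [Finite G] (b : Base S M M h) {y z : G} (hy : y ∈ UU (M.e nn) (M.e aa))
    (hz : z ∈ UU (M.e aa) (M.e nn)) : y * z = z * y := by
  obtain ⟨w, F⟩ := frN_of b
  have h5 : D5 (0 : Fin 5) 1 2 3 4 := by constructor <;> decide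
  refine F.comm_of (fun H => H.kill) h5 y ?_ z ?_
  · rw [UP_zero_one b]; exact hy
  · exact UP_two_three_le b hz

end Cfsg.Agent.Omega.TTn.Di

namespace Cfsg.Agent.Omega.TTn

open Subgroup Cfsg Cfsg.Agent.ZN
open Cfsg.Agent.Omega.S5.Mod Cfsg.Agent.Omega.S5.TT

universe u

/-- **#14261 (helper439)**: `U_n ≤ O₂(C_G(a))`. -/
theorem diProp : DiProp.{u} := by
  intro G _ _ S V L M h b
  obtain ⟨h', b'⟩ := b.exists_flip
  have h1 := b'.WWa_inf_centralizer_le
  rw [Base.rel_nn, Base.rel_aa] at h1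
  refine le_trans ?_ h1
  refine le_inf b.UU_le_WW fun y hy => mem_centralizer_iff.2 fun z hz => ?_
  exact (Di.UU_comm_UUa b hy hz).symm

end Cfsg.Agent.Omega.TTn
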