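/-
Copyright (c) 2026 CFSG team. Released under Apache 2.0 license.
Authors: helper107 (plug of helper602's BZero and helper849's BOne)
-/
import Cfsg.Agent.Omega.TTn.BZero
import Cfsg.Agent.Omega.TTn.BOne
import Cfsg.Agent.Omega.TTn.DiLast

/-!
# `BetaProp` and `S5.Main.TTNon`
-/

set_option autoImplicit false
set_option linter.unusedSectionVars false

namespace Cfsg.Agent.Omega.TTn.Beta

open Subgroup Cfsg Cfsg.Agent.ZN Cfsg.Agent.ZN.ChoiceBase
open Cfsg.Agent.Omega.S5.Mod Cfsg.Agent.Omega.S5.TT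
open Cfsg.Agent.Omega.S5.TT.Pos (na ns as sn n_ne s_ne a_ne n_ne_a mem_C)
open Cfsg.Agent.Omega.S5.ChiConst (cls)
open Cfsg.Agent.Omega.TTn.BOne

universe u

variable {G : Type u} [Group G] [Finite G] {S : Sylow 2 G} {V₁ V₂ L₁ L₂ : Subgroup G} {M₁ : FiveMod V₁ L₁}
  {M₂ : FiveMod V₂ L₂} {h : G} (b : Base S M₁ M₂ h)
include b

theorem bb_cls : M₁.e bb ∈ cls (centralizer ({M₁.e nn} : Set G)) (M₁.e aa) := by
  obtain ⟨g, hg, -, h1⟩ := bb_mem b
  exact ⟨g, hg, h1⟩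

theorem adj_bb : BZero.Adj (Fam (M₁.e nn) (WW V₁ V₂ (M₁.e nn))) (M₁.e aa) (M₁.e bb) := by
  obtain ⟨w, hw, hi⟩ := b.exists_move_a₁
  refine ⟨w, (mem_F_a' b).2 hw, ?_⟩
  rw [Ne, hi.commute_iff]
  decide

/-- **Case beta is impossible.** -/
theorem false_of (hV : V₁ ≤ Q (M₁.e ss)) (hU : UU (M₁.e nn) (M₁.e aa) ≤ Q (M₁.e aa)) : False := by
  have hC := calcN b hU
  have h1 : (1 : G) ∉ cls (centralizer ({M₁.e nn} : Set G)) (M₁.e aa) := by
    rintro ⟨g, -, h0⟩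
    refine a_ne M₁ ?_
    have h1 : g⁻¹ * 1 * g = M₁.e aa := by rw [h0]; group
    rw [← h1]; group
  have h2 : M₁.e nn ∉ cls (centralizer ({M₁.e nn} : Set G)) (M₁.e aa) := by
    rintro ⟨g, hg, h0⟩
    exact Base.conj_a_ne_n (mem_C.1 hg) h0.symm
  have h3 : M₁.e nn * M₁.e aa ∉ cls (centralizer ({M₁.e nn} : Set G)) (M₁.e aa) := by
    rintro ⟨g, hg, h0⟩
    rw [na] at h0
    exact b.conj_a_ne_s g h0.symm
  have hCon := BZero.conn hC (n := M₁.e nn) (fun g hg => mem_C.1 hg) (bb_cls b) (adj_bb b) h1 h2 h3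
    (T := (S : Subgroup G) ⊓ centralizer ({M₁.e nn} : Set G)) (S.isPGroup'.to_le inf_le_left) inf_le_right
    (fun t ht => b.dih₁.T_comm_a ht) (fun u hu hT => by rw [na]; exact b.mem_E4 hu hT)
  have hK := BZero.comm_all hC hCon (bb_cls b) (adj_bb b)
    (K := WW V₁ V₁ (M₁.e ss)) (fun y hy hya k hk => WW_norm (comm_s_of b (mem_C.1 hy) hya) hk)
    (fun k hk => E_comm b.dih₁ hV hk (le_WW₁ V₁ V₁ _ (M₁.e_mem _)))
    (fun k hk => E_comm b.dih₁ hV hk (le_WW₁ V₁ V₁ _ (M₁.e_mem _)))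
  have hE := E_le_Qn b hV hK
  exact false_of' b hV hE hU fun d hd had => BZero.conj_b hC (bb_cls b) (adj_bb b) hd had

end Cfsg.Agent.Omega.TTn.Beta

namespace Cfsg.Agent.Omega.TTn

universe u

theorem betaProp : BetaProp.{u} := by
  intro G _ _ S V L M h b hV hU
  exact Beta.false_of b hV hU

/-- **T-T, `n` not 2-central.** -/
theorem ttNon_main : Cfsg.Agent.Omega.S5.Main.TTNon.{u} := ttNon diProp betaProp

end Cfsg.Agent.Omega.TTn
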