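/-
Copyright (c) 2026 CFSG team. Released under Apache 2.0 license.
Authors: helper814 (T-T, case A8: `V` is not contained in `O_2(C_G(s))`; the argument is Lemma 1 of #12557
(helper492) without any counting).
-/
import Mathlib

/-!
# Three transvection groups on an elementary abelian group

`D` is an abelian subgroup, `n, m, a ∈ D` are involutions, and `Wn`, `Wm`, `Wa` are subgroups acting on `D` as groups
of transvections with centres `n`, `m`, `a`; `C(m)` normalises `Wm`, `C(a)` normalises `Wa`; `Wm` moves `n` and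
centralises `n * a`; `Wa` moves `m`.  Then every element of `Wn` which centralises `m` acts on `D` with the same
hyperplane as an element of `Wa` (`exists_same`), hence centralises `C_D(Wa)` (`comm_of_comm`), and so
`|C_D(Wa) : C_D(Wa) ∩ C(Wn)| ≤ 2` (`small`).
-/

set_option autoImplicit false

namespace Cfsg.Agent.Omega.TTn.AEight

variable {G : Type*} [Group G]

/-- `w` acts on `D` as a transvection with centre `c` (or trivially). -/
def Tv (D : Subgroup G) (c w : G) : Prop := ∀ d ∈ D, w * d * w⁻¹ = d ∨ w * d * w⁻¹ = d * c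

/-- `w` acts on `D` with centre `c` and `w'` with centre `c'`, with the same hyperplane. -/
def Same (D : Subgroup G) (c w c' w' : G) : Prop :=
  ∀ d ∈ D, (w * d * w⁻¹ = d ∧ w' * d * w'⁻¹ = d) ∨ (w * d * w⁻¹ = d * c ∧ w' * d * w'⁻¹ = d * c')

theorem Same.trans {D : Subgroup G} {c w c' w' c'' w'' : G} (hc' : c' ≠ 1)
    (h : Same D c w c' w') (h' : Same D c' w' c'' w'') : Same D c w c'' w'' := by
  intro d hd
  rcases h d hd with ⟨h1, h2⟩ | ⟨h1, h2⟩ <;> rcases h' d hd with ⟨h3, h4⟩ | ⟨h3, h4⟩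
  · exact Or.inl ⟨h1, h4⟩
  · exact absurd (by simpa using h2.symm.trans h3) hc'
  · exact absurd (by simpa using h3.symm.trans h2) hc'
  · exact Or.inr ⟨h1, h4⟩

/-- The commutator trick: if `w` (centre `n`) centralises `m` and `w'` (centre `m`) moves `n`, then
`w * w' * w⁻¹ * w'⁻¹` acts with centre `m` and the hyperplane of `w`. -/
theorem same_comm {D : Subgroup G} (hD : ∀ x ∈ D, ∀ y ∈ D, x * y = y * x) {n m w w' : G}
    (hn : n ∈ D) (hm : m ∈ D) (hnn : n * n = 1) (hmm : m * m = 1) (hn1 : n ≠ 1) (hm1 : m ≠ 1)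
    (hw : Tv D n w) (hw' : Tv D m w') (hwm : w * m = m * w) (hw'n : w' * n ≠ n * w') :
    Same D n w m (w * w' * w⁻¹ * w'⁻¹) := by
  have conj : ∀ {x y : G}, x * y * x⁻¹ = y ↔ x * y = y * x := fun {x y} => mul_inv_eq_iff_eq_mul
  -- the actions
  have w_n : w * n * w⁻¹ = n := by
    rcases hw n hn with h | h
    · exact h
    · rw [hnn] at h
      exact absurd (by
        have := congrArg (fun t => w⁻¹ * t * w) h
        simpa [mul_assoc] using this) hn1
  have w_m : w * m * w⁻¹ = m := conj.2 hwm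
  have w'_m : w' * m * w'⁻¹ = m := by
    rcases hw' m hm with h | h
    · exact h
    · rw [hmm] at h
      exact absurd (by
        have := congrArg (fun t => w'⁻¹ * t * w') h
        simpa [mul_assoc] using this) hm1
  have w'_n : w' * n * w'⁻¹ = n * m := by
    rcases hw' n hn with h | h
    · exact absurd (conj.1 h) hw'n
    · exact h
  -- inverses act in the same way
  have inv_of : ∀ {v c d : G}, c * c = 1 → v * c * v⁻¹ = c → v * d * v⁻¹ = d * c →
      v⁻¹ * d * v = d * c := by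
    intro v c d hcc hvc hvd
    have h1 : v⁻¹ * c * v = c := by
      have h0 : v⁻¹ * (v * c * v⁻¹) * v = c := by group
      rw [hvc] at h0; exact h0
    have h2 : d = v⁻¹ * (d * c) * v := by rw [← hvd]; group
    have h3 : v⁻¹ * (d * c) * v = (v⁻¹ * d * v) * (v⁻¹ * c * v) := by group
    rw [h3, h1] at h2
    calc v⁻¹ * d * v = v⁻¹ * d * v * (c * c) := by rw [hcc, mul_one]
      _ = (v⁻¹ * d * v * c) * c := by group
      _ = d * c := by rw [← h2]
  have inv_triv : ∀ {v d : G}, v * d * v⁻¹ = d → v⁻¹ * d * v = d := by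
    intro v d h
    have h2 : v⁻¹ * (v * d * v⁻¹) * v = d := by group
    rw [h] at h2; exact h2
  have hnm : n * m = m * n := hD n hn m hm
  intro d hd
  have hdn : d * n = n * d := hD d hd n hn
  have hdm : d * m = m * d := hD d hd m hm
  have key : ∀ x : G, (w * w' * w⁻¹ * w'⁻¹) * x * (w * w' * w⁻¹ * w'⁻¹)⁻¹ =
      w * (w' * (w⁻¹ * (w'⁻¹ * x * w') * w) * w'⁻¹) * w⁻¹ := by intro x; group
  have mulc : ∀ (v x y : G), v * (x * y) * v⁻¹ = (v * x * v⁻¹) * (v * y * v⁻¹) := by intro v x y; group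
  have mulc' : ∀ (v x y : G), v⁻¹ * (x * y) * v = (v⁻¹ * x * v) * (v⁻¹ * y * v) := by intro v x y; group
  have w_m' := inv_triv w_m
  have w_n' := inv_triv w_n
  have w'_m' := inv_triv w'_m
  have w'_n' := inv_of hmm w'_m w'_n
  rw [key]
  -- one step of the outer conjugation
  have fin : ∀ {x y : G}, w' * (w⁻¹ * (w'⁻¹ * d * w') * w) * w'⁻¹ = x → w * x * w⁻¹ = y →
      w * (w' * (w⁻¹ * (w'⁻¹ * d * w') * w) * w'⁻¹) * w⁻¹ = y := by
    intro x y h1 h2; rw [h1, h2]
  rcases hw d hd with h1 | h1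
  · refine Or.inl ⟨h1, ?_⟩
    have h1' := inv_triv h1
    rcases hw' d hd with h2 | h2
    · exact fin (x := d) (by rw [inv_triv h2, h1', h2]) h1
    · refine fin (x := d) ?_ h1
      rw [inv_of hmm w'_m h2, mulc', h1', w_m', mulc w', h2, w'_m, mul_assoc d m m, hmm, mul_one]
  · refine Or.inr ⟨h1, ?_⟩
    have h1' := inv_of hnn w_n h1
    rcases hw' d hd with h2 | h2
    · refine fin (x := d * (n * m)) ?_ ?_
      · rw [inv_triv h2, h1', mulc w', h2, w'_n]
      · rw [mulc w, mulc w, h1, w_n, w_m, mul_assoc d n, ← mul_assoc n n m, hnn, one_mul]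
    · refine fin (x := d * n * m) ?_ ?_
      · rw [inv_of hmm w'_m h2, mulc', h1', w_m', mulc w', mulc w', h2, w'_n, w'_m]
        rw [mul_assoc (d * m), mul_assoc n, hmm, mul_one, mul_assoc, ← hnm, ← mul_assoc]
      · rw [mulc w, mulc w, h1, w_n, w_m, mul_assoc d n n, hnn, mul_one]

/-- The configuration `n = {12}`, `a = {34}`, `m = {13}` of the transvection pair T-T. -/
structure Hyp (D Wn Wm Wa : Subgroup G) (n m a : G) : Prop where
  comm : ∀ x ∈ D, ∀ y ∈ D, x * y = y * x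
  n_mem : n ∈ D
  m_mem : m ∈ D
  a_mem : a ∈ D
  nn : n * n = 1
  mm : m * m = 1
  aa : a * a = 1
  n1 : n ≠ 1
  m1 : m ≠ 1
  a1 : a ≠ 1
  Wn_tv : ∀ w ∈ Wn, Tv D n w
  Wm_tv : ∀ w ∈ Wm, Tv D m w
  Wa_tv : ∀ w ∈ Wa, Tv D a w
  Wm_norm : ∀ g : G, g * m = m * g → ∀ w ∈ Wm, g * w * g⁻¹ ∈ Wm
  Wa_norm : ∀ g : G, g * a = a * g → ∀ w ∈ Wa, g * w * g⁻¹ ∈ Wa
  Wm_mov : ∃ w ∈ Wm, w * n ≠ n * w
  Wa_mov : ∃ w ∈ Wa, w * m ≠ m * w
  Wm_s : ∀ w ∈ Wm, w * (n * a) = (n * a) * w

namespace Hyp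

variable {D Wn Wm Wa : Subgroup G} {n m a : G}

/-- Every `w ∈ Wn` centralising `m` has the hyperplane of an element of `Wa`. -/
theorem exists_same (h : Hyp D Wn Wm Wa n m a) {w : G} (hw : w ∈ Wn) (hwm : w * m = m * w) :
    ∃ v ∈ Wa, Same D n w a v := by
  obtain ⟨w', hw', hw'n⟩ := h.Wm_mov
  obtain ⟨u, hu, hum⟩ := h.Wa_mov
  have s1 := same_comm h.comm h.n_mem h.m_mem h.nn h.mm h.n1 h.m1 (h.Wn_tv w hw) (h.Wm_tv w' hw') hwm hw'n
  set x := w * w' * w⁻¹ * w'⁻¹ with hx
  have hxW : x ∈ Wm := by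
    rw [hx]
    exact Wm.mul_mem (h.Wm_norm w hwm w' hw') (Wm.inv_mem hw')
  -- `x` centralises `n`, hence `a`
  have conj : ∀ {x y : G}, x * y * x⁻¹ = y ↔ x * y = y * x := fun {x y} => mul_inv_eq_iff_eq_mul
  have w_n : w * n * w⁻¹ = n := by
    rcases h.Wn_tv w hw n h.n_mem with h1 | h1
    · exact h1
    · rw [h.nn] at h1
      exact absurd (by
        have := congrArg (fun t => w⁻¹ * t * w) h1
        simpa [mul_assoc] using this) h.n1
  have x_n : x * n = n * x := by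
    rcases s1 n h.n_mem with ⟨_, h2⟩ | ⟨h1, _⟩
    · exact conj.1 h2
    · rw [w_n] at h1
      exact absurd (by simpa using h1) h.n1
  have x_a : x * a = a * x := by
    have h1 := h.Wm_s x hxW
    have h2 : n * (x * a) = n * (a * x) := by
      calc n * (x * a) = (n * x) * a := by group
        _ = (x * n) * a := by rw [x_n]
        _ = x * (n * a) := by group
        _ = (n * a) * x := h1
        _ = n * (a * x) := by group
    exact mul_left_cancel h2
  have s2 := same_comm h.comm h.m_mem h.a_mem h.mm h.aa h.m1 h.a1 (h.Wm_tv x hxW) (h.Wa_tv u hu) x_a hum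
  refine ⟨x * u * x⁻¹ * u⁻¹, Wa.mul_mem (h.Wa_norm x x_a u hu) (Wa.inv_mem hu), ?_⟩
  exact s1.trans h.m1 s2

/-- Every `w ∈ Wn` centralising `m` centralises `C_D(Wa)`. -/
theorem comm_of_comm (h : Hyp D Wn Wm Wa n m a) {w : G} (hw : w ∈ Wn) (hwm : w * m = m * w)
    {u : G} (hu : u ∈ D) (huW : ∀ v ∈ Wa, v * u = u * v) : w * u = u * w := by
  obtain ⟨v, hv, hs⟩ := h.exists_same hw hwm
  rcases hs u hu with ⟨h1, _⟩ | ⟨_, h2⟩
  · exact mul_inv_eq_iff_eq_mul.1 h1
  · exact absurd (by simpa using (mul_inv_eq_iff_eq_mul.2 (huW v hv)).symm.trans h2) h.a1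

/-- `Wn` centralises one of `u`, `v`, `u * v` for `u, v ∈ C_D(Wa)`. -/
theorem small (h : Hyp D Wn Wm Wa n m a) {u v : G} (hu : u ∈ D) (hv : v ∈ D)
    (huW : ∀ x ∈ Wa, x * u = u * x) (hvW : ∀ x ∈ Wa, x * v = v * x) :
    (∀ w ∈ Wn, w * u = u * w) ∨ (∀ w ∈ Wn, w * v = v * w) ∨ (∀ w ∈ Wn, w * (u * v) = (u * v) * w) := by
  classical
  by_cases hex : ∃ w₀ ∈ Wn, w₀ * m ≠ m * w₀
  · obtain ⟨w₀, hw₀, hw₀m⟩ := hex
    have conj : ∀ {x y : G}, x * y * x⁻¹ = y ↔ x * y = y * x := fun {x y} => mul_inv_eq_iff_eq_mul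
    -- `w₀` decides
    have dec : ∀ x ∈ D, (∀ y ∈ Wa, y * x = x * y) → w₀ * x = x * w₀ → ∀ w ∈ Wn, w * x = x * w := by
      intro x hx hxW hx0 w hw
      by_cases hwm : w * m = m * w
      · exact h.comm_of_comm hw hwm hx hxW
      · -- `w₀⁻¹ w` centralises `m`
        have e1 : w * m * w⁻¹ = m * n := by
          rcases h.Wn_tv w hw m h.m_mem with h1 | h1
          · exact absurd (conj.1 h1) hwm
          · exact h1
        have e2 : w₀ * m * w₀⁻¹ = m * n := by
          rcases h.Wn_tv w₀ hw₀ m h.m_mem with h1 | h1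
          · exact absurd (conj.1 h1) hw₀m
          · exact h1
        have e3 : (w₀⁻¹ * w) * m = m * (w₀⁻¹ * w) := by
          refine conj.1 ?_
          calc (w₀⁻¹ * w) * m * (w₀⁻¹ * w)⁻¹ = w₀⁻¹ * (w * m * w⁻¹) * w₀ := by group
            _ = w₀⁻¹ * (w₀ * m * w₀⁻¹) * w₀ := by rw [e1, e2]
            _ = m := by group
        have e4 := h.comm_of_comm (Wn.mul_mem (Wn.inv_mem hw₀) hw) e3 hx hxW
        calc w * x = w₀ * ((w₀⁻¹ * w) * x) := by group
          _ = w₀ * (x * (w₀⁻¹ * w)) := by rw [e4]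
          _ = (w₀ * x) * (w₀⁻¹ * w) := by group
          _ = (x * w₀) * (w₀⁻¹ * w) := by rw [hx0]
          _ = x * w := by group
    by_cases h1 : w₀ * u = u * w₀
    · exact Or.inl (dec u hu huW h1)
    by_cases h2 : w₀ * v = v * w₀
    · exact Or.inr (Or.inl (dec v hv hvW h2))
    refine Or.inr (Or.inr (dec (u * v) (D.mul_mem hu hv) (fun y hy => ?_) ?_))
    · rw [← mul_assoc, huW y hy, mul_assoc, hvW y hy, mul_assoc]
    · have e1 : w₀ * u * w₀⁻¹ = u * n := by
        rcases h.Wn_tv w₀ hw₀ u hu with h3 | h3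
        · exact absurd (conj.1 h3) h1
        · exact h3
      have e2 : w₀ * v * w₀⁻¹ = v * n := by
        rcases h.Wn_tv w₀ hw₀ v hv with h3 | h3
        · exact absurd (conj.1 h3) h2
        · exact h3
      refine conj.1 ?_
      calc w₀ * (u * v) * w₀⁻¹ = (w₀ * u * w₀⁻¹) * (w₀ * v * w₀⁻¹) := by group
        _ = (u * n) * (v * n) := by rw [e1, e2]
        _ = u * (n * v) * n := by group
        _ = u * (v * n) * n := by rw [h.comm n h.n_mem v hv]
        _ = u * v * (n * n) := by group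
        _ = u * v := by rw [h.nn, mul_one]
  · have hall : ∀ w ∈ Wn, w * m = m * w := fun w hw => by
      by_contra hc; exact hex ⟨w, hw, hc⟩
    exact Or.inl (fun w hw => h.comm_of_comm hw (hall w hw) hu huW)

end Hyp

end Cfsg.Agent.Omega.TTn.AEight
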