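/-
Copyright (c) 2026 CFSG team. Released under Apache 2.0 license.
Authors: helper814 (T-T: `V ≤ O_2(C_G(s))`; Lemma 0 of #12557 (helper492), #13341)
-/
import Cfsg.Agent.Omega.S5.TT
import Cfsg.Agent.Omega.TTn.AEight

/-!
# T-T: consequences of `V ≤ O₂(C_G(s))`

`M : FiveMod V L`, `n = {0 1}`, `a = {2 3}`, `m = {0 2}`, `s = n a = {0 1 2 3}`; `S ≤ L` induces (a subgroup of) the
dihedral group `C((0 1)(2 3))` on `V`.

* `Sit.comm_V` : if `V ≤ O₂(C_G(s))`, then all `C_G(s)`-conjugates of `V` commute with each other (Lemma 0 of #12557);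
* `W V x` : the subgroup `⟨V^{C_G(x)}⟩`;
* `hyp_of` : the hypothesis of `AEight` for any abelian normal subgroup `D ≥ V` of `C_G(s)` on which `W V n` acts with
  centre `n`;
* `Sit.small` : then `W V n` centralises one of `u`, `v`, `u v` for `u, v ∈ C_D(W V a)`.
-/

set_option autoImplicit false

namespace Cfsg.Agent.Omega.TTn.AEightFront

open Subgroup Cfsg Cfsg.Agent.ZN Cfsg.Agent.ZN.ChoiceBase
open Cfsg.Agent.Omega.S5.Mod Cfsg.Agent.Omega.S5.TT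
open Cfsg.Agent.MinSimple.VModule (o2_isPGroup le_o2 o2_le le_normalizer_o2 o2_le_of_sylow)

universe u

variable {G : Type u} [Group G]

/-- `{0 2}` -/
def mm : Vec := ![1, 0, 1, 0, 0]

/-- `⟨V^{C_G(x)}⟩` -/
def W (V : Subgroup G) (x : G) : Subgroup G :=
  closure {y | ∃ g, g * x = x * g ∧ ∃ v ∈ V, y = g * v * g⁻¹}

theorem mem_W {V : Subgroup G} {x g v : G} (hg : g * x = x * g) (hv : v ∈ V) : g * v * g⁻¹ ∈ W V x :=
  subset_closure ⟨g, hg, v, hv, rfl⟩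

theorem le_W (V : Subgroup G) (x : G) : V ≤ W V x := fun v hv => by
  have := mem_W (V := V) (x := x) (g := 1) (v := v) (by rw [one_mul, mul_one]) hv
  simpa using this

/-- Conjugation by `l ∈ N_G(V)` maps `W V x` to `W V (l x l⁻¹)`. -/
theorem W_conj {V : Subgroup G} {x l w : G} (hl : ∀ v ∈ V, l⁻¹ * v * l ∈ V) (hl' : ∀ v ∈ V, l * v * l⁻¹ ∈ V)
    (hw : w ∈ W V x) : l * w * l⁻¹ ∈ W V (l * x * l⁻¹) := by
  have _ := hl
  induction hw using closure_induction with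
  | mem y hy =>
    obtain ⟨g, hg, v, hv, rfl⟩ := hy
    have h1 : l * (g * v * g⁻¹) * l⁻¹ = (l * g * l⁻¹) * (l * v * l⁻¹) * (l * g * l⁻¹)⁻¹ := by group
    rw [h1]
    refine mem_W ?_ (hl' v hv)
    calc l * g * l⁻¹ * (l * x * l⁻¹) = l * (g * x) * l⁻¹ := by group
      _ = l * (x * g) * l⁻¹ := by rw [hg]
      _ = l * x * l⁻¹ * (l * g * l⁻¹) := by group
  | one => simp
  | mul a b _ _ ha hb =>
    have h1 : l * (a * b) * l⁻¹ = (l * a * l⁻¹) * (l * b * l⁻¹) := by group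
    rw [h1]; exact mul_mem ha hb
  | inv a _ ha =>
    have h1 : l * a⁻¹ * l⁻¹ = (l * a * l⁻¹)⁻¹ := by group
    rw [h1]; exact inv_mem ha

theorem W_norm {V : Subgroup G} {x g w : G} (hg : g * x = x * g) (hw : w ∈ W V x) : g * w * g⁻¹ ∈ W V x := by
  induction hw using closure_induction with
  | mem y hy =>
    obtain ⟨k, hk, v, hv, rfl⟩ := hy
    have h1 : g * (k * v * k⁻¹) * g⁻¹ = (g * k) * v * (g * k)⁻¹ := by group
    rw [h1]
    refine mem_W ?_ hv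
    rw [mul_assoc, hk, ← mul_assoc, hg, mul_assoc]
  | one => simp
  | mul a b _ _ ha hb =>
    have h1 : g * (a * b) * g⁻¹ = (g * a * g⁻¹) * (g * b * g⁻¹) := by group
    rw [h1]; exact mul_mem ha hb
  | inv a _ ha =>
    have h1 : g * a⁻¹ * g⁻¹ = (g * a * g⁻¹)⁻¹ := by group
    rw [h1]; exact inv_mem ha

/-! ### Lemma 0 -/

theorem v4_move : ∀ p : Equiv.Perm (Fin 5), V4p p → p ≠ 1 → ∃ x y : Vec,
    ¬ (x ∘ p.symm = x ∨ x ∘ p.symm = x + 1) ∧ ¬ (y ∘ p.symm = y ∨ y ∘ p.symm = y + 1) ∧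
    ¬ ((x + y) ∘ p.symm = x + y ∨ (x + y) ∘ p.symm = x + y + 1) := by
  intro p hp hp1
  rcases hp with rfl | rfl | rfl | rfl
  · exact absurd rfl hp1
  · exact ⟨![1, 0, 1, 0, 0], ![1, 0, 0, 0, 1], by decide, by decide, by decide⟩
  · exact ⟨![1, 1, 0, 0, 0], ![1, 0, 0, 0, 1], by decide, by decide, by decide⟩
  · exact ⟨![1, 1, 0, 0, 0], ![1, 0, 0, 0, 1], by decide, by decide, by decide⟩

theorem v4_quad : ∀ p : Equiv.Perm (Fin 5), V4p p → ∀ q : Equiv.Perm (Fin 5), V4p q → p ≠ 1 → q ≠ 1 →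
    p * q ≠ 1 → ∃ x : Vec, ¬ ((x ∘ p.symm + x) ∘ q.symm = x ∘ p.symm + x ∨
      (x ∘ p.symm + x) ∘ q.symm = x ∘ p.symm + x + 1) := by
  intro p hp q hq hp1 hq1 hpq
  have h : ∀ p q : Equiv.Perm (Fin 5), V4p p → V4p q → p ≠ 1 → q ≠ 1 → p * q ≠ 1 →
      ¬ (((![1, 0, 0, 0, 1] : Vec) ∘ p.symm + ![1, 0, 0, 0, 1]) ∘ q.symm =
          (![1, 0, 0, 0, 1] : Vec) ∘ p.symm + ![1, 0, 0, 0, 1] ∨
        ((![1, 0, 0, 0, 1] : Vec) ∘ p.symm + ![1, 0, 0, 0, 1]) ∘ q.symm =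
          (![1, 0, 0, 0, 1] : Vec) ∘ p.symm + ![1, 0, 0, 0, 1] + 1) := by
    intro p q hp hq
    rcases hp with rfl | rfl | rfl | rfl <;> rcases hq with rfl | rfl | rfl | rfl <;> decide
  exact ⟨_, h p q hp hq hp1 hq1 hpq⟩

/-- `S ≤ N_G(V)` Sylow, acting inside `C((0 1)(2 3))`, and `V ≤ O₂(C_G(s))`. -/
structure Sit (S : Sylow 2 G) {V L : Subgroup G} (M : FiveMod V L) : Prop where
  S_le : (S : Subgroup G) ≤ L
  d8 : ∀ g ∈ (S : Subgroup G), ∀ p, M.Ind g p → p * dd = dd * p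
  V_le : V ≤ o2 (centralizer ({M.e ss} : Set G))

theorem mem_C {x y : G} : x ∈ centralizer ({y} : Set G) ↔ x * y = y * x :=
  mem_centralizer_singleton_iff

namespace Sit

variable {S : Sylow 2 G} {V L : Subgroup G} {M : FiveMod V L} (t : Sit S M)
include t

theorem S_comm {g : G} (hg : g ∈ (S : Subgroup G)) : g * M.e ss = M.e ss * g := by
  obtain ⟨p, hp⟩ := M.exists_ind (t.S_le hg)
  exact (hp.commute_iff _).2 (Or.inl (fix_ss p (t.d8 g hg p hp)))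

variable [Finite G]

theorem Q_le_S : o2 (centralizer ({M.e ss} : Set G)) ≤ (S : Subgroup G) :=
  o2_le_of_sylow S.isPGroup' (MinSimple.Basic.not_dvd_relIndex S fun _ hg => mem_C.2 (t.S_comm hg))

theorem Q_ind {q : G} (hq : q ∈ o2 (centralizer ({M.e ss} : Set G))) : ∃ p, V4p p ∧ M.Ind q p := by
  have hqS := t.Q_le_S hq
  obtain ⟨p, hp⟩ := M.exists_ind (t.S_le hqS)
  refine ⟨p, v4_of p (t.d8 q hqS p hp) ?_, hp⟩
  obtain ⟨g, -, hg⟩ := M.exists_lift (Equiv.swap 1 2)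
  have hg : M.Ind g (Equiv.swap 1 2) := hg
  have hgC : g ∈ centralizer ({M.e ss} : Set G) :=
    mem_C.2 ((hg.commute_iff _).2 (Or.inl (by decide)))
  have h1 : g * q * g⁻¹ ∈ o2 (centralizer ({M.e ss} : Set G)) :=
    (mem_normalizer_iff.1 (le_normalizer_o2 _ hgC) _).1 hq
  exact t.d8 _ (t.Q_le_S h1) _ ((hg.mul hp).mul hg.inv)

/-- Lemma 0 of #12557: the `C_G(s)`-conjugates of `V` commute. -/
theorem comm_V {c : G} (hc : c * M.e ss = M.e ss * c) {v w : G} (hv : v ∈ V) (hw : w ∈ V) :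
    (c * v * c⁻¹) * w = w * (c * v * c⁻¹) := by
  have hcC : c ∈ centralizer ({M.e ss} : Set G) := mem_C.2 hc
  have hQ1 : ∀ x ∈ V, c * x * c⁻¹ ∈ o2 (centralizer ({M.e ss} : Set G)) := fun x hx =>
    (mem_normalizer_iff.1 (le_normalizer_o2 _ hcC) _).1 (t.V_le hx)
  have hQ2 : ∀ x ∈ V, c⁻¹ * x * c ∈ o2 (centralizer ({M.e ss} : Set G)) := fun x hx => by
    have := (mem_normalizer_iff.1 (le_normalizer_o2 _ (inv_mem hcC)) _).1 (t.V_le hx)
    rwa [inv_inv] at this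
  -- `V` acts on `V ^ c`
  have act : ∀ x ∈ V, ∃ p, V4p p ∧ (M.cj c).Ind x p := by
    intro x hx
    obtain ⟨p, hp, hpi⟩ := t.Q_ind (hQ2 x hx)
    refine ⟨p, hp, ?_⟩
    have h1 := M.cj_ind (g := c) hpi
    have h2 : c * (c⁻¹ * x * c) * c⁻¹ = x := by group
    rwa [h2] at h1
  obtain ⟨p, hp, hpi⟩ := t.Q_ind (hQ1 v hv)
  by_cases hp1 : p = 1
  · subst hp1
    exact (mem_centralizer_iff.1 (FiveMod.ind_one_iff.1 hpi) w hw).symm
  exfalso
  obtain ⟨x, y, hx, hy, hxy⟩ := v4_move p hp hp1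
  rw [← hpi.commute_iff] at hx hy hxy
  obtain ⟨r₁, hr₁, hi₁⟩ := act _ (M.e_mem x)
  obtain ⟨r₂, hr₂, hi₂⟩ := act _ (M.e_mem y)
  have hv' : c * v * c⁻¹ ∈ (ChoiceBase.cj c V) := ⟨v, hv, rfl⟩
  have h1 : r₁ ≠ 1 := by
    rintro rfl
    exact hx (mem_centralizer_iff.1 (FiveMod.ind_one_iff.1 hi₁) _ hv')
  have h2 : r₂ ≠ 1 := by
    rintro rfl
    exact hy (mem_centralizer_iff.1 (FiveMod.ind_one_iff.1 hi₂) _ hv')
  have h3 : r₁ * r₂ ≠ 1 := by
    intro h0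
    have h4 := hi₁.mul hi₂
    rw [h0] at h4
    refine hxy ?_
    rw [M.e_add]
    exact mem_centralizer_iff.1 (FiveMod.ind_one_iff.1 h4) _ hv'
  obtain ⟨z, hz⟩ := v4_quad r₁ hr₁ r₂ hr₂ h1 h2 h3
  rw [← hi₂.commute_iff, ← hi₁.comm_eq] at hz
  refine hz ?_
  -- the commutator lies in `V`
  have h5 : M.e x * (M.cj c).e z * (M.e x)⁻¹ * ((M.cj c).e z)⁻¹ ∈ V := by
    have h6 : (M.cj c).e z ∈ o2 (centralizer ({M.e ss} : Set G)) := by
      rw [M.cj_e]; exact hQ1 _ (M.e_mem z)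
    obtain ⟨p', _, hpi'⟩ := t.Q_ind h6
    have h7 : M.e x * (M.cj c).e z * (M.e x)⁻¹ * ((M.cj c).e z)⁻¹ =
        M.e x * ((M.cj c).e z * (M.e x)⁻¹ * ((M.cj c).e z)⁻¹) := by group
    rw [h7, M.e_inv, hpi']
    exact mul_mem (M.e_mem _) (M.e_mem _)
  exact (M.comm h5 (M.e_mem y)).symm

/-- `⟨V^{C_G(s)}⟩` is abelian. -/
theorem W_comm : ∀ x ∈ W V (M.e ss), ∀ y ∈ W V (M.e ss), x * y = y * x := by
  have gen : ∀ x ∈ {y | ∃ g, g * M.e ss = M.e ss * g ∧ ∃ v ∈ V, y = g * v * g⁻¹},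
      ∀ y ∈ {y | ∃ g, g * M.e ss = M.e ss * g ∧ ∃ v ∈ V, y = g * v * g⁻¹}, x * y = y * x := by
    rintro _ ⟨g, hg, v, hv, rfl⟩ _ ⟨k, hk, w, hw, rfl⟩
    have h0 : (k⁻¹ * g) * M.e ss = M.e ss * (k⁻¹ * g) := by
      have hk' : k⁻¹ * M.e ss = M.e ss * k⁻¹ := by
        have := congrArg (fun t => k⁻¹ * t * k⁻¹) hk
        simpa [mul_assoc] using this.symm
      rw [mul_assoc, hg, ← mul_assoc, hk', mul_assoc]
    have h1 := t.comm_V h0 hv hw
    calc g * v * g⁻¹ * (k * w * k⁻¹) = k * ((k⁻¹ * g * v * (k⁻¹ * g)⁻¹) * w) * k⁻¹ := by group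
      _ = k * (w * (k⁻¹ * g * v * (k⁻¹ * g)⁻¹)) * k⁻¹ := by rw [h1]
      _ = k * w * k⁻¹ * (g * v * g⁻¹) := by group
  intro x hx y hy
  have h1 : closure {y | ∃ g, g * M.e ss = M.e ss * g ∧ ∃ v ∈ V, y = g * v * g⁻¹} ≤
      centralizer ((W V (M.e ss) : Subgroup G) : Set G) := by
    rw [W, centralizer_closure, closure_le]
    intro a ha
    exact mem_centralizer_iff.2 fun b hb => gen b hb a ha
  exact (mem_centralizer_iff.1 (h1 hx) y hy).symm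

end Sit

section front

variable {V L : Subgroup G} (M : FiveMod V L)

theorem conj_V {l : G} {p : Equiv.Perm (Fin 5)} (hl : M.Ind l p) : ∀ v ∈ V, l * v * l⁻¹ ∈ V := fun v hv =>
  (mem_normalizer_iff.1 hl.mem_normalizer v).1 hv

theorem conj_V' {l : G} {p : Equiv.Perm (Fin 5)} (hl : M.Ind l p) : ∀ v ∈ V, l⁻¹ * v * l ∈ V := fun v hv => by
  have := conj_V M hl.inv v hv
  rwa [inv_inv] at this

/-- The hypotheses of `AEight`, from those on `W V n`. -/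
theorem hyp_of {D : Subgroup G} (hD : ∀ x ∈ D, ∀ y ∈ D, x * y = y * x) (hVD : V ≤ D)
    (hDn : ∀ g, g * M.e ss = M.e ss * g → ∀ d ∈ D, g * d * g⁻¹ ∈ D)
    (htv : ∀ w ∈ W V (M.e nn), ∀ d ∈ D, w * d * w⁻¹ = d ∨ w * d * w⁻¹ = d * M.e nn)
    (hs : ∀ w ∈ W V (M.e nn), w * M.e ss = M.e ss * w)
    (hmov : ∃ w ∈ W V (M.e nn), w * M.e mm ≠ M.e mm * w) :
    AEight.Hyp D (W V (M.e nn)) (W V (M.e mm)) (W V (M.e aa)) (M.e nn) (M.e mm) (M.e aa) := by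
  obtain ⟨l, -, hl⟩ := M.exists_lift (Equiv.swap 1 2)
  obtain ⟨k, -, hk⟩ := M.exists_lift tt
  have hl : M.Ind l (Equiv.swap 1 2) := hl
  have hk : M.Ind k tt := hk
  -- `l : n ↔ m`, `k : n ↔ a`, both fix `s`; `k` fixes `m`
  have l_n : l⁻¹ * M.e mm * l = M.e nn := by
    have h := hl.inv mm
    rw [inv_inv] at h
    rw [h, M.e_eq_iff]; left; decide
  have l_n' : l * M.e nn * l⁻¹ = M.e mm := by rw [hl, M.e_eq_iff]; left; decide
  have l_m' : l * M.e mm * l⁻¹ = M.e nn := by rw [hl, M.e_eq_iff]; left; decide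
  have k_n' : k * M.e nn * k⁻¹ = M.e aa := by rw [hk, M.e_eq_iff]; left; decide
  have k_m' : k * M.e mm * k⁻¹ = M.e mm := by rw [hk, M.e_eq_iff]; left; decide
  have k_a : k⁻¹ * M.e aa * k = M.e nn := by
    have h := hk.inv aa
    rw [inv_inv] at h
    rw [h, M.e_eq_iff]; left; decide
  have l_s : l * M.e ss = M.e ss * l := (hl.commute_iff _).2 (Or.inl (by decide))
  have k_s : k * M.e ss = M.e ss * k := (hk.commute_iff _).2 (Or.inl (by decide))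
  have inv_s : ∀ {g : G}, g * M.e ss = M.e ss * g → g⁻¹ * M.e ss = M.e ss * g⁻¹ := by
    intro g hg
    have := congrArg (fun t => g⁻¹ * t * g⁻¹) hg
    simpa [mul_assoc] using this.symm
  -- transport of the action
  have trans : ∀ {g c : G}, g * M.e ss = M.e ss * g → (∀ w ∈ W V c, g⁻¹ * w * g ∈ W V (M.e nn)) →
      g * M.e nn * g⁻¹ = c → ∀ w ∈ W V c, AEight.Tv D c w := by
    intro g c hg hW hc w hw d hd
    have h1 : g⁻¹ * d * g ∈ D := by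
      have := hDn g⁻¹ (inv_s hg) d hd
      rwa [inv_inv] at this
    have h2 : w * d * w⁻¹ = g * ((g⁻¹ * w * g) * (g⁻¹ * d * g) * (g⁻¹ * w * g)⁻¹) * g⁻¹ := by group
    rcases htv _ (hW w hw) _ h1 with h3 | h3
    · left; rw [h2, h3]; group
    · right
      rw [h2, h3, ← hc]; group
  have W_l : ∀ w ∈ W V (M.e mm), l⁻¹ * w * l ∈ W V (M.e nn) := fun w hw => by
    have h := W_conj (V := V) (l := l⁻¹) (x := M.e mm) (w := w)
      (by rw [inv_inv]; exact conj_V M hl) (by rw [inv_inv]; exact conj_V' M hl) hw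
    rw [inv_inv, l_n] at h
    exact h
  have W_k : ∀ w ∈ W V (M.e aa), k⁻¹ * w * k ∈ W V (M.e nn) := fun w hw => by
    have h := W_conj (V := V) (l := k⁻¹) (x := M.e aa) (w := w)
      (by rw [inv_inv]; exact conj_V M hk) (by rw [inv_inv]; exact conj_V' M hk) hw
    rw [inv_inv, k_a] at h
    exact h
  obtain ⟨w₀, hw₀, hw₀m⟩ := hmov
  refine ⟨hD, hVD (M.e_mem _), hVD (M.e_mem _), hVD (M.e_mem _), M.e_sq _, M.e_sq _, M.e_sq _,
    Pos.n_ne M, ?_, Pos.a_ne M, fun w hw => htv w hw, trans l_s W_l l_n', trans k_s W_k k_n',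
    fun g hg w hw => W_norm hg hw, fun g hg w hw => W_norm hg hw, ?_, ?_, ?_⟩
  · rw [Ne, M.ker]; decide
  · refine ⟨l * w₀ * l⁻¹, ?_, ?_⟩
    · have h := W_conj (V := V) (l := l) (x := M.e nn) (w := w₀) (conj_V' M hl) (conj_V M hl) hw₀
      rwa [l_n'] at h
    · intro h
      refine hw₀m ?_
      have h1 := congrArg (fun t => l⁻¹ * t * l) h
      have h2 : l⁻¹ * M.e nn * l = M.e mm := by rw [← l_m']; group
      calc w₀ * M.e mm = l⁻¹ * (l * w₀ * l⁻¹ * M.e nn) * l := by rw [← h2]; group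
        _ = l⁻¹ * (M.e nn * (l * w₀ * l⁻¹)) * l := by rw [h]
        _ = M.e mm * w₀ := by rw [← h2]; group
  · refine ⟨k * w₀ * k⁻¹, ?_, ?_⟩
    · have h := W_conj (V := V) (l := k) (x := M.e nn) (w := w₀) (conj_V' M hk) (conj_V M hk) hw₀
      rwa [k_n'] at h
    · intro h
      refine hw₀m ?_
      have h2 : k⁻¹ * M.e mm * k = M.e mm := by
        conv_lhs => rw [← k_m']
        group
      calc w₀ * M.e mm = w₀ * (k⁻¹ * M.e mm * k) := by rw [h2]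
        _ = k⁻¹ * (k * w₀ * k⁻¹ * M.e mm) * k := by group
        _ = k⁻¹ * (M.e mm * (k * w₀ * k⁻¹)) * k := by rw [h]
        _ = (k⁻¹ * M.e mm * k) * w₀ := by group
        _ = M.e mm * w₀ := by rw [h2]
  · intro w hw
    rw [Pos.na M]
    have h1 := hs _ (W_l w hw)
    calc w * M.e ss = l * ((l⁻¹ * w * l) * (l⁻¹ * M.e ss * l)) * l⁻¹ := by group
      _ = l * ((l⁻¹ * w * l) * M.e ss) * l⁻¹ := by rw [inv_s l_s]; group
      _ = l * (M.e ss * (l⁻¹ * w * l)) * l⁻¹ := by rw [h1]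
      _ = (l * M.e ss) * l⁻¹ * w := by group
      _ = M.e ss * w := by rw [l_s]; group

end front

/-- T-T with `V ≤ O₂(C_G(s))`: with `D = ⟨V^{C_G(s)}⟩`, if `⟨V^{C_G(n)}⟩` acts on `D` with centre `n` (and not
trivially on `m = {0 2}`), it centralises one of `u`, `v`, `u v` for all `u, v ∈ C_D(⟨V^{C_G(a)}⟩)`. -/
theorem Sit.small [Finite G] {S : Sylow 2 G} {V L : Subgroup G} {M : FiveMod V L} (t : Sit S M)
    (htv : ∀ w ∈ W V (M.e nn), ∀ d ∈ W V (M.e ss), w * d * w⁻¹ = d ∨ w * d * w⁻¹ = d * M.e nn)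
    (hs : ∀ w ∈ W V (M.e nn), w * M.e ss = M.e ss * w)
    (hmov : ∃ w ∈ W V (M.e nn), w * M.e mm ≠ M.e mm * w) {u v : G} (hu : u ∈ W V (M.e ss)) (hv : v ∈ W V (M.e ss))
    (huW : ∀ x ∈ W V (M.e aa), x * u = u * x) (hvW : ∀ x ∈ W V (M.e aa), x * v = v * x) :
    (∀ w ∈ W V (M.e nn), w * u = u * w) ∨ (∀ w ∈ W V (M.e nn), w * v = v * w) ∨
      (∀ w ∈ W V (M.e nn), w * (u * v) = (u * v) * w) :=
  (hyp_of M t.W_comm (le_W V _) (fun _ hg _ hd => W_norm hg hd) htv hs hmov).small hu hv huW hvW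

end Cfsg.Agent.Omega.TTn.AEightFront
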