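import Cfsg.Agent.Omega.TTn.DiFrame

/-!
# #14261 (helper439), (2.2)–(3.7) over the frame `Fr`

* `Fr.thmC` : `u ∈ U i k` centralising `U i j` lies in `Q i j` and in `⟨s j⟩ Π`.
* `Fr.comm_disj` : `[U i k, U j l] ⊆ {1, s i s k, s m, s j s l}`.
* `Fr.comm_adj` : `[U i k, U i l] ⊆ {1, s m, s j, s j s m}`.
-/

set_option autoImplicit false

namespace Cfsg.Agent.Omega.TTn.Di

open Subgroup

universe u

variable {G : Type u} [Group G]

namespace Fr

variable {s : Fin 5 → G} {U W Q : Fin 5 → Fin 5 → Subgroup G} {w : Fin 5 → Fin 5 → G}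
  {K : Subgroup G} (F : Fr s U W Q w K) {i j k l m : Fin 5}

include F

/-- (2.2) -/
theorem two2 (h : D5 i j k l m) {u y : G} (hu : u ∈ U i k) (hc : Cen U u i j) (hy : y ∈ U i m) :
    cm u y = cm (cj (w i j) u) y := by
  have huK := F.UK h.ik hu
  have hyK := F.UK h.im hy
  set u2 := cj (w i j) u with hu2
  have hu2m : u2 ∈ U j k := F.w1 h.ij h.ik.symm h.jk.symm u hu
  have hu2K := F.UK h.jk hu2m
  have hc2 : Cen U u2 i j := by
    refine F.cen_cj h.ij h.ij hc (fun z hz => ?_) h.ij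
    rw [cj_eq_of_comm (F.UQc h.ij _ (F.WQ h.ij (F.wW h.ij)) _ hz)]
    exact hz
  set u4 := cj (w k l) u with hu4
  have hu4m : u4 ∈ U i l := by
    rw [F.Usym]
    exact F.w1 h.kl h.ik h.il u (F.Usym i k ▸ hu)
  have hu4K := F.UK h.il hu4m
  have hc4 : Cen U u4 i j :=
    F.cen_cj h.kl h.ij hc (fun y hy => F.w3 h.kl h.ik h.il h.jk h.jl h.ij y hy) h.ij
  set u24 := cj (w i j) u4 with hu24
  have hu24m : u24 ∈ U j l := F.w1 h.ij h.il.symm h.jl.symm u4 hu4m
  have hu24K := F.UK h.jl hu24m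
  have hc24 : Cen U u24 i j := by
    refine F.cen_cj h.ij h.ij hc4 (fun z hz => ?_) h.ij
    rw [cj_eq_of_comm (F.UQc h.ij _ (F.WQ h.ij (F.wW h.ij)) _ hz)]
    exact hz
  -- `h = u u4 ∈ Q i j`
  have hq : u * u4 ∈ Q i j := by
    have h1 := F.cw h u hc _ (F.wW h.kl)
    have e1 : cm u (w k l) = u * u4 := by rw [cm_eq', F.inv_self h.ik hu]
    rwa [e1] at h1
  have h3 := F.QW h.ij _ hq _ (F.wW h.ij)
  set e := cm (u * u4) (w i j) with he
  have ecomm : ∀ g ∈ K, e * g = g * e := by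
    intro g hg
    rcases h3 with h3 | h3
    · rw [h3, one_mul, mul_one]
    · rw [h3, F.n_comm i j hg]
  have e1 : u * u4 = e * (u2 * u24) := by
    have e2 : cj (w i j) (u * u4) = u2 * u24 := by rw [cj_mul]
    rw [← e2, he, cm_eq', cj_inv]
    group
  -- the action on `y`
  have e2 : cj (u * u4) y = cj (u2 * u24) y := by
    rw [e1, ← cj_cj]
    apply cj_eq_of_comm
    exact ecomm _ (mul_mem (mul_mem (mul_mem hu2K hu24K) hyK) (inv_mem (mul_mem hu2K hu24K)))
  have S4 : Sg U i j k m (cm u y) := F.two1 h.d hu hc (Or.inl hy)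
  have S4' : Sg U j i k m (cm u2 y) := by
    refine F.two1 (h.a.d) hu2m (F.cen_symm hc2) (Or.inr (Or.inl hy))
  have S3 : Sg U i j l m (cm u4 y) := F.two1 h.c.d hu4m hc4 (Or.inl hy)
  have S3' : Sg U j i l m (cm u24 y) :=
    F.two1 (h.a.c.d) hu24m (F.cen_symm hc24) (Or.inr (Or.inl hy))
  have S4'' : Sg U i j k m (cm u2 y) := F.sg_a (h.a.d) S4'
  have S3'' : Sg U i j l m (cm u24 y) := F.sg_a (h.a.c.d) S3'
  have f1 : cj (u * u4) y = cm u4 y * (cm u y * y) := by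
    rw [← cj_cj, cj_eq_cm u4 y, cj_mul, cj_eq_cm u y, cj_eq_of_comm (hc _ S3.1)]
  have f2 : cj (u2 * u24) y = cm u24 y * (cm u2 y * y) := by
    rw [← cj_cj, cj_eq_cm u24 y, cj_mul, cj_eq_cm u2 y, cj_eq_of_comm (hc2 _ S3''.1)]
  rw [f1, f2, ← mul_assoc, ← mul_assoc] at e2
  have e3 := mul_right_cancel e2
  have e4 : (cm u24 y)⁻¹ * cm u4 y = cm u2 y * (cm u y)⁻¹ := by
    rw [inv_mul_eq_iff_eq_mul, ← mul_assoc, ← e3, mul_assoc, mul_inv_cancel, mul_one]
  have e5 : cm u2 y * (cm u y)⁻¹ = 1 := by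
    refine F.star h (mul_mem S4''.1 (inv_mem S4.1)) (mul_mem S4''.2.1 (inv_mem S4.2.1)) ?_
      (mul_mem S4''.2.2 (inv_mem S4.2.2))
    rw [← e4]
    exact mul_mem (inv_mem S3''.2.1) S3.2.1
  exact (mul_inv_eq_one.1 e5).symm

/-- **THEOREM C** -/
theorem thmC (h : D5 i j k l m) {u : G} (hu : u ∈ U i k) (hc : Cen U u i j) : u ∈ Q i j := by
  have hu' : u ∈ U k i := F.Usym i k ▸ hu
  set u'' := cj (w k j) u with hu''
  have hum : u'' ∈ U i j := by
    rw [F.Usym]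
    exact F.w1 h.jk.symm h.ik h.ij u hu'
  have hc' : Cen U u k j := F.cen_symm (F.cen_tri h.ij h.ik.symm h.jk.symm hu hc)
  have hcW : u * u'' ∈ W j k := by
    rw [F.Wsym]
    exact F.uuw h.jk.symm h.ik hu
  have c1 : ∀ y ∈ U i j, u * u'' * y = y * (u * u'') := by
    intro y hy
    rw [mul_assoc, F.Uab h.ij _ hum y hy, ← mul_assoc, hc y hy, mul_assoc]
  have c2 : ∀ y ∈ U k l, u * u'' * y = y * (u * u'') := by
    intro y hy
    have hD : D5 k j i m l := h.b.a.b.d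
    have e1 : cm u y = cm u'' y := F.two2 hD hu' hc' hy
    have S := F.two1 h hu hc (Or.inr (Or.inr hy))
    apply comm_of_cj
    rw [← cj_cj, cj_eq_cm u'' y, ← e1, cj_mul, cj_eq_cm u y, cj_eq_of_comm (hc _ S.1), ← mul_assoc,
      F.Usq h.ij _ S.1, one_mul]
  have h1 := F.core h _ hcW c1 c2
  have h2 := mul_mem h1 (inv_mem (F.UQ h.ij hum))
  rwa [mul_inv_cancel_right] at h2

/-- Theorem C, second form -/
theorem thmC' (h : D5 i j k l m) {u : G} (hu : u ∈ U i k) (hc : Cen U u i j) : PP s U i k j u :=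
  F.ppQ h.ij h.ik.symm h.jk.symm hu (F.thmC h hu hc)

theorem s_ne (i : Fin 5) : s i ≠ 1 := by
  intro h
  obtain ⟨j, hj⟩ : ∃ j : Fin 5, i ≠ j := by
    clear h F; revert i; decide
  exact F.sU' hj (h ▸ one_mem _)

/-- (3.1) `Σ_l = ⟨s l⟩` -/
theorem sig_one (h : D5 i j k l m) {y : G} (hy : Sg U i j k m y) : y = 1 ∨ y = s l := by
  obtain ⟨h1, h2, h3⟩ := hy
  have c1 : Cen U y i k := fun z hz => F.Uab h.ik y h2 z hz
  have c2 : Cen U y k l := by
    intro z hz
    have hzK := F.UK h.kl hz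
    have S : Sg U i k j l (cm y z) := F.two1 h.b h1 c1 (Or.inr (Or.inl hz))
    have m3 : cm y z ∈ U i m := by
      rw [cm_eq]
      have e : cj y z * z⁻¹ = y * (cj z y)⁻¹ := by unfold cj; group
      rw [e]
      exact mul_mem h3 (inv_mem (F.KU h.im z hzK y h3))
    exact cm_one_iff.1 (F.star h S.2.1 S.1 S.2.2 m3)
  have h5 : PP s U k i l y := F.thmC' (i := k) (j := l) (k := i) (l := j) (m := m)
    (⟨h.kl, h.ik.symm, h.jk.symm, h.km, h.il.symm, h.jl.symm, h.lm, h.ij, h.im, h.jm⟩)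
    (F.Usym i k ▸ h2) c2
  rcases h5.2 with h6 | h6
  · left
    have h7 : y ∈ U i l := F.tri h.ik.symm h.kl.symm h.il.symm (F.Usym i k ▸ h2) h6
    exact F.star h h1 h2 h7 h3
  · right
    have hs : s l ∈ U i k := F.sU h.ik h.il.symm h.kl.symm
    have h7 : y * s l ∈ U i k := mul_mem h2 hs
    have h8 : y * s l ∈ U i l := F.tri h.ik.symm h.kl.symm h.il.symm (F.Usym i k ▸ h7) h6
    have h9 := F.star h (mul_mem h1 (F.sU h.ij h.il.symm h.jl.symm)) h7 h8
      (mul_mem h3 (F.sU h.im h.il.symm h.lm))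
    rw [mul_eq_one_iff_eq_inv.1 h9, F.s_inv]

theorem sig (h : D5 i j k l m) {y : G} (hy : Sg U i j k l y) : y = 1 ∨ y = s m :=
  F.sig_one h.d hy

/-- (3.2) -/
theorem cm_out (h : D5 i j k l m) {v y : G} (hv : v ∈ U i k) (hc : Cen U v i j)
    (hy : y ∈ U i l ∨ y ∈ U j l ∨ y ∈ U k l) : cm v y = 1 ∨ cm v y = s m :=
  F.sig h (F.two1 h hv hc hy)

/-- membership in `U` of commutators -/
theorem cm_left {a b : Fin 5} (hab : a ≠ b) {v y : G} (hv : v ∈ U a b) (hy : y ∈ K) :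
    cm v y ∈ U a b := by
  rw [cm_eq]
  have e : cj v y * y⁻¹ = v * (cj y v)⁻¹ := by unfold cj; group
  rw [e]
  exact mul_mem hv (inv_mem (F.KU hab y hy v hv))

theorem cm_right {a b : Fin 5} (hab : a ≠ b) {v y : G} (hv : v ∈ K) (hy : y ∈ U a b) :
    cm v y ∈ U a b := by
  rw [cm_eq]
  exact mul_mem (F.KU hab v hv y hy) (inv_mem hy)

theorem s_mul_cancel (i : Fin 5) (y : G) : y * s i * s i = y := by
  rw [mul_assoc, F.s_sq, mul_one]

/-- (3.3) `Π_{lm} ∩ U l m = ⟨s l s m⟩` -/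
theorem delta (h : D5 i j k l m) {z : G} (h1 : z ∈ U i j) (h2 : z ∈ U i k) (h3 : z ∈ U l m) :
    z = 1 ∨ z = s l * s m := by
  have c0 : Cen U z i k := fun y hy => F.Uab h.ik z h2 y hy
  -- centralises `U i l`
  have c1 : Cen U z i l := by
    intro y hy
    have h4 : cm z y = 1 ∨ cm z y = s m := F.cm_out h.b h1 c0 (Or.inl hy)
    rcases h4 with h4 | h4
    · exact cm_one_iff.1 h4
    · exfalso
      have h5 := F.cm_left h.lm h3 (F.UK h.il hy)
      rw [h4, F.Usym] at h5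
      exact F.sU' h.lm.symm h5
  have h5 : PP s U i j l z := F.thmC' (i := i) (j := l) (k := j) (l := k) (m := m)
    ⟨h.il, h.ij, h.ik, h.im, h.jl.symm, h.kl.symm, h.lm, h.jk, h.jm, h.km⟩ h1 c1
  rcases h5.2 with h6 | h6
  · rcases F.sig h ⟨h1, h2, h6⟩ with h7 | h7
    · exact Or.inl h7
    · exfalso
      rw [h7, F.Usym] at h3
      exact F.sU' h.lm.symm h3
  · have h7 : z * s l ∈ U i j := mul_mem h1 (F.sU h.ij h.il.symm h.jl.symm)
    have h8 : z * s l ∈ U i k := mul_mem h2 (F.sU h.ik h.il.symm h.kl.symm)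
    rcases F.sig h ⟨h7, h8, h6⟩ with h9 | h9
    · exfalso
      have : z = s l := by rw [← F.s_mul_cancel l z, h9, one_mul]
      rw [this] at h3
      exact F.sU' h.lm h3
    · right
      rw [← F.s_mul_cancel l z, h9, F.s_comm]

/-- (3.4) `Π_{lm}` centralises `U l m` -/
theorem pi_cen (h : D5 i j k l m) {z : G} (h1 : z ∈ U i j) (h2 : z ∈ U i k) : Cen U z l m := by
  refine F.faith h.lm z (F.UK h.ij h1) fun y hy => ?_
  have hyK := F.UK h.lm hy
  exact F.delta h (F.cm_left h.ij h1 hyK) (F.cm_left h.ik h2 hyK)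
    (F.cm_right h.lm (F.UK h.ij h1) hy)

theorem rel5 (h : D5 i j k l m) : s i * s k * s m = s j * s l := by
  have h1 := F.s_rel h.b
  -- s i * s k * s j * s l * s m = 1
  have h2 : s i * s k * (s j * s l) * s m = 1 := by rw [← h1]; group
  have h3 : s j * s l * s m = s m * (s j * s l) := by
    rw [mul_assoc, F.s_comm l m, ← mul_assoc, F.s_comm j m, mul_assoc]
  have h4 : s i * s k * s m * (s j * s l) = 1 := by
    rw [← h2, mul_assoc (s i * s k) (s j * s l), h3]; group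
  rw [mul_eq_one_iff_eq_inv.1 h4, mul_inv_rev, F.s_inv, F.s_inv, F.s_comm]

/-- (3.5) first part -/
theorem q_out (h : D5 i j k l m) {q y : G} (h1 : q ∈ U i k) (h2 : q ∈ U j l) (hy : y ∈ U j m) :
    cm q y = 1 ∨ cm q y = s i * s k := by
  have hD : D5 j l m i k :=
    ⟨h.jl, h.jm, h.ij.symm, h.jk, h.lm, h.il.symm, h.kl.symm, h.im.symm, h.km.symm, h.ik⟩
  have hyK := F.UK h.jm hy
  have hqK := F.UK h.ik h1
  exact F.delta hD (F.cm_left h.jl h2 hyK) (F.cm_right h.jm hqK hy) (F.cm_left h.ik h1 hyK)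

/-- (3.5) second part -/
theorem q_cen (h : D5 i j k l m) {q : G} (h1 : q ∈ U i k) (h2 : q ∈ U j l) (hc : Cen U q j m) :
    q = 1 ∨ q = s i * s k ∨ q = s m ∨ q = s j * s l := by
  have hD : D5 j m l i k :=
    ⟨h.jm, h.jl, h.ij.symm, h.jk, h.lm.symm, h.im.symm, h.km.symm, h.il.symm, h.kl.symm, h.ik⟩
  have h5 : PP s U j l m q := F.thmC' hD h2 hc
  rcases h5.2 with h6 | h6
  · rcases F.delta hD h6 h2 h1 with h7 | h7
    · exact Or.inl h7
    · exact Or.inr (Or.inl h7)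
  · have h7 : q * s m ∈ U j l := mul_mem h2 (F.sU h.jl h.jm.symm h.lm.symm)
    have h8 : q * s m ∈ U i k := mul_mem h1 (F.sU h.ik h.im.symm h.km.symm)
    rcases F.delta hD h6 h7 h8 with h9 | h9
    · right; right; left
      rw [← F.s_mul_cancel m q, h9, one_mul]
    · right; right; right
      rw [← F.s_mul_cancel m q, h9, F.rel5 h]

theorem sl_ne (h : D5 i j k l m) : s l ≠ s i * s k := by
  intro h1
  have h2 : s i * s k ∈ U i j := h1 ▸ F.sU h.ij h.il.symm h.jl.symm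
  exact F.n_ne h.ij h.ik.symm h.jk.symm h2

/-- (3.6) `[U i k, U j l]` -/
theorem comm_disj (h : D5 i j k l m) {y y2 : G} (hy : y ∈ U i k) (hy2 : y2 ∈ U j l) :
    cm y2 y = 1 ∨ cm y2 y = s i * s k ∨ cm y2 y = s m ∨ cm y2 y = s j * s l := by
  have hyK := F.UK h.ik hy
  have hy2K := F.UK h.jl hy2
  set y1 := cj (w i j) y2 with hy1
  have hy1m : y1 ∈ U i l := F.w2 h.ij h.il.symm h.jl.symm y2 hy2
  have hy1K := F.UK h.il hy1m
  have hq0 : y2 * y1 ∈ W i j := F.uuw h.ij h.jl hy2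
  have hP := F.uq h.ij h.ik.symm h.jk.symm hy (F.WQ h.ij hq0) (mul_mem hy2K hy1K)
  set p := cm y1 y with hp
  set q := cm y2 y with hq
  have pm1 : p ∈ U i k := F.cm_right h.ik hy1K hy
  have pm2 : p ∈ U i l := F.cm_left h.il hy1m hyK
  have pK := F.UK h.ik pm1
  have qm1 : q ∈ U i k := F.cm_right h.ik hy2K hy
  have qm2 : q ∈ U j l := F.cm_left h.jl hy2 hyK
  have e1 : cj (y2 * y1) y = cj y2 p * (q * y) := by
    rw [← cj_cj, cj_eq_cm y1 y, cj_mul, cj_eq_cm y2 y]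
  have pm3 : cj y2 p ∈ U i k := F.KU h.ik y2 hy2K p pm1
  have e2 : y⁻¹ * cj (y2 * y1) y = cj y2 p * q := by
    rw [e1, F.Uab h.ik q qm1 y hy, ← mul_assoc (cj y2 p), F.Uab h.ik _ pm3 y hy]
    group
  rw [e2] at hP
  -- `cj y2 p ∈ {p, s m * p}`
  have hD : D5 i k l j m :=
    ⟨h.ik, h.il, h.ij, h.im, h.kl, h.jk.symm, h.km, h.jl.symm, h.lm, h.jm⟩
  have h6 : cm p y2 = 1 ∨ cm p y2 = s m :=
    F.cm_out hD pm2 (fun z hz => F.Uab h.ik p pm1 z hz) (Or.inr (Or.inr (F.Usym j l ▸ hy2)))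
  have h7 : ∃ e : G, (e = 1 ∨ e = s m) ∧ cj y2 p = p * e := by
    have e3 : cj y2 p = (cm p y2)⁻¹ * p := by unfold cj cm; group
    rcases h6 with h6 | h6
    · exact ⟨1, Or.inl rfl, by rw [e3, h6]; group⟩
    · exact ⟨s m, Or.inr rfl, by rw [e3, h6, F.s_inv, F.Ks m p pK]⟩
  obtain ⟨e, he, h7⟩ := h7
  have heij : e ∈ U i j := by
    rcases he with rfl | rfl
    · exact one_mem _
    · exact F.sU h.ij h.im.symm h.jm.symm
  have heik : e ∈ U i k := by
    rcases he with rfl | rfl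
    · exact one_mem _
    · exact F.sU h.ik h.im.symm h.km.symm
  -- q = z1 * z2
  have h8 : ∃ z1 z2 : G, q = z1 * z2 ∧ z1 ∈ U i k ∧ z1 ∈ U i l ∧ z2 ∈ U i k ∧ z2 ∈ U i j := by
    have e4 : q = p * (e⁻¹ * (cj y2 p * q)) := by
      have e5 : q = (cj y2 p)⁻¹ * (cj y2 p * q) := by group
      have e6 : (cj y2 p)⁻¹ = p * e⁻¹ := by
        rw [h7, mul_inv_rev, F.inv_self h.ik pm1, F.Uab h.ik e⁻¹ (inv_mem heik) p pm1]
      rw [e6, mul_assoc] at e5
      exact e5
    rcases hP.2 with h9 | h9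
    · exact ⟨p, _, e4, pm1, pm2, mul_mem (inv_mem heik) hP.1, mul_mem (inv_mem heij) h9⟩
    · refine ⟨p * s j, e⁻¹ * (cj y2 p * q * s j), ?_, mul_mem pm1 (F.sU h.ik h.ij.symm h.jk),
        mul_mem pm2 (F.sU h.il h.ij.symm h.jl), mul_mem (inv_mem heik)
          (mul_mem hP.1 (F.sU h.ik h.ij.symm h.jk)), mul_mem (inv_mem heij) h9⟩
      have hcom : s j * (e⁻¹ * (cj y2 p * q)) = e⁻¹ * (cj y2 p * q) * s j :=
        (F.Ks j _ (F.UK h.ik (mul_mem (inv_mem heik) hP.1))).symm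
      calc q = p * (e⁻¹ * (cj y2 p * q)) := e4
        _ = p * (s j * s j * (e⁻¹ * (cj y2 p * q))) := by rw [F.s_sq, one_mul]
        _ = p * s j * (s j * (e⁻¹ * (cj y2 p * q))) := by group
        _ = p * s j * (e⁻¹ * (cj y2 p * q) * s j) := by rw [hcom]
        _ = p * s j * (e⁻¹ * (cj y2 p * q * s j)) := by group
  obtain ⟨z1, z2, hz, m1, m2, m3, m4⟩ := h8
  -- `q` centralises `U j m`
  have hcq : Cen U q j m := by
    intro v hv
    have hvK := F.UK h.jm hv
    have c1 : Cen U z1 j m := F.pi_cen hD m1 m2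
    have hD2 : D5 i j k m l := h.d
    have c2 : cm z2 v = 1 ∨ cm z2 v = s l :=
      F.cm_out hD2 m3 (fun y hy => F.Uab h.ij z2 m4 y hy) (Or.inr (Or.inl hv))
    have e5 : cm q v = cm z2 v := by
      have e6 : cj q v = cm z2 v * v := by
        rw [hz, ← cj_cj, cj_eq_cm z2 v, cj_mul, cj_eq_of_comm (c1 v hv)]
        rcases c2 with c2 | c2
        · rw [c2, cj_one]
        · rw [c2, cj_eq_of_comm (F.Ks l z1 (F.UK h.ik m1))]
      rw [cm_eq, e6, mul_inv_cancel_right]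
    rcases F.q_out h qm1 qm2 hv with h9 | h9
    · exact cm_one_iff.1 h9
    · rcases c2 with c2 | c2
      · exact cm_one_iff.1 (e5.trans c2)
      · exact absurd (by rw [← c2, ← e5, h9]) (F.sl_ne h)
  exact F.q_cen h qm1 qm2 hcq

/-- (3.7) `[U i k, U i l]` -/
theorem comm_adj (h : D5 i j k l m) {y y1 : G} (hy : y ∈ U i k) (hy1 : y1 ∈ U i l) :
    cm y1 y = 1 ∨ cm y1 y = s m ∨ cm y1 y = s j ∨ cm y1 y = s m * s j := by
  have hyK := F.UK h.ik hy
  have hy1K := F.UK h.il hy1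
  set y2 := cj (w i j) y1 with hy2
  have hy2m : y2 ∈ U j l := F.w1 h.ij h.il.symm h.jl.symm y1 hy1
  have hy2K := F.UK h.jl hy2m
  have hq0 : y1 * y2 ∈ W i j := F.uuw h.ij h.il hy1
  have hP := F.uq h.ij h.ik.symm h.jk.symm hy (F.WQ h.ij hq0) (mul_mem hy1K hy2K)
  set p := cm y1 y with hp
  set q := cm y2 y with hq
  have pm1 : p ∈ U i k := F.cm_right h.ik hy1K hy
  have pm2 : p ∈ U i l := F.cm_left h.il hy1 hyK
  have qm1 : q ∈ U i k := F.cm_right h.ik hy2K hy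
  have hqv := F.comm_disj h hy hy2m
  have qK : ∀ g ∈ K, g * q = q * g := by
    intro g hg
    rcases hqv with e | e | e | e
    · rw [← hq] at e; rw [e, mul_one, one_mul]
    · rw [← hq] at e; rw [e]; exact F.n_comm i k hg
    · rw [← hq] at e; rw [e]; exact F.Ks m g hg
    · rw [← hq] at e; rw [e]; exact F.n_comm j l hg
  -- `q` or `q * s j` in `U i j`
  have hqj : q ∈ U i j ∨ q * s j ∈ U i j := by
    have hl : s l ∈ U i j := F.sU h.ij h.il.symm h.jl.symm
    have hm : s m ∈ U i j := F.sU h.ij h.im.symm h.jm.symm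
    have hjlj : s j * s l * s j = s l := by rw [F.s_comm j l, F.s_mul_cancel]
    rcases hqv with e | e | e | e
    · left; rw [← hq] at e; rw [e]; exact one_mem _
    · right
      rw [← hq] at e
      have e2 : s i * s k = s j * s l * s m := by
        rw [← F.rel5 h, F.s_mul_cancel]
      have e3 : s j * s l * s m * s j = s l * s m := by
        rw [mul_assoc (s j * s l), F.s_comm m j, ← mul_assoc, hjlj]
      rw [e, e2, e3]
      exact mul_mem hl hm
    · left; rw [← hq] at e; rw [e]; exact hm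
    · right; rw [← hq] at e; rw [e, hjlj]; exact hl
  have e1 : cj (y1 * y2) y = q * (p * y) := by
    rw [← cj_cj, cj_eq_cm y2 y, cj_mul, cj_eq_cm y1 y, cj_eq_of_comm (qK y1 hy1K)]
  have e2 : y⁻¹ * cj (y1 * y2) y = q * p := by
    rw [e1, F.Uab h.ik p pm1 y hy, ← mul_assoc q, ← qK y hyK]
    group
  rw [e2] at hP
  -- `p ∈ U i j` or `p * s j ∈ U i j`
  have pK := F.UK h.ik pm1
  have hpj : p ∈ U i j ∨ p * s j ∈ U i j := by
    have hpq : q * p = p * q := (qK p pK).symm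
    rcases hP.2 with h9 | h9
    · rcases hqj with h10 | h10
      · left
        have := mul_mem (inv_mem h10) h9
        rwa [inv_mul_cancel_left] at this
      · right
        have := mul_mem h9 (inv_mem h10)
        have e3 : q * p * (q * s j)⁻¹ = p * s j := by
          have e4 : s j * q⁻¹ = q⁻¹ * s j := by
            have e5 := qK (s j) (F.sK j)
            rw [eq_inv_mul_iff_mul_eq, ← mul_assoc, ← e5, mul_inv_cancel_right]
          rw [hpq, mul_inv_rev, F.s_inv, e4]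
          group
        rwa [e3] at this
    · rcases hqj with h10 | h10
      · right
        have := mul_mem (inv_mem h10) h9
        have e3 : q⁻¹ * (q * p * s j) = p * s j := by group
        rwa [e3] at this
      · left
        have := mul_mem h9 (inv_mem h10)
        have e3 : q * p * s j * (q * s j)⁻¹ = p := by
          rw [hpq]; group
        rwa [e3] at this
  rcases hpj with h9 | h9
  · rcases F.sig h ⟨h9, pm1, pm2⟩ with h10 | h10
    · exact Or.inl h10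
    · exact Or.inr (Or.inl h10)
  · rcases F.sig h ⟨h9, mul_mem pm1 (F.sU h.ik h.ij.symm h.jk),
      mul_mem pm2 (F.sU h.il h.ij.symm h.jl)⟩ with h10 | h10
    · right; right; left
      rw [← F.s_mul_cancel j p, h10, one_mul]
    · right; right; right
      rw [← F.s_mul_cancel j p, h10]

end Fr

end Cfsg.Agent.Omega.TTn.Di
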