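import Cfsg.Agent.Omega.TTn.Base
import Cfsg.Agent.Omega.TTn.DiCoreAbs

/-!
# #14261 (2.4) on `Base` (field `core` of `Di.Fr`, standard position)

`f ∈ W_n`, `l ∈ L₁`, `f ^ l` centralises `U_n` and `U_a`. Then `f ^ l ∈ Q_n`.
-/

set_option autoImplicit false

namespace Cfsg.Agent.Omega.TTn

open Subgroup Cfsg Cfsg.Agent.ZN Cfsg.Agent.ZN.ChoiceBase
open Cfsg.Agent.Omega.S5.Mod Cfsg.Agent.Omega.S5.TT
open Cfsg.Agent.Omega.S5.TT.Pos (na ns as sn n_ne s_ne a_ne n_ne_a n_ne_s a_ne_s e_sq' mem_C)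
open Cfsg.Agent.MinSimple.VModule (o2_isPGroup le_o2 o2_le le_normalizer_o2)

universe u

variable {G : Type u} [Group G]

/-- conjugation by `g` maps `C_G(⟨x, y ^ C_G(x)⟩)` to `C_G(⟨x', y' ^ C_G(x')⟩)` -/
theorem cent_UU_conj {x y x' y' g c : G} (hx : g⁻¹ * x' * g = x) (hy : g⁻¹ * y' * g = y)
    (hc : c ∈ centralizer (UU x y : Set G)) : g * c * g⁻¹ ∈ centralizer (UU x' y' : Set G) := by
  refine mem_centralizer_iff.2 fun u hu => ?_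
  have h1 := UU_conj g⁻¹ hu
  rw [inv_inv, hx, hy] at h1
  have h2 := mem_centralizer_iff.1 hc _ h1
  calc u * (g * c * g⁻¹) = g * (g⁻¹ * u * g * c) * g⁻¹ := by group
    _ = g * (c * (g⁻¹ * u * g)) * g⁻¹ := by rw [h2]
    _ = g * c * g⁻¹ * u := by group

theorem conj_inv_of_comm {g x : G} (h : g * x = x * g) : g⁻¹ * x * g = x := by
  rw [mul_assoc, ← h, inv_mul_cancel_left]

/-- the stabiliser of `x` normalises `C_G(⟨x, y ^ C_G(x)⟩)` -/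
theorem cent_UU_norm {x y g c : G} (hg : g * x = x * g) (hc : c ∈ centralizer (UU x y : Set G)) :
    g * c * g⁻¹ ∈ centralizer (UU x y : Set G) := by
  refine mem_centralizer_iff.2 fun u hu => ?_
  have hg' : g⁻¹ * x = x * g⁻¹ := by
    rw [inv_mul_eq_iff_eq_mul, ← mul_assoc, hg, mul_inv_cancel_right]
  have h1 := UU_norm hg' hu
  rw [inv_inv] at h1
  have h2 := mem_centralizer_iff.1 hc _ h1
  calc u * (g * c * g⁻¹) = g * (g⁻¹ * u * g * c) * g⁻¹ := by group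
    _ = g * (c * (g⁻¹ * u * g)) * g⁻¹ := by rw [h2]
    _ = g * c * g⁻¹ * u := by group

/-- a subgroup of `S₅` with the transpositions `(0 1), (1 4), (4 3), (3 2)` -/
theorem perm_top {H : Subgroup (Equiv.Perm (Fin 5))} (h1 : Equiv.swap 0 1 ∈ H) (h2 : Equiv.swap 1 4 ∈ H)
    (h3 : Equiv.swap 4 3 ∈ H) (h4 : Equiv.swap 3 2 ∈ H) : H = ⊤ := by
  have e4 : Equiv.swap (0 : Fin 5) 4 ∈ H := SubmonoidClass.swap_mem_trans H h1 h2
  have e3 : Equiv.swap (0 : Fin 5) 3 ∈ H := SubmonoidClass.swap_mem_trans H e4 h3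
  have e2 : Equiv.swap (0 : Fin 5) 2 ∈ H := SubmonoidClass.swap_mem_trans H e3 h4
  have e0 : ∀ i : Fin 5, Equiv.swap 0 i ∈ H := by
    intro i
    fin_cases i
    · change Equiv.swap (0 : Fin 5) 0 ∈ H
      rw [Equiv.swap_self]; exact one_mem H
    · exact h1
    · exact e2
    · exact e3
    · exact e4
  rw [eq_top_iff, ← Equiv.Perm.closure_isSwap, closure_le]
  rintro _ ⟨i, j, -, rfl⟩
  refine SubmonoidClass.swap_mem_trans H (b := 0) ?_ (e0 j)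
  rw [Equiv.swap_comm]
  exact e0 i

namespace Base

variable {S : Sylow 2 G} {V₁ V₂ L₁ L₂ : Subgroup G} {M₁ : FiveMod V₁ L₁} {M₂ : FiveMod V₂ L₂} {h : G}
  (b : Base S M₁ M₂ h)
include b

/-- `C_G(U_n U_a)` -/
abbrev OO (M₁ : FiveMod V₁ L₁) : Subgroup G :=
  centralizer (UU (M₁.e nn) (M₁.e aa) : Set G) ⊓ centralizer (UU (M₁.e aa) (M₁.e nn) : Set G)

omit b in
theorem OO_norm [Finite G] {g : G} (hn : g * M₁.e nn = M₁.e nn * g) (ha : g * M₁.e aa = M₁.e aa * g) :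
    g ∈ normalizer (OO M₁ : Set G) :=
  DiCoreAbs.mem_norm_of fun _ hx => mem_inf.2 ⟨cent_UU_norm hn hx.1, cent_UU_norm ha hx.2⟩

omit b in
theorem OO_tt [Finite G] {g : G} (hg : M₁.Ind g tt) : g ∈ normalizer (OO M₁ : Set G) := by
  have h1 : g⁻¹ * M₁.e aa * g = M₁.e nn := by rw [← Dih.tt_n hg]; group
  have h2 : g⁻¹ * M₁.e nn * g = M₁.e aa := by rw [← Dih.tt_a hg]; group
  exact DiCoreAbs.mem_norm_of fun _ hx => mem_inf.2 ⟨cent_UU_conj h2 h1 hx.2, cent_UU_conj h1 h2 hx.1⟩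

/-- `W_a ^ C_G(n)` and `Q_n` -/
def FF (V₁ V₂ : Subgroup G) (M₁ : FiveMod V₁ L₁) : Set G :=
  {x | ∃ g, g * M₁.e nn = M₁.e nn * g ∧ ∃ w ∈ WW V₁ V₂ (M₁.e aa), x = g * w * g⁻¹} ∪
    {x | x ∈ Q (M₁.e nn)}

variable [Finite G]

theorem gen_le : L₁ ≤ closure (FF V₁ V₂ M₁ ∪ (normalizer (OO M₁ : Set G) : Set G)) := by
  set K₀ := closure (FF V₁ V₂ M₁ ∪ (normalizer (OO M₁ : Set G) : Set G)) with hK₀
  let H : Subgroup (Equiv.Perm (Fin 5)) :=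
    { carrier := {p | ∃ g ∈ K₀, M₁.Ind g p}
      one_mem' := ⟨1, one_mem _, M₁.ind_one⟩
      mul_mem' := by
        rintro p q ⟨g, hg, hi⟩ ⟨g', hg', hi'⟩
        exact ⟨g * g', mul_mem hg hg', hi.mul hi'⟩
      inv_mem' := by
        rintro p ⟨g, hg, hi⟩
        exact ⟨g⁻¹, inv_mem hg, hi.inv⟩ }
  obtain ⟨w, hw, hwi⟩ := b.exists_move_a₁
  have e1 : Equiv.swap 3 2 ∈ H := by
    refine ⟨w, subset_closure (Or.inl (Or.inl ⟨1, by rw [one_mul, mul_one], w, hw, by group⟩)), ?_⟩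
    rw [Equiv.swap_comm]; exact hwi
  have e2 : Equiv.swap 4 3 ∈ H := by
    obtain ⟨g, -, hg⟩ := M₁.exists_lift (Equiv.swap 2 4)
    refine ⟨g * w * g⁻¹, subset_closure (Or.inl (Or.inl ⟨g, (hg.commute_iff _).2 (Or.inl (by decide)), w, hw,
      rfl⟩)), ?_⟩
    have h1 := (hg.mul hwi).mul hg.inv
    rwa [show Equiv.swap (2 : Fin 5) 4 * Equiv.swap 2 3 * (Equiv.swap 2 4)⁻¹ = Equiv.swap 4 3 by decide] at h1
  obtain ⟨k, hkS, hk⟩ := b.dih₁.exists_swap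
  have e0 : tt ∈ H := ⟨k, subset_closure (Or.inr (OO_tt hk)), hk⟩
  have e3 : Equiv.swap 1 4 ∈ H := by
    have h1 := H.mul_mem (H.mul_mem e0 e2) (H.inv_mem e0)
    rwa [show tt * Equiv.swap 4 3 * tt⁻¹ = Equiv.swap 1 4 by decide] at h1
  have e4 : Equiv.swap 0 1 ∈ H := by
    have h1 := H.mul_mem (H.mul_mem e0 e1) (H.inv_mem e0)
    rwa [show tt * Equiv.swap 3 2 * tt⁻¹ = Equiv.swap 0 1 by decide] at h1
  have hH := perm_top e4 e3 e2 e1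
  intro l hl
  obtain ⟨p, hp⟩ := M₁.exists_ind hl
  obtain ⟨g, hg, hi⟩ : p ∈ H := by rw [hH]; exact mem_top _
  have h1 := hp.mul hi.inv
  rw [mul_inv_cancel] at h1
  have h2 := FiveMod.ind_one_iff.1 h1
  have h3 : l * g⁻¹ ∈ K₀ := by
    refine subset_closure (Or.inr (OO_norm ?_ ?_))
    · exact (mem_centralizer_iff.1 h2 _ (M₁.e_mem _)).symm
    · exact (mem_centralizer_iff.1 h2 _ (M₁.e_mem _)).symm
  have h4 := mul_mem h3 hg
  rwa [inv_mul_cancel_right] at h4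

/-- **(2.4)** -/
theorem core_std {l f : G} (hl : l ∈ L₁) (hf : f ∈ WW V₁ V₂ (M₁.e nn))
    (h1 : ∀ y ∈ UU (M₁.e nn) (M₁.e aa), l * f * l⁻¹ * y = y * (l * f * l⁻¹))
    (h2 : ∀ y ∈ UU (M₁.e aa) (M₁.e nn), l * f * l⁻¹ * y = y * (l * f * l⁻¹)) :
    l * f * l⁻¹ ∈ Q (M₁.e nn) := by
  have hWT : ∀ {w : G}, w ∈ WW V₁ V₂ (M₁.e aa) → w * M₁.e nn = M₁.e nn * w := fun hw =>
    mem_C.1 (b.Qa_le_T (b.WWa_le_Qa hw)).2
  have hCN : centralizer (UU (M₁.e nn) (M₁.e aa) : Set G) ≤ centralizer ({M₁.e nn} : Set G) :=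
    b.centralizer_UU_le.trans inf_le_left
  have hCa : ∀ {x : G}, x ∈ centralizer (UU (M₁.e nn) (M₁.e aa) : Set G) → x * M₁.e aa = M₁.e aa * x :=
    fun hx => mem_C.1 (b.centralizer_UU_le hx).2
  have hQf : f ∈ Q (M₁.e nn) := b.WW_le_Q hf
  obtain ⟨k, hk⟩ := o2_isPGroup _ ⟨f, hQf⟩
  have hk' : f ^ 2 ^ k = 1 := congrArg Subtype.val hk
  refine DiCoreAbs.core_abs (N := centralizer ({M₁.e nn} : Set G))
    (C := centralizer (UU (M₁.e nn) (M₁.e aa) : Set G)) (O := OO M₁) (L := L₁) (F := FF V₁ V₂ M₁) hCN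
    b.normalizer_centralizer_UU inf_le_left ?_ ?_ ?_ ?_ (b.gen_le) hl (Or.inr hQf) rfl ?_ (k := k) ?_
  · intro g hg
    exact OO_norm (mem_C.1 (hCN hg)) (hCa hg)
  · intro g hg
    exact OO_norm (mem_C.1 (b.Q_le_T hg).2) (b.a_comm_Q hg)
  · rintro _ (⟨g, hg, w, hw, rfl⟩ | hx)
    · exact mul_mem (mul_mem (mem_C.2 hg) (mem_C.2 (hWT hw))) (inv_mem (mem_C.2 hg))
    · exact o2_le _ hx
  · rintro _ (⟨g, hg, w, hw, rfl⟩ | hx) c hc
    · have hc' : g⁻¹ * c * g ∈ centralizer (UU (M₁.e nn) (M₁.e aa) : Set G) := by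
        have hg' : g⁻¹ * M₁.e nn = M₁.e nn * g⁻¹ := by
          rw [inv_mul_eq_iff_eq_mul, ← mul_assoc, hg, mul_inv_cancel_right]
        have := cent_UU_norm hg' hc.1
        rwa [inv_inv] at this
      set c' := g⁻¹ * c * g with hc'd
      have h3 : w * c' * w⁻¹ * c'⁻¹ ∈ Q (M₁.e nn) := by
        refine b.WWa_inf_centralizer_le (mem_inf.2 ⟨?_, ?_⟩)
        · have h4 := WW_norm (hCa hc') (inv_mem hw)
          have h5 : w * c' * w⁻¹ * c'⁻¹ = w * (c' * w⁻¹ * c'⁻¹) := by group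
          rw [h5]
          exact mul_mem hw h4
        · exact mul_mem (cent_UU_norm (hWT hw) hc') (inv_mem hc')
      have h4 := b.Q_conj hg h3
      have h5 : g * (w * c' * w⁻¹ * c'⁻¹) * g⁻¹ = g * w * g⁻¹ * c * (g * w * g⁻¹)⁻¹ * c⁻¹ := by
        rw [hc'd]; group
      rwa [h5] at h4
    · rename_i x
      have h3 := b.Q_conj (mem_C.1 (hCN hc.1)) (inv_mem hx)
      have h4 : x * c * x⁻¹ * c⁻¹ = x * (c * x⁻¹ * c⁻¹) := by group
      rw [h4]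
      exact mul_mem hx h3
  · exact mem_inf.2 ⟨mem_centralizer_iff.2 fun y hy => (h1 y hy).symm,
      mem_centralizer_iff.2 fun y hy => (h2 y hy).symm⟩
  · have h3 : (l * f * l⁻¹) ^ 2 ^ k = l * f ^ 2 ^ k * l⁻¹ := conj_pow
    rw [h3, hk', mul_one, mul_inv_cancel]

end Base

end Cfsg.Agent.Omega.TTn
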