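import Mathlib

/-!
# Transvections over `F₂` with a totally isotropic line of centres (helper439, #14261 §4, §5)

`X` a finite `F₂`-space spanned by the orbit `𝒱` of `a` under `Γ`; `Has τ v`: some element of `Γ`
acts as the transvection `y ↦ y + τ(y) v`.  `Λ` is a nonzero group of functionals of transvections
with centre `a`, invariant under the stabiliser of `a` and killing `a, b`; some elements of `Γ`
induce the transpositions `(a b)` and `(a a+b)` on the line `{a, b, a+b}`.  THEN there is exactly one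
transvection for every centre (`uniq`), and (`kill`) if `B₄, B₅` are alternating and all maps
`y ↦ y + B₄(y,z) b + B₅(y,z) a` come from `Γ`, then `B₄ = B₅ = 0`.
-/

set_option autoImplicit false

namespace Cfsg.Agent.Omega.TTn.DiKill

variable {X : Type*} [AddCommGroup X] [Module (ZMod 2) X] {Γ : Type*} [Group Γ]

/-- functionals -/
abbrev Fn (X : Type*) [AddCommGroup X] [Module (ZMod 2) X] := X →ₗ[ZMod 2] ZMod 2

theorem z2 (t : ZMod 2) : t = 0 ∨ t = 1 := by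
  revert t; decide

theorem z2' {t : ZMod 2} (h : t ≠ 0) : t = 1 := (z2 t).resolve_left h

theorem add_self (x : X) : x + x = 0 := by
  have h : ((1 : ZMod 2) + 1) • x = 0 := by
    have : (1 : ZMod 2) + 1 = 0 := by decide
    rw [this, zero_smul]
  rwa [add_smul, one_smul] at h

theorem add_self_fn (f : Fn X) : f + f = 0 := add_self f

theorem zadd_self (t : ZMod 2) : t + t = 0 := by revert t; decide

/-- A linear action. -/
structure Act (Γ X : Type*) [Group Γ] [AddCommGroup X] [Module (ZMod 2) X] where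
  ρ : Γ → X →ₗ[ZMod 2] X
  one : ∀ x, ρ 1 x = x
  mul : ∀ g h x, ρ (g * h) x = ρ g (ρ h x)

variable (A : Act Γ X)

namespace Act

theorem inv_l (g : Γ) (x : X) : A.ρ g⁻¹ (A.ρ g x) = x := by
  rw [← A.mul, inv_mul_cancel, A.one]

theorem inv_r (g : Γ) (x : X) : A.ρ g (A.ρ g⁻¹ x) = x := by
  rw [← A.mul, mul_inv_cancel, A.one]

/-- the transvection `y ↦ y + τ(y) v` is in the image of `Γ` -/
def Has (τ : Fn X) (v : X) : Prop := ∃ g, ∀ y, A.ρ g y = y + τ y • v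

/-- `τ ∈ Λ*_v` -/
def In (τ : Fn X) (v : X) : Prop := τ v = 0 ∧ A.Has τ v

/-- orbit -/
def Orb (a v : X) : Prop := ∃ g, A.ρ g a = v

variable {A}

theorem Has.conj {τ : Fn X} {v : X} (h : A.Has τ v) (k : Γ) :
    A.Has (τ ∘ₗ A.ρ k⁻¹) (A.ρ k v) := by
  obtain ⟨g, hg⟩ := h
  refine ⟨k * g * k⁻¹, fun y => ?_⟩
  rw [A.mul, A.mul, hg, map_add, A.inv_r, map_smul]
  rfl

theorem In.conj {τ : Fn X} {v : X} (h : A.In τ v) (k : Γ) :
    A.In (τ ∘ₗ A.ρ k⁻¹) (A.ρ k v) := by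
  refine ⟨?_, h.2.conj k⟩
  change τ (A.ρ k⁻¹ (A.ρ k v)) = 0
  rw [A.inv_l]; exact h.1

theorem In.conj' {τ : Fn X} {v : X} {k : Γ} (h : A.In τ (A.ρ k v)) :
    A.In (τ ∘ₗ A.ρ k) v := by
  have h1 := h.conj k⁻¹
  rw [A.inv_l, inv_inv] at h1
  exact h1

theorem In.zero (v : X) : A.In (0 : Fn X) v :=
  ⟨rfl, 1, fun y => by rw [A.one, LinearMap.zero_apply, zero_smul, add_zero]⟩

theorem In.add {τ τ' : Fn X} {v : X} (h : A.In τ v) (h' : A.In τ' v) : A.In (τ + τ') v := by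
  obtain ⟨h1, g, hg⟩ := h
  obtain ⟨h1', g', hg'⟩ := h'
  refine ⟨by rw [LinearMap.add_apply, h1, h1', add_zero], g * g', fun y => ?_⟩
  rw [A.mul, hg', map_add, hg, map_smul, hg, h1, zero_smul, add_zero, LinearMap.add_apply, add_smul]
  abel

/-- same functional, two centres -/
theorem In.centre {τ : Fn X} {v v' : X} (h : A.In τ v) (h' : A.In τ v') : A.In τ (v + v') := by
  obtain ⟨h1, g, hg⟩ := h
  obtain ⟨h1', g', hg'⟩ := h'
  refine ⟨by rw [map_add, h1, h1', add_zero], g * g', fun y => ?_⟩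
  rw [A.mul, hg', map_add, hg, map_smul, hg, h1', zero_smul, add_zero, smul_add]
  abel

/-- the basic computation -/
theorem In.move {τ τ' : Fn X} {v v' : X} (h : A.In τ v) (hv : τ v' = 0) (h' : A.In τ' v')
    (hv' : τ' v = 1) : A.In τ v' := by
  obtain ⟨h1', g', hg'⟩ := h'
  have h2 : ∀ y, A.ρ g'⁻¹ y = y + τ' y • v' := by
    intro y
    have h3 : y = A.ρ g' (y + τ' y • v') := by
      rw [map_add, hg', map_smul, hg', h1', zero_smul, add_zero, add_assoc, ← add_smul, zadd_self,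
        zero_smul, add_zero]
    conv_lhs => rw [h3]
    rw [A.inv_l]
  have h4 := h.conj g'
  have h5 : τ ∘ₗ A.ρ g'⁻¹ = τ := by
    ext y
    change τ (A.ρ g'⁻¹ y) = τ y
    rw [h2, map_add, map_smul, hv, smul_zero, add_zero]
  rw [h5, hg', hv', one_smul] at h4
  have h6 := h.centre h4
  rwa [← add_assoc, add_self, zero_add] at h6

variable (A) in
theorem Orb.conj {a v : X} (h : A.Orb a v) (k : Γ) : A.Orb a (A.ρ k v) := by
  obtain ⟨g, rfl⟩ := h
  exact ⟨k * g, A.mul _ _ _⟩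

variable (A) in
theorem Orb.trans {a v v' : X} (h : A.Orb a v) (h' : A.Orb a v') : ∃ k, A.ρ k v = v' := by
  obtain ⟨g, rfl⟩ := h
  obtain ⟨g', rfl⟩ := h'
  exact ⟨g' * g⁻¹, by rw [A.mul, A.inv_l]⟩

/-- if `Λ*_v ⊆ Λ*_{v'}` for conjugate `v, v'`, they are equal -/
theorem eq_of_sub [Finite X] {a v v' : X} (h : A.Orb a v) (h' : A.Orb a v')
    (hs : ∀ τ, A.In τ v → A.In τ v') {τ : Fn X} (hτ : A.In τ v') : A.In τ v := by
  obtain ⟨k, rfl⟩ := Orb.trans A h h'
  have : Finite (Fn X) := by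
    have : Finite (X → ZMod 2) := inferInstance
    exact Finite.of_injective (fun f : Fn X => (f : X → ZMod 2)) DFunLike.coe_injective
  have h1 : {τ : Fn X | A.In τ v}.ncard = {τ : Fn X | A.In τ (A.ρ k v)}.ncard := by
    refine Set.ncard_congr (fun τ _ => τ ∘ₗ A.ρ k⁻¹) ?_ ?_ ?_
    · intro τ h; exact In.conj h k
    · intro τ τ' _ _ h
      ext y
      have := congrArg (fun f : Fn X => f (A.ρ k y)) h
      simpa [A.inv_l] using this
    · intro τ h
      refine ⟨τ ∘ₗ A.ρ k, In.conj' h, ?_⟩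
      ext y
      change τ (A.ρ k (A.ρ k⁻¹ y)) = τ y
      rw [A.inv_r]
  have h2 : {τ : Fn X | A.In τ v} = {τ : Fn X | A.In τ (A.ρ k v)} :=
    Set.eq_of_subset_of_ncard_le (fun τ h => hs τ h) h1.symm.le (Set.toFinite _)
  have h3 : τ ∈ {τ : Fn X | A.In τ (A.ρ k v)} := hτ
  rw [← h2] at h3
  exact h3

/-- SYMMETRY (4.1) -/
theorem symm [Finite X] {a v v' : X} (h : A.Orb a v) (h' : A.Orb a v')
    (hk : ∀ τ, A.In τ v → τ v' = 0) {τ : Fn X} (hτ : A.In τ v') : τ v = 0 := by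
  by_contra hne
  have h1 := z2' hne
  have h2 : ∀ σ, A.In σ v → A.In σ v' := fun σ hσ => hσ.move (hk σ hσ) hτ h1
  have h3 := eq_of_sub h h' h2 hτ
  exact hne h3.1

/-- CLOSURE (4.2) -/
theorem closure [Finite X] {a v v' : X} (h : A.Orb a v) (h' : A.Orb a v') {σ τ : Fn X}
    (hσ : A.In σ v) (hσ' : σ v' ≠ 0) (hτ : A.In τ v) (hτ' : τ v' = 0) : A.In τ v' := by
  have h1 : ∃ τ', A.In τ' v' ∧ τ' v = 1 := by
    by_contra hc
    push Not at hc
    exact hσ' (symm h' h (fun τ' hh => (z2 _).resolve_right (hc τ' hh)) hσ)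
  obtain ⟨τ', h2, h3⟩ := h1
  exact hτ.move hτ' h2 h3

/-- a functional vanishing on the orbit is zero -/
theorem fn_zero {a : X} (hsp : ∀ f : Fn X, (∀ v, A.Orb a v → f v = 0) → f = 0)
    {f : Fn X} (hf : f ≠ 0) : ∃ v, A.Orb a v ∧ f v = 1 := by
  by_contra hc
  push Not at hc
  exact hf (hsp f fun v hv => (z2 _).resolve_right (hc v hv))

end Act

/-- The hypotheses. -/
structure Dat (A : Act Γ X) (a b : X) (Λ : Fn X → Prop) : Prop where
  span : ∀ f : Fn X, (∀ v, A.Orb a v → f v = 0) → f = 0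
  swap₁ : ∃ g, A.ρ g a = b ∧ A.ρ g b = a
  swap₂ : ∃ g, A.ρ g a = a + b ∧ A.ρ g b = b
  in_ : ∀ τ, Λ τ → A.In τ a
  kb : ∀ τ, Λ τ → τ b = 0
  ne : ∃ τ, Λ τ ∧ τ ≠ 0
  stab : ∀ τ, Λ τ → ∀ g, A.ρ g a = a → Λ (τ ∘ₗ A.ρ g)
  add : ∀ τ τ', Λ τ → Λ τ' → Λ (τ + τ')

namespace Dat

variable {A} {a b : X} {Λ : Fn X → Prop} (D : Dat A a b Λ)

include D

theorem orb_a : A.Orb a a := ⟨1, A.one a⟩

theorem orb_b : A.Orb a b := by
  obtain ⟨g, h, _⟩ := D.swap₁
  exact ⟨g, h⟩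

theorem orb_c : A.Orb a (a + b) := by
  obtain ⟨g, h, _⟩ := D.swap₂
  exact ⟨g, h⟩

/-- (4.3): `Λ*_a = Λ_a` -/
theorem all [Finite X] {σ : Fn X} (hσ : A.In σ a) : Λ σ := by
  obtain ⟨τ, hτ, hne⟩ := D.ne
  obtain ⟨v, hv, h1⟩ := A.fn_zero D.span hne
  have key : ∀ τ₀, A.In τ₀ a → τ₀ v = 0 → Λ τ₀ := by
    intro τ₀ h0 h00
    have h2 : A.In τ₀ v := Act.closure D.orb_a hv (D.in_ τ hτ) (by rw [h1]; exact one_ne_zero) h0 h00
    obtain ⟨_, g, hg⟩ := h2
    have h3 : A.ρ g a = a := by rw [hg, h0.1, zero_smul, add_zero]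
    have h4 := D.stab τ hτ g h3
    have h5 : τ ∘ₗ A.ρ g = τ + τ₀ := by
      ext y
      change τ (A.ρ g y) = τ y + τ₀ y
      rw [hg, map_add, map_smul, h1, smul_eq_mul, mul_one]
    rw [h5] at h4
    have h6 := D.add _ _ hτ h4
    rwa [← add_assoc, add_self_fn, zero_add] at h6
  rcases z2 (σ v) with h | h
  · exact key σ hσ h
  · have h2 := key (σ + τ) (hσ.add (D.in_ τ hτ)) (by rw [LinearMap.add_apply, h, h1]; decide)
    have h3 := D.add _ _ h2 hτ
    rwa [add_assoc, add_self_fn, add_zero] at h3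

theorem kill_ab [Finite X] {σ : Fn X} (hσ : A.In σ a) : σ b = 0 := D.kb _ (D.all hσ)

theorem kill_ac [Finite X] {σ : Fn X} (hσ : A.In σ a) : σ (a + b) = 0 := by
  rw [map_add, hσ.1, D.kill_ab hσ, add_zero]

theorem kill_ba [Finite X] {σ : Fn X} (hσ : A.In σ b) : σ a = 0 := by
  obtain ⟨g, h1, h2⟩ := D.swap₁
  have h3 : A.In (σ ∘ₗ A.ρ g) a := Act.In.conj' (by rwa [h1])
  have h4 := D.kill_ab h3
  change σ (A.ρ g b) = 0 at h4
  rwa [h2] at h4

theorem kill_cb [Finite X] {σ : Fn X} (hσ : A.In σ (a + b)) : σ b = 0 := by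
  obtain ⟨g, h1, h2⟩ := D.swap₂
  have h3 : A.In (σ ∘ₗ A.ρ g) a := Act.In.conj' (by rwa [h1])
  have h4 := D.kill_ab h3
  change σ (A.ρ g b) = 0 at h4
  rwa [h2] at h4

theorem kill_ca [Finite X] {σ : Fn X} (hσ : A.In σ (a + b)) : σ a = 0 := by
  have h1 := hσ.1
  rw [map_add, D.kill_cb hσ, add_zero] at h1
  exact h1

/-- `v` not killed by `Λ*_a`; `w, w'` the other two centres with `Λ*_v` killing `w` and not `w'` -/
theorem step [Finite X] {v w w' : X} (hv : A.Orb a v) (hw : A.Orb a w) (hw' : A.Orb a w')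
    (haw : ∀ σ, A.In σ a → σ w = 0) (haw' : ∀ σ, A.In σ a → σ w' = 0) (hsum : a + w' = w)
    {τ' : Fn X} (h1 : A.In τ' v) (h2 : τ' a = 1) (h3 : τ' w' = 1) :
    (∀ τ₀, A.In τ₀ a → τ₀ v = 0 → A.In τ₀ w ∧ A.In τ₀ w') ∧ (∀ σ, A.In σ w → σ v = 0) := by
  have h4 : τ' w = 0 := by rw [← hsum, map_add, h2, h3]; decide
  have hn : τ' a ≠ 0 := by rw [h2]; exact one_ne_zero
  have hn' : τ' w' ≠ 0 := by rw [h3]; exact one_ne_zero
  have h5 : ∀ τ'', A.In τ'' v → τ'' a = 0 → A.In τ'' a :=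
    fun τ'' h h0 => Act.closure hv D.orb_a h1 hn h h0
  have h6 : ∀ τ'', A.In τ'' v → τ'' w = 0 := by
    intro τ'' h
    rcases z2 (τ'' a) with h0 | h0
    · exact haw _ (h5 _ h h0)
    · have h7 := haw _ (h5 (τ'' + τ') (h.add h1) (by rw [LinearMap.add_apply, h0, h2]; decide))
      rwa [LinearMap.add_apply, h4, add_zero] at h7
  refine ⟨fun τ₀ h0 h00 => ?_, fun σ hσ => Act.symm hv hw h6 hσ⟩
  have hva : ∃ σ, A.In σ a ∧ σ v ≠ 0 := by
    by_contra hc
    push Not at hc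
    exact hn (Act.symm D.orb_a hv hc h1)
  obtain ⟨σ, hs1, hs2⟩ := hva
  have h8 : A.In τ₀ v := Act.closure D.orb_a hv hs1 hs2 h0 h00
  have h9 : A.In τ₀ w' := Act.closure hv hw' h1 hn' h8 (haw' _ h0)
  refine ⟨?_, h9⟩
  rw [← hsum]
  exact h0.centre h9

/-- (4.4) first part: `Λ₁ = Λ*_a ∩ Λ*_b ∩ Λ*_c = 0` -/
theorem one_zero [Finite X] {τ₀ : Fn X} (ha : A.In τ₀ a) (hb : A.In τ₀ b)
    (hc : A.In τ₀ (a + b)) : τ₀ = 0 := by
  refine D.span τ₀ fun v hv => ?_
  by_contra hne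
  have hva := hne
  -- `v` is not killed by `Λ*_a`
  have h1 : ∃ τ', A.In τ' v ∧ τ' a = 1 := by
    by_contra hh
    push Not at hh
    exact hne (Act.symm hv D.orb_a (fun τ' h => (z2 _).resolve_right (hh τ' h)) ha)
  obtain ⟨τ', h1, h2⟩ := h1
  rcases z2 (τ' b) with h3 | h3
  · have h4 : τ' (a + b) = 1 := by rw [map_add, h2, h3, add_zero]
    have h5 := (D.step hv D.orb_b D.orb_c (fun σ h => D.kill_ab h) (fun σ h => D.kill_ac h)
      (by rw [← add_assoc, add_self, zero_add]) h1 h2 h4).2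
    exact hne (h5 _ hb)
  · have h5 := (D.step hv D.orb_c D.orb_b (fun σ h => D.kill_ac h) (fun σ h => D.kill_ab h)
      rfl h1 h2 h3).2
    exact hne (h5 _ hc)

theorem zero_of [Finite X] {v : X} (hv : A.Orb a v) {σ : Fn X} (hσ : A.In σ a) (hσv : σ v ≠ 0)
    {τ₀ : Fn X} (h0 : A.In τ₀ a) (h00 : τ₀ v = 0) : τ₀ = 0 := by
  have h1 : ∃ τ', A.In τ' v ∧ τ' a = 1 := by
    by_contra hh
    push Not at hh
    exact hσv (Act.symm hv D.orb_a (fun τ' h => (z2 _).resolve_right (hh τ' h)) hσ)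
  obtain ⟨τ', h1, h2⟩ := h1
  rcases z2 (τ' b) with h3 | h3
  · have h4 : τ' (a + b) = 1 := by rw [map_add, h2, h3, add_zero]
    have h5 := (D.step hv D.orb_b D.orb_c (fun σ h => D.kill_ab h) (fun σ h => D.kill_ac h)
      (by rw [← add_assoc, add_self, zero_add]) h1 h2 h4).1 τ₀ h0 h00
    exact D.one_zero h0 h5.1 h5.2
  · have h5 := (D.step hv D.orb_c D.orb_b (fun σ h => D.kill_ac h) (fun σ h => D.kill_ab h)
      rfl h1 h2 h3).1 τ₀ h0 h00
    exact D.one_zero h0 h5.2 h5.1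

/-- (4.4): uniqueness of the transvection with centre `a` -/
theorem uniq_a [Finite X] {σ τ : Fn X} (hσ : A.In σ a) (hτ : A.In τ a) (h1 : σ ≠ 0) (h2 : τ ≠ 0) :
    σ = τ := by
  obtain ⟨v, hv, h3⟩ := A.fn_zero D.span h1
  have hn : σ v ≠ 0 := by rw [h3]; exact one_ne_zero
  have h4 : τ v ≠ 0 := fun h => h2 (D.zero_of hv hσ hn hτ h)
  have h5 : σ + τ = 0 := D.zero_of hv hσ hn (hσ.add hτ) (by
    rw [LinearMap.add_apply, h3, z2' h4]; decide)
  have h6 := congrArg (· + τ) h5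
  simpa [add_assoc, add_self_fn] using h6

/-- uniqueness for every centre in the orbit -/
theorem uniq [Finite X] {v : X} (hv : A.Orb a v) {σ τ : Fn X} (hσ : A.In σ v) (hτ : A.In τ v)
    (h1 : σ ≠ 0) (h2 : τ ≠ 0) : σ = τ := by
  obtain ⟨k, rfl⟩ := hv
  have key : ∀ f : Fn X, f ∘ₗ A.ρ k = 0 → f = 0 := by
    intro f hf
    ext y
    have := congrArg (fun g : Fn X => g (A.ρ k⁻¹ y)) hf
    simpa [A.inv_r] using this
  have h3 : σ ∘ₗ A.ρ k = τ ∘ₗ A.ρ k :=
    D.uniq_a hσ.conj' hτ.conj' (fun h => h1 (key _ h)) (fun h => h2 (key _ h))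
  ext y
  have := congrArg (fun g : Fn X => g (A.ρ k⁻¹ y)) h3
  simpa [A.inv_r] using this

theorem ex [Finite X] {v : X} (hv : A.Orb a v) : ∃ τ, A.In τ v ∧ τ ≠ 0 := by
  obtain ⟨k, rfl⟩ := hv
  obtain ⟨τ, h1, h2⟩ := D.ne
  refine ⟨τ ∘ₗ A.ρ k⁻¹, (D.in_ τ h1).conj k, fun h => h2 ?_⟩
  ext y
  have := congrArg (fun g : Fn X => g (A.ρ k y)) h
  simpa [A.inv_l] using this

/-- the form is symmetric -/
theorem form_symm [Finite X] {v v' : X} (hv : A.Orb a v) (hv' : A.Orb a v') {σ τ : Fn X}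
    (hσ : A.In σ v) (hτ : A.In τ v') (h1 : σ ≠ 0) (h2 : τ ≠ 0) : σ v' = τ v := by
  have key : ∀ {v v' : X}, A.Orb a v → A.Orb a v' → ∀ {σ τ : Fn X}, A.In σ v → A.In τ v' →
      σ ≠ 0 → τ ≠ 0 → σ v' = 0 → τ v = 0 := by
    intro v v' hv hv' σ τ hσ hτ h1 h2 h
    refine Act.symm hv hv' (fun f hf => ?_) hτ
    by_cases h0 : f = 0
    · rw [h0]; rfl
    · rw [D.uniq hv hf hσ h0 h1]; exact h
  rcases z2 (σ v') with h | h
  · rw [h, key hv hv' hσ hτ h1 h2 h]
  · rcases z2 (τ v) with h' | h'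
    · rw [key hv' hv hτ hσ h2 h1 h'] at h
      exact absurd h (by decide)
    · rw [h, h']

/-- additivity of `v ↦ τ_v` along an element of `Γ` acting as `y ↦ y + p(y) b + q(y) a` -/
theorem rel [Finite X] {p q : Fn X} {g : Γ} (hg : ∀ y, A.ρ g y = y + p y • b + q y • a)
    {φa φb : Fn X} (ha : A.In φa a) (hb : A.In φb b) (ha0 : φa ≠ 0) (hb0 : φb ≠ 0)
    {v : X} (hv : A.Orb a v) (v' : X) :
    p v' * φb v + p v * φb v' + q v' * φa v + q v * φa v' = 0 := by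
  obtain ⟨σ, hσ, hσ0⟩ := D.ex hv
  have h1 : A.In (σ ∘ₗ A.ρ g⁻¹) (A.ρ g v) := hσ.conj g
  have h2 : σ ∘ₗ A.ρ g⁻¹ ≠ 0 := by
    intro h
    apply hσ0
    ext y
    have := congrArg (fun f : Fn X => f (A.ρ g y)) h
    simpa [A.inv_l] using this
  have hgv : A.Orb a (A.ρ g v) := Act.Orb.conj A hv g
  have h3 : σ ∘ₗ A.ρ g⁻¹ = σ + p v • φb + q v • φa := by
    have h4 := D.span (σ ∘ₗ A.ρ g⁻¹ + (σ + p v • φb + q v • φa)) ?_
    · have h6 := congrArg (· + (σ + p v • φb + q v • φa)) h4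
      simpa only [add_assoc (σ ∘ₗ A.ρ g⁻¹), add_self_fn, add_zero, zero_add] using h6
    · intro u hu
      obtain ⟨υ, hυ, hυ0⟩ := D.ex hu
      have e1 := D.form_symm hgv hu h1 hυ h2 hυ0
      have e2 := D.form_symm hv hu hσ hυ hσ0 hυ0
      have e3 := D.form_symm D.orb_b hu hb hυ hb0 hυ0
      have e4 := D.form_symm D.orb_a hu ha hυ ha0 hυ0
      rw [LinearMap.add_apply, LinearMap.add_apply, LinearMap.add_apply, LinearMap.smul_apply,
        LinearMap.smul_apply, e1, e2, e3, e4, hg, map_add, map_add, map_smul, map_smul]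
      exact zadd_self _
  have h5 : (σ ∘ₗ A.ρ g⁻¹) (A.ρ g v') = σ v' := by
    change σ (A.ρ g⁻¹ (A.ρ g v')) = σ v'
    rw [A.inv_l]
  rw [h3, hg] at h5
  simp only [LinearMap.add_apply, LinearMap.smul_apply, map_add, map_smul, smul_eq_mul, ha.1, hb.1,
    D.kill_ab ha, D.kill_ba hb, mul_zero, add_zero] at h5
  have e2 := D.form_symm hv D.orb_b hσ hb hσ0 hb0
  have e3 := D.form_symm hv D.orb_a hσ ha hσ0 ha0
  rw [e2, e3] at h5
  generalize σ v' = x1 at h5
  generalize p v = x2 at h5 ⊢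
  generalize p v' = x3 at h5 ⊢
  generalize q v = x4 at h5 ⊢
  generalize q v' = x5 at h5 ⊢
  generalize φb v = x6 at h5 ⊢
  generalize φb v' = x7 at h5 ⊢
  generalize φa v = x8 at h5 ⊢
  generalize φa v' = x9 at h5 ⊢
  revert h5
  revert x1 x2 x3 x4 x5 x6 x7 x8 x9
  decide

omit D in
/-- two different nonzero functionals have a separating vector -/
theorem sep {f g : Fn X} (hf : f ≠ 0) (hfg : f ≠ g) : ∃ x, f x = 1 ∧ g x = 0 := by
  by_contra hc
  push Not at hc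
  have h1 : ∀ x, g x = 0 → f x = 0 := fun x hx => by
    by_contra h
    exact hc x (z2' h) hx
  by_cases hg : g = 0
  · exact hf (by ext x; exact h1 x (by rw [hg]; rfl))
  · have h2 : ∃ x₀, g x₀ = 1 := by
      by_contra hh
      push Not at hh
      exact hg (by ext x; exact (z2 _).resolve_right (hh x))
    obtain ⟨x₀, h2⟩ := h2
    have h3 : ∀ x, f x = g x * f x₀ := by
      intro x
      have h4 := h1 (x + g x • x₀) (by
        rw [map_add, map_smul, h2, smul_eq_mul, mul_one]; exact zadd_self _)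
      rw [map_add, map_smul, smul_eq_mul] at h4
      generalize f x = t at h4 ⊢
      generalize g x * f x₀ = t' at h4 ⊢
      revert t t'
      decide
    rcases z2 (f x₀) with h | h
    · exact hf (by ext x; change f x = 0; rw [h3, h, mul_zero])
    · exact hfg (by ext x; rw [h3, h, mul_one])

/-- the relation for all vectors -/
theorem rel' [Finite X] {p q : Fn X} {g : Γ} (hg : ∀ y, A.ρ g y = y + p y • b + q y • a)
    {φa φb : Fn X} (ha : A.In φa a) (hb : A.In φb b) (ha0 : φa ≠ 0) (hb0 : φb ≠ 0) (v v' : X) :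
    p v' * φb v + p v * φb v' + q v' * φa v + q v * φa v' = 0 := by
  have h1 := D.span (p v' • φb + φb v' • p + q v' • φa + φa v' • q) ?_
  · have h2 := congrArg (fun f : Fn X => f v) h1
    simp only [LinearMap.add_apply, LinearMap.smul_apply, smul_eq_mul, LinearMap.zero_apply] at h2
    rw [← h2]
    ring
  · intro u hu
    have h2 := D.rel hg ha hb ha0 hb0 hu v'
    simp only [LinearMap.add_apply, LinearMap.smul_apply, smul_eq_mul]
    rw [← h2]
    ring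

/-- **KILL** (§5) -/
theorem kill [Finite X] {p q : X → Fn X} (hp : ∀ z z' y, p (z + z') y = p z y + p z' y)
    (hq : ∀ z z' y, q (z + z') y = q z y + q z' y) (hp0 : ∀ z, p z z = 0) (hq0 : ∀ z, q z z = 0)
    (hg : ∀ z, ∃ g, ∀ y, A.ρ g y = y + p z y • b + q z y • a) (z y : X) :
    p z y = 0 ∧ q z y = 0 := by
  obtain ⟨φa, ha, ha0⟩ := D.ex D.orb_a
  obtain ⟨φb, hb, hb0⟩ := D.ex D.orb_b
  have hne : φa ≠ φb := by
    intro h
    apply ha0
    refine D.one_zero ha (h ▸ hb) ?_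
    exact ha.centre (h ▸ hb)
  obtain ⟨e5, h51, h50⟩ := sep ha0 hne
  obtain ⟨e4, h41, h40⟩ := sep hb0 hne.symm
  have R : ∀ z v v', p z v' * φb v + p z v * φb v' + q z v' * φa v + q z v * φa v' = 0 := by
    intro z v v'
    obtain ⟨g, h⟩ := hg z
    exact D.rel' h ha hb ha0 hb0 v v'
  have sp : ∀ z y, p z y = p y z := by
    intro z y
    have h1 := hp0 (z + y)
    rw [hp, map_add, map_add, hp0, hp0] at h1
    generalize p z y = t at h1 ⊢
    generalize p y z = t' at h1 ⊢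
    revert t t'; decide
  have sq : ∀ z y, q z y = q y z := by
    intro z y
    have h1 := hq0 (z + y)
    rw [hq, map_add, map_add, hq0, hq0] at h1
    generalize q z y = t at h1 ⊢
    generalize q y z = t' at h1 ⊢
    revert t t'; decide
  -- (i), (ii)
  have e1 : ∀ z y, p z y = p z e4 * φb y + q z e4 * φa y := by
    intro z y
    have h := R z e4 y
    rw [h41, h40] at h
    generalize p z y = t1 at h ⊢
    generalize p z e4 = t2 at h ⊢
    generalize q z y = t3 at h ⊢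
    generalize q z e4 = t4 at h ⊢
    generalize φb y = t5 at h ⊢
    generalize φa y = t6 at h ⊢
    revert t1 t2 t3 t4 t5 t6; decide
  have e2 : ∀ z y, q z y = p z e5 * φb y + q z e5 * φa y := by
    intro z y
    have h := R z e5 y
    rw [h51, h50] at h
    generalize p z y = t1 at h ⊢
    generalize p z e5 = t2 at h ⊢
    generalize q z y = t3 at h ⊢
    generalize q z e5 = t4 at h ⊢
    generalize φb y = t5 at h ⊢
    generalize φa y = t6 at h ⊢
    revert t1 t2 t3 t4 t5 t6; decide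
  have e3 : ∀ z, p z e5 = q z e4 := by
    intro z
    rw [e1 z e5, h50, h51, mul_zero, zero_add, mul_one]
  have p44 : p e4 e4 = 0 := hp0 _
  have p55 : p e5 e5 = 0 := hp0 _
  have q44 : q e4 e4 = 0 := hq0 _
  have q55 : q e5 e5 = 0 := hq0 _
  have p45 : p e4 e5 = 0 := by rw [e3, q44]
  have p54 : p e5 e4 = 0 := by rw [sp, p45]
  have q54 : q e5 e4 = 0 := by rw [← e3, p55]
  have q45 : q e4 e5 = 0 := by rw [sq, q54]
  have P4 : ∀ z, p z e4 = 0 := by
    intro z; rw [sp, e1 e4 z, p44, q44, zero_mul, zero_mul, add_zero]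
  have Q4 : ∀ z, q z e4 = 0 := by
    intro z; rw [sq, e2 e4 z, p45, q45, zero_mul, zero_mul, add_zero]
  have P5 : ∀ z, p z e5 = 0 := by
    intro z; rw [sp, e1 e5 z, p54, q54, zero_mul, zero_mul, add_zero]
  have Q5 : ∀ z, q z e5 = 0 := by
    intro z; rw [sq, e2 e5 z, p55, q55, zero_mul, zero_mul, add_zero]
  refine ⟨?_, ?_⟩
  · rw [e1, P4, Q4, zero_mul, zero_mul, add_zero]
  · rw [e2, P5, Q5, zero_mul, zero_mul, add_zero]

end Dat

end Cfsg.Agent.Omega.TTn.DiKill
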