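import Mathlib

/-!
# The Petersen graph configuration (#12894 (20))

`z 0, …, z 4` are commuting involutions with product `1` and no other relation (the singular vectors of
`O₄⁻(2)`); for a duad `x = {i, j}` and a letter `m ∉ x` an element `u x m` is given.
-/

set_option autoImplicit false

namespace Cfsg.Agent.Omega.TTn

open scoped commutatorElement

variable {G : Type*} [Group G]

/-- The Petersen configuration. -/
structure Pet (z : Fin 5 → G) (u : Sym2 (Fin 5) → Fin 5 → G) : Prop where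
  sq : ∀ i, z i * z i = 1
  comm : ∀ i j, z i * z j = z j * z i
  ne_one : ∀ i, z i ≠ 1
  ne : ∀ i j, i ≠ j → z i ≠ z j
  ne_mul : ∀ i j k, i ≠ j → i ≠ k → j ≠ k → z i * z j ≠ z k
  uz : ∀ x m k, u x m * z k = z k * u x m
  /-- (a) : an element centralising `V` acts on `U_x` inside `⟨(12), (34), (56)⟩`. -/
  act : ∀ i j k l m : Fin 5, [i, j, k, l, m].Nodup → ∀ g : G, (∀ t, g * z t = z t * g) →
    ∃ f : Fin 5 → G, (∀ t, f t = 1 ∨ f t = z t) ∧ ⁅g, u s(i, j) k⁆ = f l * f m ∧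
      ⁅g, u s(i, j) l⁆ = f k * f m ∧ ⁅g, u s(i, j) m⁆ = f k * f l
  /-- (b), disjoint duads. -/
  adj : ∀ i j k l m : Fin 5, [i, j, k, l, m].Nodup → ⁅u s(i, j) k, u s(k, l) i⁆ = z m
  adj_one : ∀ i j k l m t : Fin 5, [i, j, k, l, m].Nodup → t ≠ k → t ≠ l →
    ⁅u s(i, j) m, u s(k, l) t⁆ = 1
  /-- (c), duads with a common letter. -/
  tri : ∀ i j k l m : Fin 5, [i, j, k, l, m].Nodup → ⁅u s(i, j) k, u s(i, k) j⁆ = z l * z m
  ab : ∀ x m m', ⁅u x m, u x m'⁆ = 1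
  /-- elements of `C_n` which centralise `U_n` centralise `W_n / ⟨n⟩`. -/
  fin : ∀ i j k l m : Fin 5, [i, j, k, l, m].Nodup → ∀ g : G, (∀ t, g * z t = z t * g) →
    ⁅g, u s(i, j) k⁆ = 1 → ⁅g, u s(i, j) l⁆ = 1 → ⁅g, u s(i, j) m⁆ = 1 →
      ⁅g, u s(k, l) m⁆ = 1 ∨ ⁅g, u s(k, l) m⁆ = z i * z j

namespace Pet

variable {z : Fin 5 → G} {u : Sym2 (Fin 5) → Fin 5 → G}

theorem inv_z (h : Pet z u) (i : Fin 5) : (z i)⁻¹ = z i :=
  inv_eq_of_mul_eq_one_left (h.sq i)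

theorem cancel (h : Pet z u) {a : G} {i : Fin 5} (e : a * z i = z i) : a = 1 := by
  have h1 : a * z i = 1 * z i := by rw [e, one_mul]
  exact mul_right_cancel h1

/-- `⁅b, a⁆ = ⁅a, b⁆` if the value is a product of two `z`. -/
theorem swap (h : Pet z u) {a b c d : G} (hc : ∃ t, c = 1 ∨ c = z t) (hd : ∃ t, d = 1 ∨ d = z t)
    (e : ⁅a, b⁆ = c * d) : ⁅b, a⁆ = c * d := by
  rw [← commutatorElement_inv, e, mul_inv_rev]
  obtain ⟨t, ht⟩ := hc
  obtain ⟨t', ht'⟩ := hd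
  rcases ht with rfl | rfl <;> rcases ht' with rfl | rfl <;>
    simp [h.inv_z, h.comm t' t]

theorem R1 (h : Pet z u) {i j k l m : Fin 5} (hn : [i, j, k, l, m].Nodup) :
    ⁅u s(i, k) j, u s(i, j) l⁆ = z m := by
  have hn1 : [i, k, j, l, m].Nodup := by
    simp only [List.nodup_cons, List.mem_cons, List.not_mem_nil, or_false, not_or] at hn ⊢
    tauto
  simp only [List.nodup_cons, List.mem_cons, List.not_mem_nil, or_false, not_or,
    not_false_eq_true, List.nodup_nil, and_true] at hn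
  obtain ⟨⟨hij, hik, hil, him⟩, ⟨hjk, hjl, hjm⟩, ⟨hkl, hkm⟩, hlm⟩ := hn
  have hn0 : [i, j, k, l, m].Nodup := by
    simp only [List.nodup_cons, List.mem_cons, List.not_mem_nil, or_false, not_or,
      not_false_eq_true, List.nodup_nil, and_true]
    tauto
  obtain ⟨f, hf, h1, h2, h3⟩ := h.act i j k l m hn0 (u s(i, k) j) (h.uz _ _)
  obtain ⟨f', hf', h1', h2', h3'⟩ := h.act i k j l m hn1 (u s(i, j) l) (h.uz _ _)
  have h4 := h.tri i k j l m hn1
  rw [h1] at h4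
  have hfm : f m = z m := by
    rcases hf m with e | e
    · exfalso
      rw [e, mul_one] at h4
      rcases hf l with e' | e'
      · rw [e'] at h4
        exact h.ne l m hlm (mul_eq_one_iff_eq_inv.mp h4.symm |>.trans (h.inv_z m))
      · rw [e'] at h4
        exact h.ne_one m (mul_eq_left.mp h4.symm)
    · exact e
  have h5 : f k * f m = f' l * f' m := by
    rw [← h2, ← h1']
    exact (h.swap ⟨l, hf' l⟩ ⟨m, hf' m⟩ h1').trans h1'.symm
  rw [h2, hfm]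
  rw [hfm] at h5
  have hfk : f k = 1 := by
    rcases hf k with e | e
    · exact e
    · exfalso
      rw [e] at h5
      rcases hf' l with e1 | e1 <;> rcases hf' m with e2 | e2 <;> rw [e1, e2] at h5
      · rw [mul_one] at h5
        exact h.ne k m hkm (mul_eq_one_iff_eq_inv.mp h5 |>.trans (h.inv_z m))
      · rw [one_mul] at h5
        exact h.ne_one k (h.cancel h5)
      · rw [mul_one] at h5
        exact h.ne_mul k m l hkm hkl (Ne.symm hlm) h5
      · exact h.ne k l hkl (mul_right_cancel h5)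
  rw [hfk, one_mul]

theorem nodup_swap {i j k l m : Fin 5} (hn : [i, j, k, l, m].Nodup) : [i, k, j, l, m].Nodup := by
  simp only [List.nodup_cons, List.mem_cons, List.not_mem_nil, or_false, not_or] at hn ⊢
  tauto

theorem nodup_swap' {i j k l m : Fin 5} (hn : [i, j, k, l, m].Nodup) : [i, j, k, m, l].Nodup := by
  simp only [List.nodup_cons, List.mem_cons, List.not_mem_nil, or_false, not_or] at hn ⊢
  tauto

theorem R2 (h : Pet z u) {i j k l m : Fin 5} (hn : [i, j, k, l, m].Nodup) :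
    ⁅u s(i, k) l, u s(i, j) l⁆ = z m ∧ ⁅u s(i, k) l, u s(i, j) m⁆ = 1 := by
  have hn1 := nodup_swap hn
  have hd := hn
  simp only [List.nodup_cons, List.mem_cons, List.not_mem_nil, or_false, not_or,
    not_false_eq_true, List.nodup_nil, and_true] at hd
  obtain ⟨⟨hij, hik, hil, him⟩, ⟨hjk, hjl, hjm⟩, ⟨hkl, hkm⟩, hlm⟩ := hd
  -- `f l = 1`, `f m = z m` from `R1`
  have key : ∀ f : Fin 5 → G, (∀ t, f t = 1 ∨ f t = z t) → f l * f m = z m → f l = 1 ∧ f m = z m := by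
    intro f hf e
    rcases hf l with e1 | e1 <;> rcases hf m with e2 | e2 <;> rw [e1, e2] at e
    · rw [one_mul] at e
      exact absurd e.symm (h.ne_one m)
    · exact ⟨e1, e2⟩
    · rw [mul_one] at e
      exact absurd e (h.ne l m hlm)
    · exact absurd (h.cancel e) (h.ne_one l)
  have sw : ∀ {a b : G}, ⁅a, b⁆ = z m → ⁅b, a⁆ = z m := by
    intro a b e
    have := h.swap (c := 1) (d := z m) ⟨m, Or.inl rfl⟩ ⟨m, Or.inr rfl⟩ (by rw [e, one_mul])
    rwa [one_mul] at this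
  obtain ⟨f, hf, h1, h2, h3⟩ := h.act i j k l m hn (u s(i, k) l) (h.uz _ _)
  obtain ⟨f', hf', h1', h2', h3'⟩ := h.act i k j l m hn1 (u s(i, j) l) (h.uz _ _)
  obtain ⟨e1, e2⟩ := key f hf (by rw [← h1]; exact sw (h.R1 hn1))
  obtain ⟨e1', e2'⟩ := key f' hf' (by rw [← h1']; exact sw (h.R1 hn))
  have h4 : ⁅u s(i, k) l, u s(i, j) l⁆ = f' j * f' m :=
    h.swap ⟨j, hf' j⟩ ⟨m, hf' m⟩ h2'
  have hfk : f k = 1 := by
    rcases hf k with e | e
    · exact e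
    · exfalso
      rw [h2, e, e2, e2'] at h4
      have h5 := mul_right_cancel h4
      rcases hf' j with e' | e'
      · exact h.ne_one k (h5.trans e')
      · exact h.ne k j (Ne.symm hjk) (h5.trans e')
  rw [h2, h3, hfk, e1, e2, one_mul, one_mul]
  exact ⟨rfl, rfl⟩

theorem comm_mul {a b w : G} (ha : a * ⁅b, w⁆ = ⁅b, w⁆ * a) : ⁅a * b, w⁆ = ⁅b, w⁆ * ⁅a, w⁆ := by
  have e : b * w * b⁻¹ = ⁅b, w⁆ * w := by rw [commutatorElement_def]; group
  calc ⁅a * b, w⁆ = a * (b * w * b⁻¹) * a⁻¹ * w⁻¹ := by rw [commutatorElement_def]; group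
    _ = (a * ⁅b, w⁆) * w * a⁻¹ * w⁻¹ := by rw [e]; group
    _ = ⁅b, w⁆ * ⁅a, w⁆ := by rw [ha, commutatorElement_def a w]; group

/-- **#12894 (20).** There is no Petersen configuration. -/
theorem false (h : Pet z u) : False := by
  have hn : [(0 : Fin 5), 1, 2, 3, 4].Nodup := by decide
  -- `g = u₀₂¹ u₂₃¹ u₂₄¹`
  have hg : ∀ t, u s(0, 2) 1 * u s(2, 3) 1 * u s(2, 4) 1 * z t =
      z t * (u s(0, 2) 1 * u s(2, 3) 1 * u s(2, 4) 1) := by
    intro t
    rw [mul_assoc, h.uz, ← mul_assoc, mul_assoc (u s(0, 2) 1), h.uz, ← mul_assoc, h.uz]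
    group
  have tri : ∀ {w x y v : G}, ⁅u s(0, 2) 1, w⁆ = x → ⁅u s(2, 3) 1, w⁆ = y → ⁅u s(2, 4) 1, w⁆ = v →
      (y = 1 ∨ ∃ t, y = z t) → (v = 1 ∨ ∃ t, v = z t) →
      ⁅u s(0, 2) 1 * u s(2, 3) 1 * u s(2, 4) 1, w⁆ = v * (y * x) := by
    intro w x y v h1 h2 h3 hy hv
    have c : ∀ x m, ∀ a : G, (a = 1 ∨ ∃ t, a = z t) → u x m * a = a * u x m := by
      rintro x m a (rfl | ⟨t, rfl⟩)
      · rw [mul_one, one_mul]
      · exact h.uz _ _ _
    rw [comm_mul, h3, comm_mul, h2, h1]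
    · rw [h2]; exact c _ _ _ hy
    · rw [h3, mul_assoc, c _ _ _ hv, ← mul_assoc, c _ _ _ hv, mul_assoc]
  -- on `u₀₁⁴`
  have a1 : ⁅u s(0, 2) 1, u s(0, 1) 4⁆ = z 3 := h.R1 (i := 0) (j := 1) (k := 2) (l := 4) (m := 3) (by decide)
  have a2 : ⁅u s(2, 3) 1, u s(0, 1) 4⁆ = 1 := by
    have := h.adj_one 0 1 2 3 4 1 (by decide) (by decide) (by decide)
    rw [← commutatorElement_inv, this, inv_one]
  have a3 : ⁅u s(2, 4) 1, u s(0, 1) 4⁆ = z 3 := by
    have := h.adj 4 2 1 0 3 (by decide)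
    rwa [Sym2.eq_swap (a := (4 : Fin 5)), Sym2.eq_swap (a := (1 : Fin 5))] at this
  have b1 := tri a1 a2 a3 (Or.inl rfl) (Or.inr ⟨3, rfl⟩)
  rw [one_mul, h.sq] at b1
  -- on `u₀₁³`
  have c1 : ⁅u s(0, 2) 1, u s(0, 1) 3⁆ = z 4 := h.R1 (i := 0) (j := 1) (k := 2) (l := 3) (m := 4) (by decide)
  have c2 : ⁅u s(2, 3) 1, u s(0, 1) 3⁆ = z 4 := by
    have := h.adj 3 2 1 0 4 (by decide)
    rwa [Sym2.eq_swap (a := (3 : Fin 5)), Sym2.eq_swap (a := (1 : Fin 5))] at this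
  have c3 : ⁅u s(2, 4) 1, u s(0, 1) 3⁆ = 1 := by
    have := h.adj_one 0 1 2 4 3 1 (by decide) (by decide) (by decide)
    rw [← commutatorElement_inv, this, inv_one]
  have d1 := tri c1 c2 c3 (Or.inr ⟨4, rfl⟩) (Or.inl rfl)
  rw [one_mul, h.sq] at d1
  -- on `u₀₁²`
  obtain ⟨f, hf, e1, e2, e3⟩ := h.act 0 1 2 3 4 hn _ hg
  rw [d1] at e2
  rw [b1] at e3
  have f2 : f 2 = 1 := by
    rcases hf 2 with e | e
    · exact e
    · rw [e] at e2 e3
      rcases hf 4 with e' | e' <;> rw [e'] at e2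
      · rw [mul_one] at e2
        exact absurd e2.symm (h.ne_one 2)
      · exact absurd (mul_eq_one_iff_eq_inv.mp e2.symm |>.trans (h.inv_z 4)) (h.ne 2 4 (by decide))
  rw [f2, one_mul] at e2 e3
  rw [← e2, ← e3, one_mul] at e1
  -- on `u₂₃⁴`
  have g1 : ⁅u s(0, 2) 1, u s(2, 3) 4⁆ = 1 := by
    have := (h.R2 (i := 2) (j := 3) (k := 0) (l := 1) (m := 4) (by decide)).2
    rwa [Sym2.eq_swap (a := (2 : Fin 5)) (b := 0)] at this
  have g2 : ⁅u s(2, 3) 1, u s(2, 3) 4⁆ = 1 := h.ab _ _ _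
  have g3 : ⁅u s(2, 4) 1, u s(2, 3) 4⁆ = z 0 := by
    have := h.R1 (i := 2) (j := 4) (k := 3) (l := 1) (m := 0) (by decide)
    have h2 := h.swap (c := 1) (d := z 0) ⟨0, Or.inl rfl⟩ ⟨0, Or.inr rfl⟩ (by rw [this, one_mul])
    rwa [one_mul] at h2
  have g4 := tri g1 g2 g3 (Or.inl rfl) (Or.inr ⟨0, rfl⟩)
  rw [one_mul, mul_one] at g4
  have key := h.fin 0 1 2 3 4 hn _ hg e1 d1 b1
  rw [g4] at key
  rcases key with e | e
  · exact h.ne_one 0 e
  · exact h.ne_one 1 (mul_eq_left.mp e.symm)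

end Pet

end Cfsg.Agent.Omega.TTn
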